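import Mathlib.GroupTheory.Subgroup.Centralizer
import Mathlib.GroupTheory.Subgroup.Simple
import Mathlib.GroupTheory.OrderOfElement

/-!
# The centraliser of an involution of the second class in a group of Suzuki type

`TFrame z` collects what the local analysis at `z` and at a second-class involution `t` gives:
`C(t) = (E × L) ⟨σ⟩` with `E` a four group of second-class involutions, `L` simple of order 20160,
and an element `d` of order three that centralises `L` and permutes `E`.
-/

set_option autoImplicit false

namespace CfsgLib.InvChar.SuzT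

open Subgroup

universe u

/-- The structure of the centraliser of a second-class involution. -/
structure TFrame {G : Type u} [Group G] (z : G) where
  /-- The involution of the second class. -/
  t : G
  /-- The four group. -/
  E : Subgroup G
  /-- The simple component. -/
  L : Subgroup G
  /-- An element of the centraliser of `t` outside `C(E)`. -/
  σ : G
  /-- An element of order three centralising `L`. -/
  d : G
  not_conj : ¬ IsConj z t
  classes : ∀ x : G, orderOf x = 2 → IsConj x z ∨ IsConj x t
  t_mem : t ∈ E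
  t_ne : t ≠ 1
  cardE : Nat.card E = 4
  sqE : ∀ e ∈ E, e * e = 1
  E_class : ∀ e ∈ E, e ≠ 1 → IsConj e t
  z_mem : z ∈ L
  cardL : Nat.card L = 20160
  simpleL : IsSimpleGroup L
  L_class : ∀ x ∈ L, orderOf x = 2 → IsConj x z
  /-- Elements of order five and seven are self-centralising in `L`. -/
  L_self : ∀ x ∈ L, (orderOf x = 5 ∨ orderOf x = 7) → ∀ y ∈ L, y * x = x * y → y ∈ zpowers x
  /-- The normaliser in `L` of a subgroup of order seven has order 21. -/
  L_norm : ∀ B : Subgroup G, B ≤ L → Nat.card B = 7 →
    Nat.card ↥(normalizer (B : Set G) ⊓ L) = 21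
  cent_E : ∀ g : G, g ∈ centralizer (E : Set G) ↔ ∃ e ∈ E, ∃ l ∈ L, g = e * l
  comm : ∀ e ∈ E, ∀ l ∈ L, e * l = l * e
  disj : ∀ e ∈ E, e ∈ L → e = 1
  σ_mem : σ * t = t * σ
  σ_move : ∀ e ∈ E, e ≠ 1 → e ≠ t → σ * e * σ⁻¹ = e * t
  cent_t : ∀ g : G, g * t = t * g → g ∈ centralizer (E : Set G) ∨ g * σ⁻¹ ∈ centralizer (E : Set G)
  /-- Outside `C(E)` nothing in `C(t)` centralises an element of order five or seven of `L`. -/
  outer : ∀ g : G, g * t = t * g → g ∉ centralizer (E : Set G) →
    ∀ x ∈ L, (orderOf x = 5 ∨ orderOf x = 7) → g * x ≠ x * g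
  d_three : d ^ 3 = 1
  d_comm : ∀ l ∈ L, d * l = l * d
  d_norm : ∀ e ∈ E, d * e * d⁻¹ ∈ E
  d_move : d * t * d⁻¹ ≠ t
  /-- The centraliser of `z` has no elements of order seven. -/
  cz_seven : ∀ g : G, g * z = z * g → orderOf g ≠ 7
  /-- An element of order five of the centraliser of `z` has a centraliser of order 40 there. -/
  cz_five : ∀ y : G, orderOf y = 5 → y * z = z * y →
    Nat.card ↥(centralizer ({z} : Set G) ⊓ centralizer ({y} : Set G)) = 40
  d_card : Nat.card ↥(centralizer ({d} : Set G)) ≤ 9797760

end CfsgLib.InvChar.SuzT
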