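import Cfsg.Agent.Lib.InvChar.SuzT.Group
import Cfsg.Agent.Lib.InvChar.SuzT.TFrame
import Mathlib.GroupTheory.Sylow

/-!
# The classes in `C(z, t)`; it is a Sylow 2-subgroup of `C(t)`

Every involution of `C(t)` conjugate to `z` is conjugate to `z` under `C(t)`.
-/

set_option autoImplicit false
set_option linter.unusedSectionVars false

namespace CfsgLib.InvChar.SuzT

open Subgroup SuzType

variable {G : Type*} [Group G] [Finite G]

/-- `C(z, t)`. -/
def Xg (z t : G) : Subgroup G := centralizer ({z} : Set G) ⊓ centralizer ({t} : Set G)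

/-- `C(z, u, t)`. -/
def X0g (z u t : G) : Subgroup G := Xg z t ⊓ centralizer ({u} : Set G)

theorem mem_Xg {z t g : G} : g ∈ Xg z t ↔ g * z = z * g ∧ g * t = t * g := by
  simp only [Xg, mem_inf, mem_centralizer_singleton_iff, eq_comm]

theorem mem_X0g {z u t g : G} : g ∈ X0g z u t ↔ g * z = z * g ∧ g * t = t * g ∧ g * u = u * g := by
  simp only [X0g, mem_inf, mem_Xg, mem_centralizer_singleton_iff, and_assoc, eq_comm]

set_option synthInstance.maxSize 1000 in
theorem centre_par : ∀ p : W × W, InC p → qW p.1 = 0 → qW p.2 = 0 → bW p.1 p.2 = 0 →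
    (∀ q : W × W, InC q → bW p.1 q.1 + bW p.1 q.2 + bW q.1 p.2 = 0 ∧
      bW p.2 q.2 + bW p.1 q.2 + bW q.1 p.2 = 0) → p = 0 := by
  unfold qW bW InC
  decide +kernel

variable {z u : G} {Q Q' : Subgroup G} {φ φ' : G → V} (P : Pair z u Q Q' φ φ') {t : G} (C : Ctx P t)
include P C

theorem t_not_z : ¬ IsConj z t := by
  obtain ⟨a, ha, b, hb, hau, hbz, rfl, hv, hw⟩ := exists_rep P C.par
  exact P.std_not_conj ha hau hb hbz hv hw

theorem t_ne : t ≠ 1 := fun e => by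
  have := HasPar.ext_par P C.par (e ▸ HasPar.one P)
  exact absurd this (by decide +kernel)

theorem order_t : orderOf t = 2 := orderOf_eq_prime (by rw [pow_two]; exact C.sq) (t_ne P C)

theorem classes {x : G} (hx : orderOf x = 2) : IsConj x z ∨ IsConj x t := by
  obtain ⟨a, ha, b, hb, hau, hbz, rfl, hv, hw⟩ := exists_rep P C.par
  exact P.two_classes ha hau hb hbz hv hw hx

theorem comm_tz : t * z = z * t := HasPar.comm_z P C.par

theorem comm_tu : t * u = u * t := HasPar.comm_u P C.par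

theorem mem_X0_iff {g : G} : g ∈ X0g z u t ↔ ∃ p, HasPar P g p ∧ InC p := by
  rw [mem_X0g]
  constructor
  · rintro ⟨h1, h2, h3⟩
    exact mem_X0 P C h1 h3 h2
  · rintro ⟨p, hp, hc⟩
    exact ⟨HasPar.comm_z P hp, (comm_iff P C hp).2 hc, HasPar.comm_u P hp⟩

/-- An involution with parameters is in the class of `z` exactly when they are orthogonal. -/
theorem conj_z_iff {g : G} {p : W × W} (h : HasPar P g p) (hgg : g * g = 1) (hg1 : g ≠ 1) :
    IsConj g z ↔ bW p.1 p.2 = 0 := by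
  refine ⟨fun hz => (z2_cases' _).resolve_right fun e => ?_, isConj_z_of_par P h hgg hg1⟩
  obtain ⟨k, -, hk⟩ := exists_conj_t P C h hgg e
  exact t_not_z P C (hz.symm.trans (isConj_iff.2 ⟨k, hk⟩))

theorem card_X0 : Nat.card (X0g z u t) = 256 := by
  classical
  choose e he using fun p : {p : W × W // InC p} => HasPar.exists_elt P p.1
  let F : {p : W × W // InC p} × ZMod 2 × ZMod 2 → X0g z u t := fun x =>
    ⟨P.cz x.2.1 x.2.2 * e x.1, (mem_X0_iff P C).2 ⟨x.1.1, by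
      simpa using HasPar.mul P (HasPar.of_inR P (P.inR_cz x.2.1 x.2.2)) (he x.1), x.1.2⟩⟩
  have hF : Function.Bijective F := by
    refine ⟨fun x y h => ?_, fun g => ?_⟩
    · have h' : P.cz x.2.1 x.2.2 * e x.1 = P.cz y.2.1 y.2.2 * e y.1 := congrArg Subtype.val h
      have hp : ∀ x : {p : W × W // InC p} × ZMod 2 × ZMod 2,
          HasPar P (P.cz x.2.1 x.2.2 * e x.1) x.1.1 := fun x => by
        simpa using HasPar.mul P (HasPar.of_inR P (P.inR_cz x.2.1 x.2.2)) (he x.1)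
      have e1 : x.1 = y.1 := Subtype.ext (HasPar.ext_par P (hp x) (h' ▸ hp y))
      rw [e1] at h'
      have e2 := mul_right_cancel h'
      have e3 : P.cz (x.2.1 + y.2.1) (x.2.2 + y.2.2) = 1 := by
        rw [P.cz_add, e2, ← P.cz_add, z2_self, z2_self, P.cz_zero]
      obtain ⟨a, b⟩ := P.cz_eq_one e3
      have key : ∀ a b : ZMod 2, a + b = 0 → a = b := by decide
      exact Prod.ext e1 (Prod.ext (key _ _ a) (key _ _ b))
    · obtain ⟨p, hp, hc⟩ := (mem_X0_iff P C).1 g.2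
      obtain ⟨i, j, hij⟩ := eq_mul_cz P (he ⟨p, hc⟩) hp
      exact ⟨(⟨p, hc⟩, i, j), Subtype.ext hij.symm⟩
  rw [← Nat.card_congr (Equiv.ofBijective F hF), Nat.card_prod, Nat.card_prod, Nat.card_zmod,
    Nat.card_eq_fintype_card, show Fintype.card {p : W × W // InC p} = 64 by decide +kernel]

/-- An element of `C(z, t)` fixes `u` or sends it to `u * z`. -/
theorem move_u {g : G} (hg : g ∈ Xg z t) : g * u = u * g ∨ g * u * g⁻¹ = u * z := by
  obtain ⟨a, ha, b, hb, hau, hbz, rfl, hv, hw⟩ := exists_rep P C.par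
  obtain ⟨h1, h2⟩ := mem_Xg.1 hg
  refine (P.rad_commute ha hau hb hbz hv hw h1 h2).imp_left fun e => ?_
  rwa [← mul_inv_eq_iff_eq_mul]

theorem relIndex_X0 : (X0g z u t).relIndex (Xg z t) = 2 := by
  obtain ⟨w, hwz, hwt, hwu, -⟩ := exists_outer P C
  have hw : w ∈ Xg z t := mem_Xg.2 ⟨hwz, hwt⟩
  have hwz' : w * z * w⁻¹ = z := by rw [hwz, mul_inv_cancel_right]
  rw [Subgroup.relIndex, Subgroup.index_eq_two_iff]
  refine ⟨⟨w, hw⟩, fun b => ?_⟩
  have hb := mem_Xg.1 b.2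
  have hbz : (b : G) * z * (b : G)⁻¹ = z := by rw [hb.1, mul_inv_cancel_right]
  have key : ∀ c : Xg z t, c ∈ (X0g z u t).subgroupOf (Xg z t) ↔ (c : G) * u * (c : G)⁻¹ = u := by
    intro c
    rw [mem_subgroupOf, mem_X0g, mul_inv_eq_iff_eq_mul]
    exact ⟨fun h => h.2.2, fun h => ⟨(mem_Xg.1 c.2).1, (mem_Xg.1 c.2).2, h⟩⟩
  have huz : u * z ≠ u := fun e => P.S.zne (mul_eq_left.1 e)
  rw [key, key, Subgroup.coe_mul]
  rw [show (b : G) * w * u * ((b : G) * w)⁻¹ = (b : G) * (w * u * w⁻¹) * (b : G)⁻¹ by group, hwu,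
    show (b : G) * (u * z) * (b : G)⁻¹ = (b : G) * u * (b : G)⁻¹ * ((b : G) * z * (b : G)⁻¹) by group,
    hbz]
  rcases move_u P C b.2 with e | e
  · rw [← mul_inv_eq_iff_eq_mul] at e
    rw [e]
    exact Or.inr ⟨rfl, huz⟩
  · rw [e, mul_assoc, P.S.zz, mul_one]
    exact Or.inl ⟨rfl, huz⟩

theorem card_X : Nat.card (Xg z t) = 512 := by
  have h := (X0g z u t).subgroupOf (Xg z t)
  have e := ((X0g z u t).subgroupOf (Xg z t)).card_mul_index
  rw [show ((X0g z u t).subgroupOf (Xg z t)).index = 2 from relIndex_X0 P C,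
    Nat.card_congr (subgroupOfEquivOfLe (show X0g z u t ≤ Xg z t from inf_le_left)).toEquiv,
    card_X0 P C] at e
  omega

/-- A conjugate of `z` centralised by `C(z, t)` and lying in it is `z`. -/
theorem eq_z_of_central {g : G} (hg : g ∈ Xg z t) (hz : IsConj g z)
    (hc : ∀ h ∈ Xg z t, h * g = g * h) : g = z := by
  obtain ⟨w, hwz, hwt, hwu, hwp⟩ := exists_outer P C
  have hw : w ∈ Xg z t := mem_Xg.2 ⟨hwz, hwt⟩
  have huX : u ∈ Xg z t := mem_Xg.2 ⟨P.zu.symm, (comm_tu P C).symm⟩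
  have hgu : g * u = u * g := (hc u huX).symm
  obtain ⟨hgz, hgt⟩ := mem_Xg.1 hg
  obtain ⟨p, hp, hC⟩ := mem_X0 P C hgz hgu hgt
  have hord : g * g = 1 := by
    obtain ⟨k, hk⟩ := isConj_iff.1 hz.symm
    rw [← hk, show k * z * k⁻¹ * (k * z * k⁻¹) = k * (z * z) * k⁻¹ by group, P.S.zz]; group
  have hg1 : g ≠ 1 := fun e => P.S.zne (by
    obtain ⟨k, hk⟩ := isConj_iff.1 hz
    rw [e] at hk; simpa using hk.symm)
  have hB := (conj_z_iff P C hp hord hg1).1 hz
  have hs := HasPar.sq P hp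
  rw [hord, hB, add_zero, add_zero] at hs
  obtain ⟨hq1, hq2⟩ := P.cz_eq_one hs.symm
  have hcen : ∀ q : W × W, InC q → bW p.1 q.1 + bW p.1 q.2 + bW q.1 p.2 = 0 ∧
      bW p.2 q.2 + bW p.1 q.2 + bW q.1 p.2 = 0 := by
    intro q hq
    obtain ⟨h, hh⟩ := HasPar.exists_elt P q
    have hh' : h ∈ Xg z t := ((mem_X0_iff P C).2 ⟨q, hh, hq⟩).1
    have hr := HasPar.rel P hp hh
    rw [Pair.Rel, ← hc h hh'] at hr
    exact P.cz_eq_one (mul_eq_right.1 hr.symm)
  have hp0 : p = 0 := centre_par p hC hq1 hq2 hB hcen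
  subst hp0
  rcases HasPar.inR_of_zero P hp with e | e | e | e
  · exact absurd e hg1
  · exact e
  · exfalso
    have := hc w hw
    rw [e, ← mul_inv_eq_iff_eq_mul, hwu] at this
    exact P.S.zne (mul_eq_left.1 this)
  · exfalso
    have := hc w hw
    rw [e, ← mul_inv_eq_iff_eq_mul, show w * (z * u) * w⁻¹ = w * z * w⁻¹ * (w * u * w⁻¹) by group,
      hwu, hwz, mul_inv_cancel_right, ← mul_assoc] at this
    exact P.S.zne (mul_eq_left.1 this)

/-- `C(z, t)` is a Sylow 2-subgroup of `C(t)`. -/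
theorem isSylow_X : IsPGroup 2 (Xg z t) ∧
    ¬ 2 ∣ (Xg z t).relIndex (centralizer ({t} : Set G)) := by
  haveI : Fact (Nat.Prime 2) := ⟨Nat.prime_two⟩
  have hp : IsPGroup 2 (Xg z t) := IsPGroup.of_card (n := 9) (by rw [card_X P C]; norm_num)
  refine ⟨hp, ?_⟩
  have hle : Xg z t ≤ centralizer ({t} : Set G) := inf_le_right
  obtain ⟨S, hS⟩ := (hp.comap_of_injective (centralizer ({t} : Set G)).subtype
    (subtype_injective _)).exists_le_sylow
  have hS' : (Xg z t).subgroupOf (centralizer ({t} : Set G)) = S := by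
    refine le_antisymm hS ?_
    by_contra hlt
    set T := (Xg z t).subgroupOf (centralizer ({t} : Set G))
    have hTS : T.subgroupOf (S : Subgroup _) < ⊤ := lt_top_iff_ne_top.2 fun e => hlt fun x hx => by
      have : (⟨x, hx⟩ : (S : Subgroup _)) ∈ T.subgroupOf (S : Subgroup _) := e ▸ mem_top _
      exact this
    haveI := S.2.isNilpotent
    obtain ⟨n, hn, hnT⟩ := SetLike.exists_of_lt (Group.normalizerCondition_of_isNilpotent _ hTS)
    refine hnT ?_
    obtain ⟨nt, hnt⟩ : ∃ x : G, x = ((n : ↥(centralizer ({t} : Set G))) : G) := ⟨_, rfl⟩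
    have ht : nt * t = t * nt := hnt ▸ mem_centralizer_singleton_iff.1 (n : ↥(centralizer ({t} : Set G))).2
    have hnorm : ∀ x ∈ Xg z t, nt * x * nt⁻¹ ∈ Xg z t ∧ nt⁻¹ * x * nt ∈ Xg z t := by
      intro x hx
      have hxS : (⟨x, hle hx⟩ : ↥(centralizer ({t} : Set G))) ∈ (S : Subgroup _) := hS hx
      refine ⟨?_, ?_⟩
      · have := (mem_normalizer_iff.1 hn ⟨_, hxS⟩).1 (show x ∈ Xg z t from hx)
        simpa [hnt, T, mem_subgroupOf] using this
      · have := (mem_normalizer_iff.1 (inv_mem hn) ⟨_, hxS⟩).1 (show x ∈ Xg z t from hx)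
        simpa [hnt, T, mem_subgroupOf] using this
    have hzX : z ∈ Xg z t := mem_Xg.2 ⟨rfl, (comm_tz P C).symm⟩
    have e : nt * z * nt⁻¹ = z := by
      refine eq_z_of_central P C (hnorm z hzX).1 (isConj_iff.2 ⟨nt, rfl⟩).symm fun h hh => ?_
      have := (mem_Xg.1 (hnorm h hh).2).1
      calc h * (nt * z * nt⁻¹) = nt * (nt⁻¹ * h * nt * z) * nt⁻¹ := by group
        _ = nt * (z * (nt⁻¹ * h * nt)) * nt⁻¹ := by rw [this]
        _ = nt * z * nt⁻¹ * h := by group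
    show ((n : ↥(centralizer ({t} : Set G))) : G) ∈ Xg z t
    rw [← hnt]
    exact mem_Xg.2 ⟨by rwa [← mul_inv_eq_iff_eq_mul], ht⟩
  show ¬ 2 ∣ ((Xg z t).subgroupOf (centralizer ({t} : Set G))).index
  rw [hS']
  exact S.not_dvd_index

/-- Conjugates of `z` in `C(t)` are conjugate to `z` there. -/
theorem conj_in_K {a : G} (ha : IsConj a z) (hat : a * t = t * a) :
    ∃ k : G, k * t = t * k ∧ k * a * k⁻¹ = z := by
  obtain ⟨g, hg⟩ := isConj_iff.1 ha
  obtain ⟨a₀, ha₀, b₀, hb, hau, hbz, e, hv, hw⟩ := exists_rep P C.par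
  obtain ⟨t', ht'⟩ : ∃ t', t' = g * t * g⁻¹ := ⟨_, rfl⟩
  have htz : t' * z = z * t' := by
    rw [ht', ← hg, show g * t * g⁻¹ * (g * a * g⁻¹) = g * (t * a) * g⁻¹ by group, ← hat]; group
  have htt : t' * t' = 1 := by
    rw [ht', show g * t * g⁻¹ * (g * t * g⁻¹) = g * (t * t) * g⁻¹ by group, C.sq]; group
  have ht1 : t' ≠ 1 := fun h => t_ne P C (conj_eq_one_iff.1 (ht'.symm.trans h))
  have hconj : IsConj t t' := isConj_iff.2 ⟨g, ht'.symm⟩
  have hnQ : t' ∉ Q := fun h => t_not_z P C ((hconj.trans (P.isConj_of_mem h htt ht1)).symm)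
  rcases P.invol_cases ha₀ hau hb hbz hv hw htz htt hnQ with ⟨g', hg'Q, hne, q, hq, hq'⟩ | ⟨h, hh, hh'⟩
  · exfalso
    simp only [MulEquiv.coe_toMonoidHom, MulAut.conj_apply] at hq'
    refine t_not_z P C ((hconj.trans ?_).symm)
    refine (isConj_iff.2 ⟨g', hq'⟩ : IsConj q t').symm.trans (P.isConj_of_mem hq ?_ ?_)
    · rw [← conj_eq_one_iff (a := g'), show g' * (q * q) * g'⁻¹ = (g' * q * g'⁻¹) * (g' * q * g'⁻¹) by
        group, hq', htt]
    · intro h; rw [h, mul_one, mul_inv_cancel] at hq'; exact ht1 hq'.symm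
  · refine ⟨h * g, ?_, ?_⟩
    · rw [← mul_inv_eq_iff_eq_mul, show h * g * t * (h * g)⁻¹ = h * (g * t * g⁻¹) * h⁻¹ by group, ← ht',
        hh', e]
    · rw [show h * g * a * (h * g)⁻¹ = h * (g * a * g⁻¹) * h⁻¹ by group, hg, hh, mul_inv_cancel_right]

end CfsgLib.InvChar.SuzT
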