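import Mathlib.GroupTheory.Transfer
import Mathlib.GroupTheory.SpecificGroups.Cyclic
import Mathlib.GroupTheory.Subgroup.Simple
import Mathlib.Tactic.NormNum.Prime
import Mathlib.Tactic.IntervalCases
import Mathlib.Tactic.Linarith

/-!
# Elements of order five and seven in a simple group of order 20160 with 2-groups as involution
centralisers
-/

set_option autoImplicit false
set_option linter.unusedSectionVars false

namespace CfsgLib.InvChar.SuzT

open Subgroup

variable {K : Type*} [Group K] [Finite K]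

/-- An element of order `p` normalising a Sylow subgroup of order `p` lies in it. -/
theorem mem_of_normalises {B H : Subgroup K} {p : ℕ} (hp : p.Prime) (hBH : B ≤ H)
    (hH : H ≤ normalizer (B : Set K)) (hidx : ¬ p ∣ B.relIndex H) {y : K} (hy : y ∈ H)
    (hyp : y ^ p = 1) : y ∈ B := by
  have : (B.subgroupOf H).Normal := ⟨fun a ha g => by
    rw [mem_subgroupOf] at ha ⊢
    simp only [Subgroup.coe_mul, InvMemClass.coe_inv]
    exact (mem_normalizer_iff.1 (hH g.2) _).1 ha⟩
  have hk := (B.subgroupOf H).pow_index_mem ⟨y, hy⟩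
  rw [mem_subgroupOf, Subgroup.coe_pow] at hk
  change y ^ B.relIndex H ∈ B at hk
  have hg : y ^ ((1 : ℕ) : ℤ) ∈ B := by
    have hco : Nat.Coprime (B.relIndex H) p := ((Nat.Prime.coprime_iff_not_dvd hp).2 hidx).symm
    have hb := Nat.gcd_eq_gcd_ab (B.relIndex H) p
    rw [Nat.Coprime] at hco
    rw [hco] at hb
    rw [hb, zpow_add, zpow_mul, zpow_mul, zpow_natCast, zpow_natCast, hyp, one_zpow, mul_one]
    exact zpow_mem hk _
  simpa using hg

theorem comm_of_prime {B : Subgroup K} {p : ℕ} [Fact p.Prime] (hB : Nat.card B = p) {x y : K}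
    (hx : x ∈ B) (hy : y ∈ B) : x * y = y * x := by
  have : IsCyclic B := isCyclic_of_prime_card hB
  have : IsMulCommutative B := IsCyclic.isMulCommutative
  exact congrArg Subtype.val (mul_comm' (⟨x, hx⟩ : B) ⟨y, hy⟩)

/-- The data of a Sylow subgroup of prime order `p`. -/
theorem sylow_facts {B : Subgroup K} {p : ℕ} [Fact p.Prime] (hB : Nat.card B = p)
    (hK : ¬ p * p ∣ Nat.card K) :
    (normalizer (B : Set K)).index % p = 1 ∧
    (normalizer (B : Set K)).index * Nat.card (normalizer (B : Set K)) = Nat.card K ∧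
    (centralizer (B : Set K)).relIndex (normalizer (B : Set K)) ∣ p - 1 ∧
    Nat.card (centralizer (B : Set K)) * (centralizer (B : Set K)).relIndex (normalizer (B : Set K)) =
      Nat.card (normalizer (B : Set K)) ∧ p ∣ Nat.card (centralizer (B : Set K)) := by
  have hp := (Fact.out : p.Prime)
  obtain ⟨S, hS⟩ := (IsPGroup.of_card (n := 1) (by rw [hB, pow_one]) : IsPGroup p B).exists_le_sylow
  have hBS : B = S := by
    refine eq_of_le_of_card_ge hS ?_
    obtain ⟨n, hn⟩ := S.2.exists_card_eq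
    rw [hB, hn]
    rcases Nat.lt_or_ge n 2 with h | h
    · exact le_trans (Nat.pow_le_pow_right hp.pos (by omega : n ≤ 1)) (pow_one p).le
    · exact absurd ((pow_two p ▸ pow_dvd_pow p h).trans (hn ▸ (S : Subgroup K).card_subgroup_dvd_card)) hK
  have : IsCyclic B := isCyclic_of_prime_card hB
  have hc : p ∣ Nat.card (centralizer (B : Set K)) := hB ▸ card_dvd_of_le (fun x hx =>
    mem_centralizer_iff.2 fun y hy => by
      exact comm_of_prime hB hy hx)
  refine ⟨?_, (normalizer (B : Set K)).index_mul_card, ?_, ?_, hc⟩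
  · rw [hBS]
    have h' : Nat.card (Sylow p K) = (normalizer ((S : Subgroup K) : Set K)).index :=
      S.card_eq_index_normalizer
    rw [← h']
    have := card_sylow_modEq_one p K
    rw [Nat.ModEq, Nat.one_mod_eq_one.2 hp.ne_one] at this
    exact this
  · rw [relIndex, ← normalizerMonoidHom_ker, index_ker]
    have h := card_subgroup_dvd_card (B.normalizerMonoidHom).range
    rwa [IsCyclic.card_mulAut, hB, Nat.totient_prime hp] at h
  · have h := ((centralizer (B : Set K)).subgroupOf (normalizer (B : Set K))).card_mul_index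
    rwa [Nat.card_congr (subgroupOfEquivOfLe (show centralizer (B : Set K) ≤ normalizer (B : Set K) from
      centralizer_le_normalizer (B : Set K))).toEquiv] at h

variable (hcard : Nat.card K = 20160)
  (hinv : ∀ w : K, w * w = 1 → w ≠ 1 → IsPGroup 2 (centralizer ({w} : Set K)))
include hcard hinv

theorem odd_centralizer {B : Subgroup K} {p : ℕ} [Fact p.Prime] (hp : p ≠ 2) (hB : Nat.card B = p) :
    ¬ 2 ∣ Nat.card (centralizer (B : Set K)) := by
  intro h
  have : Fact (Nat.Prime 2) := ⟨Nat.prime_two⟩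
  obtain ⟨w, hw⟩ := exists_prime_orderOf_dvd_card' 2 h
  obtain ⟨x, hx⟩ := exists_prime_orderOf_dvd_card' (G := B) p (by rw [hB])
  have hw2 : orderOf (w : K) = 2 := by
    rw [← (centralizer (B : Set K)).subtype_apply, orderOf_injective _ (Subgroup.subtype_injective _), hw]
  have hx2 : orderOf (x : K) = p := by
    rw [← B.subtype_apply, orderOf_injective _ B.subtype_injective, hx]
  obtain ⟨j, hj⟩ := hinv w (by rw [← pow_two, ← hw2]; exact pow_orderOf_eq_one (w : K))
    (fun e => by rw [e, orderOf_one] at hw2; omega)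
    ⟨x, mem_centralizer_singleton_iff.2 (mem_centralizer_iff.1 w.2 _ x.2)⟩
  have hd : p ∣ 2 ^ j := hx2 ▸ orderOf_dvd_of_pow_eq_one (congrArg Subtype.val hj)
  exact hp ((Nat.prime_dvd_prime_iff_eq Fact.out Nat.prime_two).1 ((Fact.out : p.Prime).dvd_of_dvd_pow hd))

variable [IsSimpleGroup K]

omit hinv in
theorem not_normal {B : Subgroup K} {p : ℕ} [Fact p.Prime] (hp : p < 20160) (hB : Nat.card B = p) :
    (normalizer (B : Set K)).index ≠ 1 := by
  intro h
  have : B.Normal := normalizer_eq_top_iff.1 (index_eq_one.1 h)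
  rcases this.eq_bot_or_eq_top with e | e <;> rw [e] at hB
  · rw [card_bot] at hB; exact (Fact.out : p.Prime).ne_one hB.symm
  · rw [card_top, hcard] at hB; omega

/-- No elements of order 35. -/
theorem no_thirtyfive {B P : Subgroup K} (hB : Nat.card B = 7) (hP : Nat.card P = 5)
    (hcom : P ≤ centralizer (B : Set K)) : False := by
  have : Fact (Nat.Prime 7) := ⟨by norm_num⟩
  have : Fact (Nat.Prime 5) := ⟨by norm_num⟩
  have hk7 : ¬ 7 * 7 ∣ Nat.card K := by rw [hcard]; norm_num
  have hk5 : ¬ 5 * 5 ∣ Nat.card K := by rw [hcard]; norm_num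
  have hcom' : B ≤ centralizer (P : Set K) := fun b hb => mem_centralizer_iff.2 fun x hx =>
    (mem_centralizer_iff.1 (hcom hx) b hb).symm
  -- each normaliser is contained in the other
  have key : ∀ (B P : Subgroup K) (p q : ℕ) [Fact p.Prime] [Fact q.Prime], p ≠ q → p ≠ 2 → q ≠ 2 →
      Nat.card B = p → Nat.card P = q → ¬ p * p ∣ Nat.card K → ¬ q * q ∣ Nat.card K →
      (p = 7 ∧ q = 5 ∨ p = 5 ∧ q = 7) → B ≤ centralizer (P : Set K) → P ≤ centralizer (B : Set K) →
      normalizer (P : Set K) ≤ normalizer (B : Set K) := by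
    intro B P p q _ _ hpq hp2 hq2 hB hP hkp hkq hcase hBC hPC
    set C := centralizer (P : Set K)
    have hPC' : P ≤ C := fun x hx => mem_centralizer_iff.2 fun y hy => comm_of_prime hP hy hx
    have hN : B ⊔ P ≤ C ⊓ normalizer (B : Set K) :=
      sup_le (le_inf hBC le_normalizer) (le_inf hPC' (hPC.trans (centralizer_le_normalizer _)))
    have hd : p * q ∣ Nat.card ↥(C ⊓ normalizer (B : Set K) : Subgroup K) :=
      Nat.Coprime.mul_dvd_of_dvd_of_dvd ((Nat.coprime_primes Fact.out Fact.out).2 hpq)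
        (hB ▸ card_dvd_of_le (le_sup_left.trans hN)) (hP ▸ card_dvd_of_le (le_sup_right.trans hN))
    have hCd : Nat.card C ∣ 315 := Nat.Coprime.dvd_of_dvd_mul_left
      ((Nat.coprime_two_right.2 (Nat.not_even_iff_odd.1 fun h =>
        odd_centralizer hcard hinv hq2 hP (even_iff_two_dvd.1 h))).pow_right 6)
      (show Nat.card C ∣ 2 ^ 6 * 315 by rw [show 2 ^ 6 * 315 = Nat.card K by rw [hcard]; norm_num]; exact C.card_subgroup_dvd_card)
    -- the Sylow subgroup is normal in the centraliser
    set Bc := B.subgroupOf C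
    obtain ⟨h1, h2, -, -, -⟩ := sylow_facts (K := C) (B := Bc)
      (by rw [Nat.card_congr (subgroupOfEquivOfLe hBC).toEquiv, hB])
      (fun h => hkp (h.trans C.card_subgroup_dvd_card))
    have hm : Nat.card ↥(C ⊓ normalizer (B : Set K) : Subgroup K) ∣ Nat.card (normalizer (Bc : Set C)) := by
      have hle : (C ⊓ normalizer (B : Set K)).subgroupOf C ≤ normalizer (Bc : Set C) := fun g hg =>
        mem_normalizer_iff.2 fun x => by
          simp only [Bc, mem_subgroupOf, Subgroup.coe_mul, InvMemClass.coe_inv]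
          exact mem_normalizer_iff.1 hg.2 _
      rw [← Nat.card_congr (subgroupOfEquivOfLe (inf_le_left : C ⊓ normalizer (B : Set K) ≤ C)).toEquiv]
      exact card_dvd_of_le hle
    have hone : (normalizer (Bc : Set C)).index = 1 := by
      have h9 : (normalizer (Bc : Set C)).index ∣ 9 := by
        refine Nat.dvd_of_mul_dvd_mul_right (k := p * q) (Nat.mul_pos (Fact.out : p.Prime).pos
          (Fact.out : q.Prime).pos) ?_
        refine dvd_trans ((mul_dvd_mul_left _ (hd.trans hm)).trans (dvd_of_eq h2)) ?_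
        rcases hcase with ⟨rfl, rfl⟩ | ⟨rfl, rfl⟩ <;> exact hCd
      obtain ⟨i, hi, hin⟩ := (Nat.dvd_prime_pow Nat.prime_three).1 (show _ ∣ 3 ^ 2 from h9)
      rw [hin] at h1 ⊢
      rcases hcase with ⟨rfl, rfl⟩ | ⟨rfl, rfl⟩ <;> interval_cases i <;> omega
    have hCB : C ≤ normalizer (B : Set K) := fun g hg => by
      have hg' : (⟨g, hg⟩ : C) ∈ normalizer (Bc : Set C) := (index_eq_one.1 hone) ▸ mem_top _
      refine mem_normalizer_iff.2 fun x => ?_
      constructor
      · exact fun hx => (mem_normalizer_iff.1 hg' ⟨x, hBC hx⟩).1 hx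
      · intro hx
        have := (mem_normalizer_iff.1 (inv_mem hg') ⟨g * x * g⁻¹, hBC hx⟩).1 hx
        simpa [Bc, mem_subgroupOf, mul_assoc] using this
    intro g hg
    have hBidx : ¬ p ∣ B.relIndex (normalizer (B : Set K)) := fun h => hkp (by
      refine dvd_trans ?_ (normalizer (B : Set K)).card_subgroup_dvd_card
      rw [← (B.subgroupOf (normalizer (B : Set K))).card_mul_index,
        Nat.card_congr (subgroupOfEquivOfLe (le_normalizer (H := B))).toEquiv, hB]
      exact mul_dvd_mul_left p h)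
    have hfwd : ∀ k ∈ normalizer (P : Set K), ∀ x ∈ B, k * x * k⁻¹ ∈ B := by
      intro k hk x hx
      refine mem_of_normalises Fact.out le_normalizer le_rfl hBidx (hCB ?_) ?_
      · refine mem_centralizer_iff.2 fun y hy => ?_
        have hy' : k⁻¹ * y * k ∈ P := by
          have := (mem_normalizer_iff.1 (inv_mem hk) y).1 hy
          rwa [inv_inv] at this
        calc y * (k * x * k⁻¹) = k * (k⁻¹ * y * k * x) * k⁻¹ := by group
          _ = k * (x * (k⁻¹ * y * k)) * k⁻¹ := by rw [mem_centralizer_iff.1 (hBC hx) _ hy']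
          _ = k * x * k⁻¹ * y := by group
      · rw [conj_pow, show x ^ p = 1 by
          exact congrArg Subtype.val (hB ▸ pow_card_eq_one' : (⟨x, hx⟩ : B) ^ p = 1)]
        group
    refine mem_normalizer_iff.2 fun x => ⟨hfwd g hg x, fun hx => ?_⟩
    have := hfwd g⁻¹ (inv_mem hg) _ hx
    rwa [show g⁻¹ * (g * x * g⁻¹) * g⁻¹⁻¹ = x by group] at this
  have e := le_antisymm (key B P 7 5 (by norm_num) (by norm_num) (by norm_num) hB hP hk7 hk5
    (Or.inl ⟨rfl, rfl⟩) hcom' hcom)
    (key P B 5 7 (by norm_num) (by norm_num) (by norm_num) hP hB hk5 hk7 (Or.inr ⟨rfl, rfl⟩) hcom hcom')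
  obtain ⟨h7, h7', h7a, h7c, h7d⟩ := sylow_facts hB hk7
  obtain ⟨h5, h5', h5a, h5c, h5d⟩ := sylow_facts hP hk5
  have hodd := odd_centralizer hcard hinv (p := 5) (by norm_num) hP
  have hn1 := not_normal hcard (p := 7) (by norm_num) hB
  rw [e] at h5 h5' h5a h5c
  have hd35 : 35 ∣ Nat.card (normalizer (B : Set K)) :=
    Nat.Coprime.mul_dvd_of_dvd_of_dvd (by norm_num : Nat.Coprime 7 5)
      (hB ▸ card_dvd_of_le (le_normalizer (H := B)))
      (hP ▸ card_dvd_of_le (hcom.trans (centralizer_le_normalizer _)))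
  obtain ⟨d, hd⟩ := hd35
  rw [hcard, hd, ← mul_assoc, mul_comm _ 35, mul_assoc] at h7'
  have hnd : (normalizer (B : Set K)).index * d = 576 := by omega
  have hle : (normalizer (B : Set K)).index ≤ 576 := Nat.le_of_dvd (by norm_num) ⟨d, hnd.symm⟩
  have h36 : (normalizer (B : Set K)).index = 36 := by
    generalize (normalizer (B : Set K)).index = n at h7 h5 hn1 hnd hle
    have hdvd : n ∣ 576 := ⟨d, hnd.symm⟩
    obtain ⟨j, rfl⟩ : ∃ j, n = 35 * j + 1 := ⟨n / 35, by omega⟩
    have : j ≤ 16 := by omega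
    interval_cases j <;> omega
  rw [h36] at hnd
  rw [hd, show d = 16 by omega] at h5c
  have ha := Nat.le_of_dvd (by norm_num) h5a
  have h0 : (centralizer (P : Set K)).relIndex (normalizer (B : Set K)) ≠ 0 := fun h => by
    rw [h] at h5c; omega
  generalize (centralizer (P : Set K)).relIndex (normalizer (B : Set K)) = a at h5c h5a ha h0
  interval_cases a <;> omega

/-- The centraliser and normaliser of a subgroup of order seven. -/
theorem seven_facts {B : Subgroup K} (hB : Nat.card B = 7) :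
    Nat.card (centralizer (B : Set K)) = 7 ∧ Nat.card (normalizer (B : Set K)) = 21 := by
  have : Fact (Nat.Prime 7) := ⟨by norm_num⟩
  obtain ⟨h1, h2, h3, h4, h5⟩ := sylow_facts hB (by rw [hcard]; norm_num)
  have hodd := odd_centralizer hcard hinv (p := 7) (by norm_num) hB
  have hn1 := not_normal hcard (p := 7) (by norm_num) hB
  have h5' : ¬ 5 ∣ Nat.card (centralizer (B : Set K)) := fun h => by
    have : Fact (Nat.Prime 5) := ⟨by norm_num⟩
    obtain ⟨x, hx⟩ := exists_prime_orderOf_dvd_card' 5 h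
    refine no_thirtyfive hcard hinv hB (P := (zpowers x).map (centralizer (B : Set K)).subtype) ?_
      (map_subtype_le _)
    rw [card_map_of_injective (Subgroup.subtype_injective _), Nat.card_zpowers, hx]
  obtain ⟨m, hm⟩ := h5
  rw [hcard] at h2
  set n := (normalizer (B : Set K)).index
  set a := (centralizer (B : Set K)).relIndex (normalizer (B : Set K))
  have key : m * a = 3 ∧ Nat.card (normalizer (B : Set K)) = 21 := by
    rw [hm] at h4 hodd h5'
    have ha := Nat.le_of_dvd (by norm_num) h3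
    rw [← h4, ← mul_assoc, ← mul_assoc, mul_comm n 7, mul_assoc, mul_assoc] at h2
    have hmd : m ∣ 2880 := ⟨n * a, by nlinarith [h2]⟩
    have hm9 : m ∣ 9 := by
      have c2 : Nat.Coprime m 2 := ((Nat.Prime.coprime_iff_not_dvd Nat.prime_two).2 fun h => hodd
        (Dvd.dvd.mul_left h 7)).symm
      have c5 : Nat.Coprime m 5 := ((Nat.Prime.coprime_iff_not_dvd (by norm_num)).2 fun h => h5'
        (Dvd.dvd.mul_left h 7)).symm
      refine Nat.Coprime.dvd_of_dvd_mul_left (k := m) (m := 320) (n := 9) ?_ (by norm_num; exact hmd)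
      rw [show 320 = 2 ^ 6 * 5 by norm_num]
      exact (c2.pow_right 6).mul_right c5
    have hm' : m ≤ 9 := Nat.le_of_dvd (by norm_num) hm9
    have hn : n ≠ 0 := fun h => by rw [h] at h2; simp at h2
    have hn7 : n % 7 = 1 := h1
    obtain ⟨ha0, hm0⟩ : a ≠ 0 ∧ m ≠ 0 := by
      constructor <;> intro h <;> rw [h] at h2 <;> simp at h2
    have hk : n * (m * a) = 2880 := by nlinarith [h2]
    refine ⟨?_, ?_⟩ <;>
    · interval_cases a <;> interval_cases m <;> omega
  obtain ⟨hma, hN⟩ := key
  refine ⟨?_, hN⟩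
  rw [hm]
  by_contra hne
  have hm3 : m = 3 := by
    rcases (Nat.dvd_prime Nat.prime_three).1 ⟨a, hma.symm⟩ with h | h
    · omega
    · exact h
  have hCN : centralizer (B : Set K) = normalizer (B : Set K) :=
    eq_of_le_of_card_ge (centralizer_le_normalizer _) (by rw [hN, hm, hm3])
  obtain ⟨S, hS⟩ := (IsPGroup.of_card (n := 1) (by rw [hB, pow_one]) : IsPGroup 7 B).exists_le_sylow
  have hBS : B = S := eq_of_le_of_card_ge hS (by
    obtain ⟨j, hj⟩ := S.2.exists_card_eq
    rw [hB, hj]
    have hd : 7 ^ j ∣ 20160 := hcard ▸ hj ▸ (S : Subgroup K).card_subgroup_dvd_card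
    rcases Nat.lt_or_ge j 2 with h | h
    · exact le_trans (Nat.pow_le_pow_right (by norm_num) (by omega : j ≤ 1)) (by norm_num)
    · exact absurd ((pow_dvd_pow 7 h).trans hd) (by norm_num))
  have hle : normalizer ((S : Subgroup K) : Set K) ≤ centralizer ((S : Subgroup K) : Set K) := by
    rw [← hBS, hCN]
  have hc := MonoidHom.ker_transferSylow_isComplement' S hle
  rcases (MonoidHom.normal_ker (MonoidHom.transferSylow S hle)).eq_bot_or_eq_top with e | e
  · have := hc.card_mul_card
    rw [e, card_bot, one_mul, ← hBS, hB, hcard] at this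
    omega
  · have := hc.card_mul_card
    rw [e, card_top, hcard, ← hBS, hB] at this
    omega

/-- The centraliser of an element of order five. -/
theorem five_facts {B : Subgroup K} (hB : Nat.card B = 5) :
    Nat.card (centralizer (B : Set K)) = 5 := by
  have : Fact (Nat.Prime 5) := ⟨by norm_num⟩
  have : Fact (Nat.Prime 3) := ⟨by norm_num⟩
  have : Fact (Nat.Prime 2) := ⟨Nat.prime_two⟩
  obtain ⟨h1, h2, h3, h4, h5⟩ := sylow_facts hB (by rw [hcard]; norm_num)
  have hodd := odd_centralizer hcard hinv (p := 5) (by norm_num) hB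
  have hn1 := not_normal hcard (p := 5) (by norm_num) hB
  have h7 : ¬ 7 ∣ Nat.card (centralizer (B : Set K)) := fun h => by
    have : Fact (Nat.Prime 7) := ⟨by norm_num⟩
    obtain ⟨x, hx⟩ := exists_prime_orderOf_dvd_card' 7 h
    refine no_thirtyfive hcard hinv (B := (zpowers x).map (centralizer (B : Set K)).subtype) ?_ hB ?_
    · rw [card_map_of_injective (Subgroup.subtype_injective _), Nat.card_zpowers, hx]
    · exact fun b hb => mem_centralizer_iff.2 fun y hy =>
        (mem_centralizer_iff.1 (map_subtype_le _ hy) b hb).symm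
  obtain ⟨m, hm⟩ := h5
  rw [hcard] at h2
  set n := (normalizer (B : Set K)).index
  set a := (centralizer (B : Set K)).relIndex (normalizer (B : Set K))
  have ha := Nat.le_of_dvd (by norm_num) h3
  rw [hm] at h4 hodd h7
  have h2' : n * (m * a) = 4032 := by
    rw [← h4] at h2; nlinarith [h2]
  have hm9 : m ∣ 9 := by
    have hmd : m ∣ 4032 := ⟨n * a, by nlinarith [h2']⟩
    have c2 : Nat.Coprime m 2 := ((Nat.Prime.coprime_iff_not_dvd Nat.prime_two).2 fun h => hodd
      (Dvd.dvd.mul_left h 5)).symm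
    have c7 : Nat.Coprime m 7 := ((Nat.Prime.coprime_iff_not_dvd (by norm_num)).2 fun h => h7
      (Dvd.dvd.mul_left h 5)).symm
    refine Nat.Coprime.dvd_of_dvd_mul_left (k := m) (m := 448) (n := 9) ?_ (by norm_num; exact hmd)
    rw [show 448 = 2 ^ 6 * 7 by norm_num]
    exact (c2.pow_right 6).mul_right c7
  have hm' : m ≤ 9 := Nat.le_of_dvd (by norm_num) hm9
  have hn5 : n % 5 = 1 := h1
  obtain ⟨ha0, hm0⟩ : a ≠ 0 ∧ m ≠ 0 := by
    constructor <;> intro h <;> rw [h] at h2' <;> simp at h2'
  rw [hm]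
  by_contra hne
  have hcases : m = 3 ∧ a = 4 := by
    interval_cases a <;> interval_cases m <;> omega
  obtain ⟨hm3, ha4⟩ := hcases
  set C := centralizer (B : Set K) with hC
  have hCc : Nat.card C = 15 := by rw [hm, hm3]
  obtain ⟨w, hw⟩ := exists_prime_orderOf_dvd_card' 3 (show 3 ∣ Nat.card C by rw [hCc]; norm_num)
  set W := zpowers (w : K) with hW
  have hw3 : orderOf (w : K) = 3 := by rw [← C.subtype_apply, orderOf_injective _ C.subtype_injective, hw]
  have hWc : Nat.card W = 3 := by rw [Nat.card_zpowers, hw3]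
  have hBC : B ≤ C := fun x hx => mem_centralizer_iff.2 fun y hy => comm_of_prime hB hy hx
  have hWC : W ≤ C := zpowers_le.2 w.2
  have hCW : C ≤ normalizer (W : Set K) := by
    have hle : B ⊔ W ≤ C ⊓ normalizer (W : Set K) := by
      refine sup_le (le_inf hBC ?_) (le_inf hWC le_normalizer)
      refine fun b hb => centralizer_le_normalizer _ (mem_centralizer_iff.2 fun y hy => ?_)
      exact (mem_centralizer_iff.1 (hWC hy) b hb).symm
    have hd : 15 ∣ Nat.card ↥(C ⊓ normalizer (W : Set K) : Subgroup K) :=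
      Nat.Coprime.mul_dvd_of_dvd_of_dvd (by norm_num : Nat.Coprime 5 3)
        (hB ▸ card_dvd_of_le (le_sup_left.trans hle)) (hWc ▸ card_dvd_of_le (le_sup_right.trans hle))
    refine inf_eq_left.1 (eq_of_le_of_card_ge inf_le_left ?_)
    rw [hCc]
    exact Nat.le_of_dvd Nat.card_pos hd
  have hidx : ¬ 3 ∣ W.relIndex C := by
    have h := (W.subgroupOf C).card_mul_index
    rw [Nat.card_congr (subgroupOfEquivOfLe hWC).toEquiv, hWc, hCc] at h
    change 3 * W.relIndex C = 15 at h
    omega
  have hne1 : (w : K) ≠ 1 := fun e => by rw [e, orderOf_one] at hw3; omega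
  have hw3' : (w : K) ^ 3 = 1 := hw3 ▸ pow_orderOf_eq_one (w : K)
  have hact : ∀ g ∈ normalizer (B : Set K), g * w * g⁻¹ = w ∨ g * w * g⁻¹ = (w : K)⁻¹ := by
    intro g hg
    have hgC : g * w * g⁻¹ ∈ C := by
      refine mem_centralizer_iff.2 fun y hy => ?_
      have hy' : g⁻¹ * y * g ∈ B := by
        have := (mem_normalizer_iff.1 (inv_mem hg) y).1 hy
        rwa [inv_inv] at this
      calc y * (g * w * g⁻¹) = g * (g⁻¹ * y * g * w) * g⁻¹ := by group
        _ = g * (w * (g⁻¹ * y * g)) * g⁻¹ := by rw [mem_centralizer_iff.1 w.2 _ hy']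
        _ = g * w * g⁻¹ * y := by group
    have hmem := mem_of_normalises Nat.prime_three hWC hCW hidx hgC (by
      rw [conj_pow, hw3']; group)
    obtain ⟨j, hj⟩ := mem_zpowers_iff.1 hmem
    rw [← zpow_mod_orderOf, hw3] at hj
    have h0 : 0 ≤ j % ((3 : ℕ) : ℤ) := Int.emod_nonneg _ (by norm_num)
    have hlt : j % ((3 : ℕ) : ℤ) < 3 := Int.emod_lt_of_pos _ (by norm_num)
    generalize j % ((3 : ℕ) : ℤ) = i at hj h0 hlt
    interval_cases i
    · rw [zpow_zero] at hj
      exact absurd (conj_eq_one_iff.1 hj.symm) hne1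
    · rw [zpow_one] at hj; exact Or.inl hj.symm
    · refine Or.inr (hj.symm.trans (eq_inv_of_mul_eq_one_left ?_))
      rw [show ((w : K)) ^ (2 : ℤ) * w = (w : K) ^ 3 by group, hw3']
  have hinvol : ∀ v ∈ normalizer (B : Set K), v * v = 1 → v ≠ 1 → v * w * v⁻¹ = (w : K)⁻¹ := by
    intro v hv hvv hv1
    refine (hact v hv).resolve_left fun e => ?_
    obtain ⟨j, hj⟩ := hinv v hvv hv1 ⟨w, mem_centralizer_singleton_iff.2 (mul_inv_eq_iff_eq_mul.1 e).symm⟩
    have hd : 3 ∣ 2 ^ j := hw3 ▸ orderOf_dvd_of_pow_eq_one (congrArg Subtype.val hj)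
    exact absurd (Nat.prime_three.dvd_of_dvd_pow hd) (by norm_num)
  obtain ⟨S, hS⟩ := Sylow.exists_subgroup_card_pow_prime (G := normalizer (B : Set K)) 2 (n := 2)
    (by rw [← h4, hm3, ha4]; norm_num)
  by_cases hsq : ∃ s ∈ S, s * s ≠ 1
  · obtain ⟨s, hs, hss⟩ := hsq
    have h4' : ((s : K) * s) * ((s : K) * s) = 1 := by
      have := congrArg (fun x : normalizer (B : Set K) => (x : K))
        (congrArg Subtype.val (hS ▸ pow_card_eq_one' : (⟨s, hs⟩ : S) ^ 2 ^ 2 = 1))
      simpa [pow_succ, mul_assoc] using this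
    have hne' : (s : K) * s ≠ 1 := fun e => hss (Subtype.ext e)
    have := hinvol _ (mul_mem s.2 s.2) h4' hne'
    rw [show (s : K) * s * w * ((s : K) * s)⁻¹ = (s : K) * ((s : K) * w * (s : K)⁻¹) * (s : K)⁻¹ by group] at this
    rcases hact s s.2 with e | e <;> rw [e] at this
    · rw [e] at this
      exact hne1 (orderOf_eq_one_iff.1 (Nat.dvd_one.1 (by
        have h2 : orderOf (w : K) ∣ 2 := orderOf_dvd_of_pow_eq_one (by
          rw [pow_two]; conv_lhs => arg 2; rw [this]
          exact mul_inv_cancel _)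
        rw [hw3] at h2; norm_num at h2)))
    · rw [show (s : K) * (w : K)⁻¹ * (s : K)⁻¹ = ((s : K) * w * (s : K)⁻¹)⁻¹ by group, e, inv_inv] at this
      exact hne1 (orderOf_eq_one_iff.1 (Nat.dvd_one.1 (by
        have h2 : orderOf (w : K) ∣ 2 := orderOf_dvd_of_pow_eq_one (by
          rw [pow_two]; conv_lhs => arg 2; rw [this]
          exact mul_inv_cancel _)
        rw [hw3] at h2; norm_num at h2)))
  · push Not at hsq
    obtain ⟨p, q, hp, hq, hpq⟩ : ∃ p q : S, p ≠ 1 ∧ q ≠ 1 ∧ p ≠ q := by
      classical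
      let _ : Fintype S := Fintype.ofFinite S
      have hlt : 2 < (Finset.univ : Finset S).card := by
        rw [Finset.card_univ, ← Nat.card_eq_fintype_card, hS]; norm_num
      obtain ⟨a, b, c, -, -, -, hab, hac, hbc⟩ := Finset.two_lt_card_iff.1 hlt
      by_cases ha : a = 1
      · exact ⟨b, c, fun h => hab (ha.trans h.symm), fun h => hac (ha.trans h.symm), hbc⟩
      by_cases hb : b = 1
      · exact ⟨a, c, ha, fun h => hbc (hb.trans h.symm), hac⟩
      exact ⟨a, b, ha, hb, hab⟩
    have hco : ∀ x : S, ((x : normalizer (B : Set K)) : K) * ((x : normalizer (B : Set K)) : K) = 1 :=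
      fun x => congrArg Subtype.val (hsq x x.2)
    have hcne : ∀ x : S, x ≠ 1 → ((x : normalizer (B : Set K)) : K) ≠ 1 := fun x hx e =>
      hx (Subtype.ext (Subtype.ext e))
    have ep := hinvol _ (p : normalizer (B : Set K)).2 (hco p) (hcne p hp)
    have eq' := hinvol _ (q : normalizer (B : Set K)).2 (hco q) (hcne q hq)
    have hpq1 : p * q ≠ 1 := fun e => hpq (by
      have hqq : q * q = 1 := Subtype.ext (hsq q q.2)
      calc p = p * q * q := by rw [mul_assoc, hqq, mul_one]
        _ = q := by rw [e, one_mul])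
    have epq := hinvol _ ((p * q : S) : normalizer (B : Set K)).2 (hco _) (hcne _ hpq1)
    simp only [Subgroup.coe_mul] at epq
    rw [show ∀ x y : K, x * y * w * (x * y)⁻¹ = x * (y * w * y⁻¹) * x⁻¹ from fun x y => by group, eq',
      show ∀ x : K, x * (w : K)⁻¹ * x⁻¹ = (x * w * x⁻¹)⁻¹ from fun x => by group, ep, inv_inv] at epq
    exact hne1 (orderOf_eq_one_iff.1 (Nat.dvd_one.1 (by
      have h2 : orderOf (w : K) ∣ 2 := orderOf_dvd_of_pow_eq_one (by
        rw [pow_two]; conv_lhs => arg 2; rw [epq]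
        exact mul_inv_cancel _)
      rw [hw3] at h2; norm_num at h2)))

end CfsgLib.InvChar.SuzT
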