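import Cfsg.Agent.Lib.InvChar.SuzT.LSimple
import Cfsg.Agent.Lib.InvChar.SuzT.LCount
import Cfsg.Agent.Lib.InvChar.LThreeFour.Order

/-!
# The order of `L` and its elements of order five and seven
-/

set_option autoImplicit false
set_option linter.unusedSectionVars false

namespace CfsgLib.InvChar.SuzT

open Subgroup SuzType

set_option synthInstance.maxSize 2000 in
theorem comm_sets : (∀ p q : W × W, ∀ s ∈ sgs, FP s p → FP s q → FP s (p + q)) ∧
    (∀ p, InC p → IP p → TP p → FP (1, 0) p ∨ FP (0, 1) p) := by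
  refine ⟨fun p q s hs => fp_add s hs p q, ?_⟩
  decide +kernel

variable {G : Type*} [Group G] [Finite G] {z u : G} {Q Q' : Subgroup G} {φ φ' : G → V}
  (P : Pair z u Q Q' φ φ') {t : G} (C : Ctx P t) {E L : Subgroup G} {σ o : G} (M : Mid P t E σ o)
  (D : Comp P t E L)
include P C M D

theorem flag_L : LThreeFour.Flag (⟨z, z_mem_L P C M D⟩ : L) ((TG P).subgroupOf L)
    ((AS P (1, 0) sgs_mem.1).subgroupOf L) ((AS P (0, 1) sgs_mem.2).subgroupOf L)
    ((AS P (1, 0) sgs_mem.1 ⊓ AS P (0, 1) sgs_mem.2).subgroupOf L) := by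
  have hAT : ∀ (s : Pl) (hs : s ∈ sgs), AS P s hs ≤ TG P := fun s hs g ⟨q, hq, hq1, hq2⟩ =>
    ⟨q, hq, hq1.1, hq2⟩
  have hcard : ∀ (H : Subgroup G), H ≤ L → Nat.card (H.subgroupOf L) = Nat.card H := fun H hH =>
    Nat.card_congr (subgroupOfEquivOfLe hH).toEquiv
  have hzL := z_mem_L P C M D
  refine LThreeFour.flag_of_invol ?_ ?_ ?_ ?_ ?_ ?_ ?_ ?_ ?_ ?_ rfl ?_ ?_ ?_ ?_
  · rw [Subgroup.orderOf_mk]
    exact orderOf_eq_prime (by rw [pow_two, P.S.zz]) P.S.zne
  · ext ⟨g, hg⟩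
    rw [mem_centralizer_singleton_iff, mem_subgroupOf]
    constructor
    · exact fun h => cent_z P C M D hg (congrArg Subtype.val h)
    · exact fun h => Subtype.ext (cent_TG P C M D h)
  · exact TG_sylow P C M D
  · rw [hcard _ D.T_le, card_TG P C]
  · exact fun x hx => hAT _ sgs_mem.1 hx
  · exact fun x hx => hAT _ sgs_mem.2 hx
  · exact fun a ha => Subtype.ext (FS_sq P C (hs := sgs_mem.1) ((mem_AS_iff P C).1 ha).1)
  · exact fun a ha => Subtype.ext (FS_sq P C (hs := sgs_mem.2) ((mem_AS_iff P C).1 ha).1)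
  · rw [hcard _ ((hAT _ sgs_mem.1).trans D.T_le), card_AS P C]
  · rw [hcard _ ((hAT _ sgs_mem.2).trans D.T_le), card_AS P C]
  · rw [hcard _ (inf_le_left.trans ((hAT _ sgs_mem.1).trans D.T_le))]
    rw [card_sub P C (AS P (1, 0) sgs_mem.1 ⊓ AS P (0, 1) sgs_mem.2) (fun p => p = 0) fun g =>
      ⟨fun ⟨⟨p, hp, h1, h2⟩, ⟨q, hq, h3, _⟩⟩ => by
        obtain rfl := HasPar.ext_par P hp hq
        exact ⟨p, hp, plane_facts.2.2.2.2.2 p h1 h3 h2⟩,
       fun ⟨p, hp, h⟩ => by
        subst h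
        exact ⟨inR_mem_AS P C M.half (HasPar.inR_of_zero P hp) _ sgs_mem.1,
          inR_mem_AS P C M.half (HasPar.inR_of_zero P hp) _ sgs_mem.2⟩⟩]
    simp
  · exact ⟨inR_mem_AS P C M.half (Or.inr (Or.inl rfl)) _ sgs_mem.1,
      inR_mem_AS P C M.half (Or.inr (Or.inl rfl)) _ sgs_mem.2⟩
  · rintro ⟨g, hg⟩ hgT h2
    obtain ⟨p, hp, hC, hT⟩ := hgT
    rcases comm_sets.2 p hC ((sq_eq_one_iff P C hp).1 (congrArg Subtype.val h2)) hT with h | h
    · exact Or.inl ⟨p, hp, h, hT⟩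
    · exact Or.inr ⟨p, hp, h, hT⟩
  · rintro ⟨a, ha'⟩ ha ⟨b, hb'⟩ hb
    obtain ⟨p, hp, -, -⟩ := ha
    obtain ⟨q, hq, -, -⟩ := hb
    have h := HasPar.mul P (HasPar.mul P (HasPar.mul P hp hq) (HasPar.inv P hp)) (HasPar.inv P hq)
    rw [add_comm p q, add_assoc q p p, par_self, add_zero, par_self] at h
    exact ⟨inR_mem_AS P C M.half (HasPar.inR_of_zero P h) _ sgs_mem.1,
      inR_mem_AS P C M.half (HasPar.inR_of_zero P h) _ sgs_mem.2⟩

theorem L_not_comm : ¬ IsMulCommutative L := by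
  intro h
  obtain ⟨p, hp1, hp2, hp0⟩ := line_facts.2
  obtain ⟨a, ha⟩ := HasPar.exists_elt P p
  have haL : a ∈ TG P := ⟨p, ha, hp1.1, hp2⟩
  have := TG_central P C M D haL fun x hx =>
    congrArg Subtype.val (mul_comm' (⟨x, D.T_le hx⟩ : L) ⟨a, D.T_le haL⟩)
  exact hp0 (HasPar.ext_par P ha (HasPar.of_inR P this))

theorem card_L : Nat.card L = 20160 := by
  have := simple_L P C M D
  exact ((flag_L P C M D).card_eq (L_not_comm P C M D)).1

theorem L_invol_centralizer (w : L) (hw : w * w = 1) (hw1 : w ≠ 1) :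
    IsPGroup 2 (centralizer ({w} : Set L)) := by
  have hw1' : (w : G) ≠ 1 := fun e => hw1 (Subtype.ext e)
  obtain ⟨l, hl, hlw⟩ := conj_in_L P C M D w.2
    (L_class P C M D w.2 (congrArg Subtype.val hw) hw1')
  intro g
  have hg : (g : L) * w = w * g := mem_centralizer_singleton_iff.1 g.2
  have hT : l * ((g : L) : G) * l⁻¹ ∈ TG P := cent_z P C M D
    (mul_mem (mul_mem hl (g : L).2) (inv_mem hl)) (by
      rw [← hlw]
      calc l * ((g : L) : G) * l⁻¹ * (l * w * l⁻¹) = l * (((g : L) * w : L) : G) * l⁻¹ := by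
            simp [mul_assoc]
        _ = l * w * l⁻¹ * (l * ((g : L) : G) * l⁻¹) := by rw [hg]; simp [mul_assoc])
  obtain ⟨j, hj⟩ := TG_pGroup P C M D ⟨_, hT⟩
  refine ⟨j, Subtype.ext (Subtype.ext ?_)⟩
  have hj' : (l * ((g : L) : G) * l⁻¹) ^ (2 ^ j) = 1 := congrArg Subtype.val hj
  rw [conj_pow] at hj'
  simpa using hj'

theorem L_self {x : G} (hx : x ∈ L) (ho : orderOf x = 5 ∨ orderOf x = 7) {y : G} (hy : y ∈ L)
    (hyx : y * x = x * y) : y ∈ zpowers x := by
  have := simple_L P C M D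
  set B := zpowers (⟨x, hx⟩ : L)
  have hB : Nat.card B = orderOf x := by rw [Nat.card_zpowers, Subgroup.orderOf_mk]
  have hBC : B ≤ centralizer (B : Set L) := fun a ha => mem_centralizer_iff.2 fun b hb => by
    obtain ⟨i, rfl⟩ := mem_zpowers_iff.1 ha
    obtain ⟨j, rfl⟩ := mem_zpowers_iff.1 hb
    exact (Commute.refl (⟨x, hx⟩ : L)).zpow_zpow j i
  have hC : Nat.card (centralizer (B : Set L)) = orderOf x := by
    rcases ho with h | h
    · rw [h] at hB ⊢
      exact five_facts (card_L P C M D) (L_invol_centralizer P C M D) hB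
    · rw [h] at hB ⊢
      exact (seven_facts (card_L P C M D) (L_invol_centralizer P C M D) hB).1
  have heq : B = centralizer (B : Set L) := eq_of_le_of_card_ge hBC (hC.trans hB.symm).le
  have hyB : (⟨y, hy⟩ : L) ∈ B := by
    rw [heq]
    refine mem_centralizer_iff.2 fun b hb => ?_
    obtain ⟨j, rfl⟩ := mem_zpowers_iff.1 hb
    exact ((show Commute (⟨y, hy⟩ : L) ⟨x, hx⟩ from Subtype.ext hyx).zpow_right j).eq.symm
  obtain ⟨i, hi⟩ := mem_zpowers_iff.1 hyB
  exact mem_zpowers_iff.2 ⟨i, by simpa using congrArg Subtype.val hi⟩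

theorem L_norm (B : Subgroup G) (hBL : B ≤ L) (hB : Nat.card B = 7) :
    Nat.card ↥(normalizer (B : Set G) ⊓ L) = 21 := by
  have := simple_L P C M D
  have hB' : Nat.card (B.subgroupOf L) = 7 := by
    rw [Nat.card_congr (subgroupOfEquivOfLe hBL).toEquiv, hB]
  rw [← (seven_facts (card_L P C M D) (L_invol_centralizer P C M D) hB').2]
  have e : (normalizer (B : Set G) ⊓ L).subgroupOf L = normalizer ((B.subgroupOf L : Subgroup L) : Set L) := by
    ext g
    rw [mem_subgroupOf, mem_inf, mem_normalizer_iff, mem_normalizer_iff]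
    constructor
    · intro h x
      simp only [mem_subgroupOf, Subgroup.coe_mul, InvMemClass.coe_inv]
      exact h.1 x
    · intro h
      refine ⟨fun x => ⟨fun hx => ?_, fun hx => ?_⟩, g.2⟩
      · have := (h ⟨x, hBL hx⟩).1 hx
        exact this
      · have hxL : x ∈ L := by
          have := mul_mem (mul_mem (inv_mem g.2) (hBL hx)) g.2
          rwa [show (g : G)⁻¹ * ((g : G) * x * (g : G)⁻¹) * g = x by group] at this
        exact (h ⟨x, hxL⟩).2 hx
  rw [← e, Nat.card_congr (subgroupOfEquivOfLe inf_le_right).toEquiv]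

end CfsgLib.InvChar.SuzT
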