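import Cfsg.Agent.Lib.InvChar.SuzT.Flag
import Cfsg.Agent.Lib.Invol.BrauerSuzuki
import Cfsg.Agent.Lib.Invol.Isolated
import Cfsg.Agent.Lib.InvChar.LThreeFour.Basic

/-!
# The subgroup of index two of `C(t)`: the normaliser of its Sylow 2-subgroup and the four group `E`
-/

set_option autoImplicit false
set_option linter.unusedSectionVars false

namespace CfsgLib.InvChar.SuzT

open Subgroup SuzType

section General

variable {G : Type*} [Group G] [Finite G]

/-- A 2-subgroup of `K` can be moved by `K` into a Sylow 2-subgroup of `K`. -/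
theorem exists_conj_le {K S R : Subgroup G} (_hSK : S ≤ K) (hS : IsPGroup 2 S)
    (hidx : ¬ 2 ∣ S.relIndex K) (hRK : R ≤ K) (hR : IsPGroup 2 R) :
    ∃ k ∈ K, ∀ r ∈ R, k * r * k⁻¹ ∈ S := by
  have : Fact (Nat.Prime 2) := ⟨Nat.prime_two⟩
  obtain ⟨PS, hPS⟩ := (hS.comap_of_injective K.subtype (subtype_injective _)).exists_le_sylow
  have hPS' : (PS : Subgroup K) = S.subgroupOf K := by
    refine le_antisymm ?_ hPS
    by_contra hlt
    obtain ⟨m, hm⟩ := IsPGroup.index PS.2 ((S.subgroupOf K).subgroupOf (PS : Subgroup K))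
    rcases Nat.eq_zero_or_pos m with rfl | hm0
    · exact hlt (relIndex_eq_one.1 hm)
    · exact hidx ((dvd_pow_self 2 hm0.ne').trans
        (hm ▸ (relIndex_dvd_index_of_le hPS :
          (S.subgroupOf K).relIndex (PS : Subgroup K) ∣ (S.subgroupOf K).index)))
  obtain ⟨k, hk⟩ := CfsgLib.Invol.exists_conj_mem_sylow PS
    (hR.comap_of_injective K.subtype (subtype_injective _))
  refine ⟨k, k.2, fun r hr => ?_⟩
  have h : k * ⟨r, hRK hr⟩ * k⁻¹ ∈ (PS : Subgroup K) := hk _ hr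
  rw [hPS', mem_subgroupOf] at h
  exact h

/-- Fusion of elements centralising a Sylow 2-subgroup happens in its normaliser. -/
theorem burnside {K S : Subgroup G} (hSK : S ≤ K) (hS : IsPGroup 2 S) (hidx : ¬ 2 ∣ S.relIndex K)
    {a b g : G} (ha : ∀ x ∈ S, x * a = a * x) (hb : ∀ x ∈ S, x * b = b * x) (hg : g ∈ K)
    (e : g * a * g⁻¹ = b) : ∃ n ∈ K, (∀ x ∈ S, n * x * n⁻¹ ∈ S) ∧ n * a * n⁻¹ = b := by
  have hS' : S ≤ K ⊓ centralizer ({b} : Set G) := fun x hx =>
    ⟨hSK hx, mem_centralizer_singleton_iff.2 (hb x hx)⟩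
  have hidx' : ¬ 2 ∣ S.relIndex (K ⊓ centralizer ({b} : Set G)) := fun h => hidx (h.trans (by
    rw [← relIndex_mul_relIndex S _ K hS' inf_le_left]; exact Dvd.intro _ rfl))
  obtain ⟨c, hc, hcR⟩ := exists_conj_le hS' hS hidx' (R := S.map (MulAut.conj g).toMonoidHom) (by
    rintro _ ⟨x, hx, rfl⟩
    simp only [MulEquiv.coe_toMonoidHom, MulAut.conj_apply]
    refine mem_inf.2 ⟨mul_mem (mul_mem hg (hSK hx)) (inv_mem hg), mem_centralizer_singleton_iff.2 ?_⟩
    rw [← e]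
    calc g * x * g⁻¹ * (g * a * g⁻¹) = g * (x * a) * g⁻¹ := by group
      _ = g * a * g⁻¹ * (g * x * g⁻¹) := by rw [ha x hx]; group) (hS.map _)
  refine ⟨c * g, mul_mem hc.1 hg, fun x hx => ?_, ?_⟩
  · rw [show c * g * x * (c * g)⁻¹ = c * (g * x * g⁻¹) * c⁻¹ by group]
    exact hcR _ ⟨x, hx, rfl⟩
  · rw [show c * g * a * (c * g)⁻¹ = c * (g * a * g⁻¹) * c⁻¹ by group, e,
      mem_centralizer_singleton_iff.1 hc.2, mul_inv_cancel_right]

/-- A subgroup is normalised by what maps it into itself. -/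
theorem mem_normalizer_of_le {S : Subgroup G} {n : G} (h : ∀ x ∈ S, n * x * n⁻¹ ∈ S) :
    n ∈ normalizer (S : Set G) := by
  refine LThreeFour.mem_normalizer_of_map_eq (eq_of_le_of_card_ge ?_ (LThreeFour.card_map_conj S n).ge)
  rintro _ ⟨x, hx, rfl⟩
  exact h x hx

/-- An element commutes with what an odd power and its square commute with. -/
theorem commute_of_odd {n a : G} {r : ℕ} (hr : Odd r) (h1 : n ^ r * a = a * n ^ r)
    (h2 : n * n * a = a * (n * n)) : n * a = a * n := by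
  obtain ⟨k, rfl⟩ := hr
  have h3 : Commute ((n * n) ^ k) a := (show Commute (n * n) a from h2).pow_left k
  rw [← pow_two n, ← pow_mul] at h3
  have h4 : Commute ((n ^ (2 * k))⁻¹ * n ^ (2 * k + 1)) a := h3.inv_left.mul_left h1
  rw [pow_succ, inv_mul_cancel_left] at h4
  exact h4.eq

theorem card_le_mul {α : Type*} [Finite α] {M H : Subgroup G} (φ : M → α)
    (h : ∀ a b : M, φ a = φ b → (a : G)⁻¹ * b ∈ H) : Nat.card M ≤ Nat.card α * Nat.card H := by
  classical
  let rep : α → G := fun x => if hx : ∃ a : M, φ a = x then (hx.choose : G) else 1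
  have hrep : ∀ a : M, (rep (φ a))⁻¹ * (a : G) ∈ H := fun a => by
    have hx : ∃ b : M, φ b = φ a := ⟨a, rfl⟩
    simp only [rep, dif_pos hx]
    exact h _ _ hx.choose_spec
  refine le_of_le_of_eq (Nat.card_le_card_of_injective (fun a : M => (φ a, (⟨_, hrep a⟩ : H))) ?_)
    (Nat.card_prod _ _)
  intro a b e
  simp only [Prod.mk.injEq, Subtype.mk.injEq] at e
  exact Subtype.ext (mul_left_cancel (e.1 ▸ e.2))

theorem mul_card_le {ι : Type*} [Finite ι] {M H : Subgroup G} (hH : H ≤ M) (m : ι → G)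
    (hm : ∀ i, m i ∈ M) (h : ∀ i j, (m i)⁻¹ * m j ∈ H → i = j) :
    Nat.card ι * Nat.card H ≤ Nat.card M := by
  rw [← Nat.card_prod]
  refine Nat.card_le_card_of_injective
    (fun p : ι × H => (⟨m p.1 * p.2, mul_mem (hm _) (hH p.2.2)⟩ : M)) ?_
  rintro ⟨i, x⟩ ⟨j, y⟩ e
  have e' : m i * (x : G) = m j * y := congrArg Subtype.val e
  have : i = j := h i j (by
    rw [show (m i)⁻¹ * m j = (x : G) * (y : G)⁻¹ by
      rw [inv_mul_eq_iff_eq_mul, ← mul_assoc, e', mul_inv_cancel_right]]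
    exact mul_mem x.2 (inv_mem y.2))
  subst this
  exact Prod.ext rfl (Subtype.ext (mul_left_cancel e'))

end General

variable {G : Type*} [Group G] [Finite G] {z u : G} {Q Q' : Subgroup G} {φ φ' : G → V}

/-- A subgroup of index two of `C(t)` meeting `C(z, t)` in `C(z, u, t)`. -/
structure Half (P : Pair z u Q Q' φ φ') (t : G) (K0 : Subgroup G) : Prop where
  le : K0 ≤ centralizer ({t} : Set G)
  idx : K0.relIndex (centralizer ({t} : Set G)) = 2
  X0_le : X0g z u t ≤ K0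
  inter : ∀ h ∈ Xg z t, h ∈ K0 → h ∈ X0g z u t

variable (P : Pair z u Q Q' φ φ') {t : G} (C : Ctx P t)
include P C

theorem exists_half : ∃ K0, Half P t K0 := by
  obtain ⟨K0, h1, h2, h3, h4⟩ := exists_K0 P C
  exact ⟨K0, h1, h2, h3, h4⟩

theorem mem_X0_z : z ∈ X0g z u t := inR_mem_X0 P C (Or.inr (Or.inl rfl))

theorem mem_X0_u : u ∈ X0g z u t := inR_mem_X0 P C (Or.inr (Or.inr (Or.inl rfl)))

theorem mem_X0_t : t ∈ X0g z u t :=
  (mem_X0_iff P C).2 ⟨tp, C.par, tp_facts.2.2.2.1⟩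

theorem inR_central {r : G} (h : P.InR r) : ∀ x ∈ X0g z u t, x * r = r * x :=
  (central_iff P C (inR_mem_X0 P C h) (HasPar.of_inR P h)).2 zp_gens.1

theorem conj_u : IsConj u z := by
  obtain ⟨g₀, hg₀, -⟩ := P.conj
  exact (isConj_iff.2 ⟨g₀, hg₀⟩ : IsConj z u).symm

theorem inR_cases {g : G} (hg : g ∈ X0g z u t) (hc : ∀ x ∈ X0g z u t, x * g = g * x)
    (hz : IsConj g z) : g = z ∨ g = u ∨ g = z * u := by
  obtain ⟨p, hp, -⟩ := (mem_X0_iff P C).1 hg
  have hgg : g * g = 1 := by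
    obtain ⟨k, hk⟩ := isConj_iff.1 hz.symm
    rw [← hk, show k * z * k⁻¹ * (k * z * k⁻¹) = k * (z * z) * k⁻¹ by group, P.S.zz]; group
  have hg1 : g ≠ 1 := fun e => P.S.zne (by
    obtain ⟨k, hk⟩ := isConj_iff.1 hz
    rw [e] at hk; simpa using hk.symm)
  have hB := (conj_z_iff P C hp hgg hg1).1 hz
  have hp0 : p = 0 := by
    by_contra hne
    exact absurd (((zp_facts p ((central_iff P C hg hp).1 hc)).2.2.1 hne).symm.trans hB) (by decide)
  rw [hp0] at hp
  exact (HasPar.inR_of_zero P hp).resolve_left hg1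

section Half

variable {K0 : Subgroup G} (H : Half P t K0)
include H

theorem X0_pGroup : IsPGroup 2 (X0g z u t) := (isSylow_X P C).1.to_le inf_le_left

theorem X0_sylow : ¬ 2 ∣ (X0g z u t).relIndex K0 := by
  intro h2
  refine (isSylow_X P C).2 ?_
  have hX : Xg z t ≤ centralizer ({t} : Set G) := inf_le_right
  have hX0X : X0g z u t ≤ Xg z t := inf_le_left
  have e1 := relIndex_mul_relIndex _ _ _ hX0X hX
  have e2 := relIndex_mul_relIndex _ _ _ H.X0_le H.le
  rw [relIndex_X0 P C] at e1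
  rw [H.idx, ← e1] at e2
  rw [show (Xg z t).relIndex (centralizer ({t} : Set G)) = (X0g z u t).relIndex K0 by omega]
  exact h2

theorem exists_outer_half : ∃ s ∈ Xg z t, s ∉ K0 ∧ s ∉ X0g z u t ∧ s * s = 1 := by
  obtain ⟨s, hs, hs0, hss⟩ := exists_outer_invol P C
  exact ⟨s, hs, fun h => hs0 (H.inter s hs h), hs0, hss⟩

theorem mul_mem_half {a b : G} (ha : a * t = t * a) (hb : b * t = t * b) (ha0 : a ∉ K0)
    (hb0 : b ∉ K0) : a * b ∈ K0 := by
  have := (Subgroup.mul_mem_iff_of_index_two (show (K0.subgroupOf _).index = 2 from H.idx)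
    (a := (⟨a, mem_centralizer_singleton_iff.2 ha⟩ : centralizer ({t} : Set G)))
    (b := ⟨b, mem_centralizer_singleton_iff.2 hb⟩)).2
  simp only [mem_subgroupOf] at this
  exact this ⟨fun h => absurd h ha0, fun h => absurd h hb0⟩

/-- Conjugates of `z` in `C(t)` are conjugate to `z` in the half. -/
theorem conj_in_half {a : G} (ha : IsConj a z) (hat : a * t = t * a) :
    ∃ k ∈ K0, k * a * k⁻¹ = z := by
  obtain ⟨k, hk, hka⟩ := conj_in_K P C ha hat
  by_cases hk0 : k ∈ K0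
  · exact ⟨k, hk0, hka⟩
  obtain ⟨s, hs, hsK, -, -⟩ := exists_outer_half P C H
  refine ⟨s * k, mul_mem_half P C H (mem_Xg.1 hs).2 hk hsK hk0, ?_⟩
  rw [show s * k * a * (s * k)⁻¹ = s * (k * a * k⁻¹) * s⁻¹ by group, hka, (mem_Xg.1 hs).1,
    mul_inv_cancel_right]

theorem odd_pow : ∃ r : ℕ, Odd r ∧ ∀ n ∈ K0, (∀ x ∈ X0g z u t, n * x * n⁻¹ ∈ X0g z u t) →
    n ^ r ∈ X0g z u t := by
  set S := X0g z u t
  set N := K0 ⊓ normalizer (S : Set G)
  have hSN : S ≤ N := le_inf H.X0_le le_normalizer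
  refine ⟨S.relIndex N, Nat.not_even_iff_odd.1 fun he => X0_sylow P C H
    ((even_iff_two_dvd.1 he).trans (by
      rw [← relIndex_mul_relIndex S N K0 hSN inf_le_left]; exact Dvd.intro _ rfl)), fun n hn hnS => ?_⟩
  have : (S.subgroupOf N).Normal := ⟨fun a ha g => by
    rw [mem_subgroupOf] at ha ⊢
    simp only [Subgroup.coe_mul, InvMemClass.coe_inv]
    exact (mem_normalizer_iff.1 g.2.2 _).1 ha⟩
  have := (S.subgroupOf N).pow_index_mem ⟨n, hn, mem_normalizer_of_le hnS⟩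
  rw [mem_subgroupOf, Subgroup.coe_pow] at this
  exact this

theorem conj_central {n g : G} (hn : n ∈ normalizer (X0g z u t : Set G)) (hg : g ∈ X0g z u t)
    (hc : ∀ x ∈ X0g z u t, x * g = g * x) :
    n * g * n⁻¹ ∈ X0g z u t ∧ ∀ x ∈ X0g z u t, x * (n * g * n⁻¹) = n * g * n⁻¹ * x := by
  refine ⟨(mem_normalizer_iff.1 hn g).1 hg, fun x hx => ?_⟩
  have hx' : n⁻¹ * x * n ∈ X0g z u t := by
    have := (mem_normalizer_iff.1 (inv_mem hn) x).1 hx
    rwa [inv_inv] at this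
  calc x * (n * g * n⁻¹) = n * (n⁻¹ * x * n * g) * n⁻¹ := by group
    _ = n * (g * (n⁻¹ * x * n)) * n⁻¹ := by rw [hc _ hx']
    _ = n * g * n⁻¹ * x := by group

theorem conj_three {n a : G} (hn : n ∈ normalizer (X0g z u t : Set G)) (ha : P.InR a) (ha1 : a ≠ 1) :
    n * a * n⁻¹ = z ∨ n * a * n⁻¹ = u ∨ n * a * n⁻¹ = z * u := by
  obtain ⟨h1, h2⟩ := conj_central P C H hn (inR_mem_X0 P C ha) (inR_central P C ha)
  refine inR_cases P C h1 h2 (IsConj.trans (isConj_iff.2 ⟨n, rfl⟩ : IsConj a _).symm ?_)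
  have hp := HasPar.of_inR P ha
  refine (conj_z_iff P C hp ?_ ha1).2 (by decide +kernel)
  exact (sq_eq_one_iff P C hp).2 (zp_facts 0 zp_gens.1).1

theorem conj_inR {n a : G} (hn : n ∈ normalizer (X0g z u t : Set G)) (ha : P.InR a) :
    P.InR (n * a * n⁻¹) := by
  rcases eq_or_ne a 1 with rfl | ha1
  · exact Or.inl (by group)
  · exact Or.inr (conj_three P C H hn ha ha1)

/-- What fixes `z` in the normaliser is in the Sylow 2-subgroup. -/
theorem normalizer_fix {n : G} (hn : n ∈ K0)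
    (hnz : n * z = z * n) : n ∈ X0g z u t :=
  H.inter n (mem_Xg.2 ⟨hnz, mem_centralizer_singleton_iff.1 (H.le hn)⟩) hn

theorem exists_rot : ∃ o ∈ K0, o ∈ normalizer (X0g z u t : Set G) ∧ o * z * o⁻¹ = u ∧
    o * u * o⁻¹ = z * u ∧ o * (z * u) * o⁻¹ = z := by
  obtain ⟨k, hk, hku⟩ := conj_in_half P C H (conj_u P C) (comm_tu P C).symm
  obtain ⟨n, hn, hnS, hnz⟩ := burnside H.X0_le (X0_pGroup P C H) (X0_sylow P C H)
    (inR_central P C (Or.inr (Or.inl rfl))) (inR_central P C (Or.inr (Or.inr (Or.inl rfl))))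
    (inv_mem hk) (a := z) (b := u) (by rw [← hku]; group)
  have hnN := mem_normalizer_of_le hnS
  have hnu : n * u * n⁻¹ = z * u := by
    rcases conj_three P C H hnN (Or.inr (Or.inr (Or.inl rfl))) P.T.zne with e | e | e
    · exfalso
      obtain ⟨r, hr, hrS⟩ := odd_pow P C H
      have h2 : n * n * z = z * (n * n) := by
        rw [← mul_inv_eq_iff_eq_mul, show n * n * z * (n * n)⁻¹ = n * (n * z * n⁻¹) * n⁻¹ by group,
          hnz, e]
      have h := commute_of_odd hr (mem_X0g.1 (hrS n hn hnS)).1 h2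
      rw [h, mul_inv_cancel_right] at hnz
      exact P.une hnz.symm
    · exact absurd (mul_left_cancel (mul_right_cancel (e.trans (show u = n * z * n⁻¹ from hnz.symm)))) P.une
    · exact e
  refine ⟨n, hn, hnN, hnz, hnu, ?_⟩
  rw [show n * (z * u) * n⁻¹ = n * z * n⁻¹ * (n * u * n⁻¹) by group, hnz, hnu, P.zu, ← mul_assoc,
    P.T.zz, one_mul]

end Half

end CfsgLib.InvChar.SuzT
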