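import Cfsg.Agent.Lib.InvChar.SuzT.LCount
import Cfsg.Agent.Lib.InvChar.SuzT.Half
import Cfsg.Agent.Lib.InvChar.SuzType.Data
import Mathlib.GroupTheory.Sylow

/-!
# Elements of order five and seven centralising a central involution of Suzuki type

There are none of order seven; the centraliser of one of order five meets that of the involution in
a group of order 40.
-/

set_option autoImplicit false
set_option linter.unusedSectionVars false

namespace CfsgLib.InvChar.SuzT

open Subgroup SuzType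

/-- A word of order five. -/
def w5 : List (ℕ × ℕ) := [(7, 17), (3, 13)]

/-- A word raising the first to its square. -/
def w4 : List (ℕ × ℕ) := [(24, 48), (16, 32), (3, 13)]

/-- Its map. -/
def f5 : V → V := wfun w5

set_option synthInstance.maxSize 2000 in
theorem f5_facts : GoodWord w5 ∧ GoodWord w4 ∧ (∀ x, f5 (f5 (f5 (f5 (f5 x)))) = x) ∧
    (∀ x, wfun w4 (f5 x) = f5 (f5 (wfun w4 x))) ∧ f5 (code 4) ≠ code 4 ∧
    (∀ x : V, f5 x = x → qf x = 0 → x = 0 ∨ x = code 39 ∨ x = code 55) ∧
    f5 (code 39) = code 39 ∧ f5 (code 55) = code 55 ∧ qf (code 39) = 0 ∧ qf (code 55) = 0 ∧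
    qf (code 4) = 0 ∧ bf (code 4) (code 39) = 0 ∧ bf (code 4) (code 55) = 0 ∧
    code 39 ≠ (0 : V) ∧ code 55 ≠ (0 : V) ∧ code 39 ≠ code 55 ∧ code 4 ≠ (0 : V) ∧
    (∀ x : V, qf x = 0 → bf x (code 39) = 0 → bf x (code 55) = 0 →
      x ∈ ([0, code 4, code 9, code 10, code 27, code 28] : List V)) := by
  decide +kernel

set_option synthInstance.maxSize 2000 in
theorem f5_span : ∀ x : V, ∃ c0 c1 c2 c3 ca cb : ZMod 2, x = sm c0 (code 4) + sm c1 (f5 (code 4)) +
    sm c2 (f5 (f5 (code 4))) + sm c3 (f5 (f5 (f5 (code 4)))) + sm ca (code 39) + sm cb (code 55) := by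
  decide +kernel

set_option synthInstance.maxSize 2000 in
theorem f5_card : Nat.card {x : V // f5 x = x} = 4 := by
  rw [Nat.card_eq_fintype_card]; decide +kernel

theorem f5_def (x : V) : wfun w5 x = f5 x := rfl

theorem f5_five (x : V) : f5^[5] x = x := by
  rw [Function.iterate_succ_apply', Function.iterate_succ_apply', Function.iterate_succ_apply',
    Function.iterate_succ_apply', Function.iterate_succ_apply', Function.iterate_zero_apply]
  exact f5_facts.2.2.1 x

attribute [local irreducible] f5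

variable {G : Type*} [Group G] [Finite G] {z : G} {Q : Subgroup G} {φ : G → V} (S : Data z Q φ)
include S

theorem cz_no_seven {g : G} (hg : g * z = z * g) : orderOf g ≠ 7 := by
  intro h
  have := orderOf_dvd_natCard (⟨g, mem_centralizer_singleton_iff.2 hg⟩ : centralizer ({z} : Set G))
  rw [Subgroup.orderOf_mk, h, S.cardC] at this
  norm_num at this

theorem card_Q : Nat.card Q = 128 := by
  classical
  choose e he he' using fun x : V => S.hsurj x
  have hzj : ∀ j : ZMod 2, zp z j ∈ Q ∧ φ (zp z j) = 0 := fun j => by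
    rcases z2_cases' j with rfl | rfl
    · rw [zp_zero]; exact ⟨one_mem _, S.phi_one⟩
    · rw [zp_one]; exact ⟨S.zQ, S.hz⟩
  let F : V × ZMod 2 → Q := fun p => ⟨e p.1 * zp z p.2, mul_mem (he _) (hzj _).1⟩
  have hF : Function.Bijective F := by
    refine ⟨fun p p' h => ?_, fun g => ?_⟩
    · have h' : e p.1 * zp z p.2 = e p'.1 * zp z p'.2 := congrArg Subtype.val h
      have h1 := congrArg φ h'
      rw [S.hadd _ (he _) _ (hzj _).1, S.hadd _ (he _) _ (hzj _).1, (hzj _).2, (hzj _).2, he', he',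
        add_zero, add_zero] at h1
      rw [h1] at h'
      refine Prod.ext h1 ?_
      have h2 := mul_left_cancel h'
      rcases z2_cases' p.2 with a | a <;> rcases z2_cases' p'.2 with b | b <;>
        rw [a, b] at h2 ⊢ <;> simp only [zp_zero, zp_one] at h2
      · exact absurd h2.symm S.zne
      · exact absurd h2 S.zne
    · rcases S.phi_eq g.2 (he (φ g)) (he' _).symm with e1 | e1
      · exact ⟨(φ g, 0), Subtype.ext (by simp [F, zp_zero, ← e1])⟩
      · exact ⟨(φ g, 1), Subtype.ext (by simp [F, zp_one, ← e1])⟩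
  rw [← Nat.card_congr (Equiv.ofBijective F hF), Nat.card_prod, Nat.card_zmod,
    Nat.card_eq_fintype_card, show Fintype.card V = 64 by decide +kernel]

theorem exists_five : ∃ y n : G, y * z = z * y ∧ orderOf y = 5 ∧ (∀ x, act Q φ y x = f5 x) ∧
    n * z = z * n ∧ n * y * n⁻¹ = y * y := by
  have : Fact (Nat.Prime 5) := ⟨by norm_num⟩
  obtain ⟨hg, hg4, -, h4, hne, -⟩ := f5_facts
  have h55 := f5_five
  obtain ⟨h, hh, hh'⟩ := S.exists_word w5 hg
  simp only [f5_def] at hh'
  obtain ⟨n, hn, hn'⟩ := S.exists_word w4 hg4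
  generalize f5 = f at *
  have hpz : ∀ j : ℕ, h ^ j * z = z * h ^ j := fun j => ((show Commute h z from hh).pow_left j).eq
  have hpow : ∀ j : ℕ, ∀ x, act Q φ (h ^ j) x = f^[j] x := by
    intro j
    induction j with
    | zero => intro x; rw [pow_zero, S.act_of_mem (one_mem Q)]; rfl
    | succ j ih =>
      intro x
      rw [pow_succ', S.act_mul hh (hpz j), ih, hh', Function.iterate_succ_apply']
  have hQ5 : h ^ 5 ∈ Q := S.mem_of_act_id (hpz 5) fun x => by rw [hpow, h55]
  have h2 : (h ^ 5) ^ 128 = 1 := by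
    have := congrArg Subtype.val (pow_card_eq_one' (x := (⟨h ^ 5, hQ5⟩ : Q)))
    rw [card_Q S] at this
    rw [Subgroup.coe_pow] at this
    exact this
  -- a power of order five
  obtain ⟨j0, hj0⟩ : ∃ j : ℕ, 5 * j + 1 = 128 * 2 := ⟨51, rfl⟩
  set y := h ^ (5 * j0 + 1) with hy
  have hyact : ∀ x, act Q φ y x = f x := by
    intro x
    rw [hy, hpow, Function.iterate_succ_apply, Function.iterate_mul]
    exact Function.iterate_fixed (h55 _) j0
  have hy5 : y ^ 5 = 1 := by
    rw [hy, ← pow_mul, mul_comm, pow_mul, hj0, pow_mul, h2, one_pow]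
  have hy1 : y ≠ 1 := fun e => hne (by rw [← hyact, e, S.act_of_mem (one_mem Q)])
  have hyo : orderOf y = 5 := orderOf_eq_prime hy5 hy1
  have hyz : y * z = z * y := hpz _
  -- adjust the second
  have hnyz : n * y * n⁻¹ * z = z * (n * y * n⁻¹) :=
    (((show Commute n z from hn).mul_left hyz).mul_left (show Commute n z from hn).inv_left).eq
  have hc : n * y * n⁻¹ * (y * y)⁻¹ ∈ Q := by
    have hyy : y * y * z = z * (y * y) := ((show Commute y z from hyz).mul_left hyz).eq
    refine S.mem_of_act_id ((show Commute (n * y * n⁻¹) z from hnyz).mul_left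
      (show Commute (y * y) z from hyy).inv_left).eq fun x => ?_
    obtain ⟨x', rfl⟩ : ∃ x', act Q φ (y * y) x' = x := ⟨act Q φ (y * y)⁻¹ x, by
      rw [← S.act_mul hyy (show Commute (y * y) z from hyy).inv_left.eq, mul_inv_cancel,
        S.act_of_mem (one_mem Q)]⟩
    rw [← S.act_mul ((show Commute (n * y * n⁻¹) z from hnyz).mul_left
      (show Commute (y * y) z from hyy).inv_left).eq hyy, inv_mul_cancel_right, S.act_mul hyz hyz]
    obtain ⟨x'', rfl⟩ : ∃ x'', act Q φ n x'' = x' := ⟨act Q φ n⁻¹ x', by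
      rw [← S.act_mul hn (show Commute n z from hn).inv_left.eq, mul_inv_cancel,
        S.act_of_mem (one_mem Q)]⟩
    rw [← S.act_mul hnyz hn, inv_mul_cancel_right, S.act_mul hn hyz, hn', hn', hyact, hyact, hyact]
    exact h4 x''
  -- Sylow in `Q⟨y⟩`
  set U := Q ⊔ zpowers y with hU
  have hQU : Q ≤ U := le_sup_left
  have hyU : y ∈ U := mem_sup_right (mem_zpowers y)
  have hnU : n * y * n⁻¹ ∈ U := by
    rw [show n * y * n⁻¹ = n * y * n⁻¹ * (y * y)⁻¹ * (y * y) by group]
    exact mul_mem (hQU hc) (mul_mem hyU hyU)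
  have hUc : U ≤ centralizer ({z} : Set G) := sup_le
    (fun q hq => mem_centralizer_singleton_iff.2 (S.commQ hq))
    (zpowers_le.2 (mem_centralizer_singleton_iff.2 hyz))
  have hnorm : zpowers y ≤ normalizer (Q : Set G) :=
    zpowers_le.2 (S.pack.norm (mem_centralizer_singleton_iff.2 hyz))
  have : (Q.subgroupOf U).Normal := ⟨fun a ha g => by
    rw [mem_subgroupOf] at ha ⊢
    simp only [Subgroup.coe_mul, InvMemClass.coe_inv]
    exact (mem_normalizer_iff.1 ((sup_le le_normalizer hnorm : U ≤ normalizer (Q : Set G)) g.2) _).1 ha⟩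
  have hcardU : ¬ 5 * 5 ∣ Nat.card U := fun h => by
    have := h.trans (card_dvd_of_le hUc)
    rw [S.cardC] at this
    norm_num at this
  obtain ⟨Sy, hSy⟩ := (IsPGroup.of_card (n := 1) (by rw [Nat.card_zpowers, Subgroup.orderOf_mk, hyo, pow_one]) :
    IsPGroup 5 (zpowers (⟨y, hyU⟩ : U))).exists_le_sylow
  have hSyeq : zpowers (⟨y, hyU⟩ : U) = (Sy : Subgroup U) := by
    refine eq_of_le_of_card_ge hSy ?_
    obtain ⟨j, hj⟩ := Sy.2.exists_card_eq
    rw [Nat.card_zpowers, Subgroup.orderOf_mk, hyo, hj]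
    rcases Nat.lt_or_ge j 2 with h' | h'
    · exact le_trans (Nat.pow_le_pow_right (by norm_num) (by omega : j ≤ 1)) (by norm_num)
    · exact absurd ((pow_dvd_pow 5 h').trans (hj ▸ (Sy : Subgroup U).card_subgroup_dvd_card)) hcardU
  obtain ⟨k, hk⟩ := Invol.exists_conj_mem_sylow Sy (H := zpowers (⟨n * y * n⁻¹, hnU⟩ : U))
    (IsPGroup.of_card (n := 1) (by
      rw [Nat.card_zpowers, Subgroup.orderOf_mk, Invol.orderOf_conj_eq, hyo, pow_one]))
  have hk' := hk _ (mem_zpowers _)
  change _ ∈ (Sy : Subgroup U) at hk'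
  rw [← hSyeq] at hk'
  obtain ⟨i, hi⟩ := mem_zpowers_iff.1 hk'
  have hi' : y ^ i = (k : G) * (n * y * n⁻¹) * (k : G)⁻¹ := by simpa using congrArg Subtype.val hi
  have hkz : (k : G) * z = z * k := mem_centralizer_singleton_iff.1 (hUc k.2)
  refine ⟨y, (k : G) * n, hyz, hyo, hyact, ((show Commute (k : G) z from hkz).mul_left hn).eq, ?_⟩
  rw [show (k : G) * n * y * ((k : G) * n)⁻¹ = (k : G) * (n * y * n⁻¹) * (k : G)⁻¹ by group, ← hi']
  -- the image modulo `Q`
  let π := QuotientGroup.mk' (Q.subgroupOf U)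
  have hcomm : ∀ a b : U, π (a * b) = π (b * a) := by
    have hgen : ∀ a : U, ∃ j : ℤ, π a = π (⟨y, hyU⟩ : U) ^ j := by
      intro a
      obtain ⟨q, hq, b, hb, he⟩ := exists_mul_of_sup hnorm a.2
      obtain ⟨j, rfl⟩ := mem_zpowers_iff.1 hb
      refine ⟨j, ?_⟩
      rw [show a = (⟨q, hQU hq⟩ : U) * (⟨y, hyU⟩ : U) ^ j from Subtype.ext (by simpa using he), map_mul,
        map_zpow, show π (⟨q, hQU hq⟩ : U) = 1 from (QuotientGroup.eq_one_iff _).2 hq, one_mul]
    intro a b
    obtain ⟨i, hi⟩ := hgen a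
    obtain ⟨j, hj⟩ := hgen b
    rw [map_mul, map_mul, hi, hj, ← zpow_add, ← zpow_add, add_comm]
  have e1 : π (⟨y, hyU⟩ ^ i : U) = π (⟨n * y * n⁻¹, hnU⟩ : U) := by
    rw [show ((⟨y, hyU⟩ : U) ^ i) = k * ⟨n * y * n⁻¹, hnU⟩ * k⁻¹ from hi, hcomm, inv_mul_cancel_left]
  have e2 : π (⟨n * y * n⁻¹, hnU⟩ : U) = π (⟨y, hyU⟩ * ⟨y, hyU⟩ : U) := by
    rw [show (⟨n * y * n⁻¹, hnU⟩ : U) = ⟨n * y * n⁻¹ * (y * y)⁻¹, hQU hc⟩ * (⟨y, hyU⟩ * ⟨y, hyU⟩) from
      Subtype.ext (by simp [mul_assoc]), map_mul,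
      show π (⟨n * y * n⁻¹ * (y * y)⁻¹, hQU hc⟩ : U) = 1 from (QuotientGroup.eq_one_iff _).2 hc, one_mul]
  have e3 : y ^ (i - 2) ∈ Q := by
    have h' := e1.trans e2
    rw [map_zpow, map_mul, ← pow_two, ← zpow_natCast, ← mul_inv_eq_one, ← zpow_neg, ← zpow_add,
      ← map_zpow] at h'
    have := (QuotientGroup.eq_one_iff _).1 h'
    rw [mem_subgroupOf] at this
    simpa [sub_eq_add_neg] using this
  have e4 : y ^ (i - 2) = 1 := by
    have ha : orderOf (y ^ (i - 2)) ∣ 128 := by
      have := orderOf_dvd_natCard (⟨_, e3⟩ : Q)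
      rwa [Subgroup.orderOf_mk, card_Q S] at this
    have hb : orderOf (y ^ (i - 2)) ∣ 5 := orderOf_dvd_of_pow_eq_one (by
      rw [← zpow_natCast, ← zpow_mul, mul_comm, zpow_mul, zpow_natCast, hy5, one_zpow])
    exact orderOf_eq_one_iff.1 (Nat.dvd_one.1 (by simpa using Nat.dvd_gcd ha hb))
  rw [show i = i - 2 + 2 by ring, zpow_add, e4, one_mul, zpow_two]
where
  exists_mul_of_sup {y : G} (hn : zpowers y ≤ normalizer (Q : Set G)) {a : G} (ha : a ∈ Q ⊔ zpowers y) :
      ∃ q ∈ Q, ∃ b ∈ zpowers y, a = q * b := by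
    have h : a ∈ ((Q ⊔ zpowers y : Subgroup G) : Set G) := ha
    rw [Subgroup.coe_mul_of_right_le_normalizer_left Q (zpowers y) hn] at h
    obtain ⟨q, hq, b, hb, e⟩ := Set.mem_mul.1 h
    exact ⟨q, hq, b, hb, e.symm⟩

theorem card_cz_five {y : G} (hyo : orderOf y = 5) (hyz : y * z = z * y) :
    Nat.card ↥(centralizer ({z} : Set G) ⊓ centralizer ({y} : Set G)) = 40 := by
  classical
  have : Fact (Nat.Prime 5) := ⟨by norm_num⟩
  obtain ⟨y0, n, hy0z, hy0o, hact, hnz, hn⟩ := exists_five S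
  obtain ⟨-, -, -, -, -, hfix, fa, fb, qa, qb, qv, bva, bvb, a0, b0, ab, v0', hfive⟩ := f5_facts
  have hz4 : Nat.card {x : V // f5 x = x} = 4 := f5_card
  have hspan := f5_span
  generalize f5 = f at *
  set Cz := centralizer ({z} : Set G) with hCz
  set H := Cz ⊓ centralizer ({y0} : Set G) with hH
  have hC : Nat.card Cz = 128 * 25920 := S.cardC
  have hk25 : ¬ 5 * 5 ∣ Nat.card Cz := by rw [hC]; norm_num
  -- reduce to `y0`
  suffices hmain : Nat.card H = 40 by
    obtain ⟨PS, hPS⟩ := (IsPGroup.of_card (n := 1) (by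
      rw [Nat.card_zpowers, Subgroup.orderOf_mk, hy0o, pow_one]) :
      IsPGroup 5 (zpowers (⟨y0, mem_centralizer_singleton_iff.2 hy0z⟩ : Cz))).exists_le_sylow
    have heq : zpowers (⟨y0, mem_centralizer_singleton_iff.2 hy0z⟩ : Cz) = (PS : Subgroup Cz) := by
      refine eq_of_le_of_card_ge hPS ?_
      obtain ⟨j, hj⟩ := PS.2.exists_card_eq
      rw [Nat.card_zpowers, Subgroup.orderOf_mk, hy0o, hj]
      rcases Nat.lt_or_ge j 2 with h' | h'
      · exact le_trans (Nat.pow_le_pow_right (by norm_num) (by omega : j ≤ 1)) (by norm_num)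
      · exact absurd ((pow_dvd_pow 5 h').trans (hj ▸ (PS : Subgroup Cz).card_subgroup_dvd_card)) hk25
    obtain ⟨k, hk⟩ := Invol.exists_conj_mem_sylow PS
      (H := zpowers (⟨y, mem_centralizer_singleton_iff.2 hyz⟩ : Cz))
      (IsPGroup.of_card (n := 1) (by rw [Nat.card_zpowers, Subgroup.orderOf_mk, hyo, pow_one]))
    have hk' := hk _ (mem_zpowers _)
    change _ ∈ (PS : Subgroup Cz) at hk'
    rw [← heq] at hk'
    obtain ⟨i, hi⟩ := mem_zpowers_iff.1 hk'
    have hi' : y0 ^ i = (k : G) * y * (k : G)⁻¹ := by simpa using congrArg Subtype.val hi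
    have hkz : (k : G) * z = z * k := mem_centralizer_singleton_iff.1 k.2
    have hnd : ¬ (5 : ℤ) ∣ i := fun ⟨j, hj⟩ => by
      rw [hj, zpow_mul, show ((5 : ℤ)) = ((orderOf y0 : ℕ) : ℤ) by rw [hy0o]; rfl, zpow_natCast,
        pow_orderOf_eq_one, one_zpow, eq_comm, conj_eq_one_iff] at hi'
      rw [hi', orderOf_one] at hyo; omega
    have hmap : (Cz ⊓ centralizer ({y} : Set G)).map (MulAut.conj (k : G)).toMonoidHom = H := by
      ext x
      simp only [LThreeFour.mem_map_conj, hH, mem_inf, hCz, mem_centralizer_singleton_iff]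
      constructor
      · rintro ⟨h1, h2⟩
        have hxz : x * z = z * x := by
          calc x * z = (k : G) * ((k : G)⁻¹ * x * k * ((k : G)⁻¹ * z * k)) * (k : G)⁻¹ := by group
            _ = (k : G) * (((k : G)⁻¹ * z * k) * ((k : G)⁻¹ * x * k)) * (k : G)⁻¹ := by
              rw [show (k : G)⁻¹ * z * k = z by rw [mul_assoc, ← hkz, inv_mul_cancel_left], h1]
            _ = z * x := by group
        refine ⟨hxz, ?_⟩
        have hx : Commute x ((k : G) * y * (k : G)⁻¹) := by
          show x * ((k : G) * y * (k : G)⁻¹) = (k : G) * y * (k : G)⁻¹ * x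
          calc x * ((k : G) * y * (k : G)⁻¹) = (k : G) * ((k : G)⁻¹ * x * k * y) * (k : G)⁻¹ := by group
            _ = _ := by rw [h2]; group
        rw [← hi'] at hx
        have h5 : y0 ^ (5 : ℤ) = 1 := by
          rw [show (5 : ℤ) = ((orderOf y0 : ℕ) : ℤ) by rw [hy0o]; rfl, zpow_natCast, pow_orderOf_eq_one]
        obtain ⟨a, b, hab⟩ : ∃ a b : ℤ, i * a = 1 + 5 * b := by
          have h0 := Int.emod_nonneg i (show (5 : ℤ) ≠ 0 by norm_num)
          have h1 := Int.emod_lt_of_pos i (show (0 : ℤ) < 5 by norm_num)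
          have h2 : i % 5 ≠ 0 := fun e => hnd (Int.dvd_of_emod_eq_zero e)
          have h3 := Int.mul_ediv_add_emod i 5
          generalize hm : i % 5 = m at h0 h1 h2 h3
          interval_cases m
          · exact absurd rfl h2
          · exact ⟨1, i / 5, by linarith⟩
          · exact ⟨3, 3 * (i / 5) + 1, by linarith⟩
          · exact ⟨2, 2 * (i / 5) + 1, by linarith⟩
          · exact ⟨4, 4 * (i / 5) + 3, by linarith⟩
        have := hx.zpow_right a
        rwa [← zpow_mul, hab, zpow_add, zpow_mul y0 5, h5, one_zpow, mul_one, zpow_one] at this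
      · rintro ⟨h1, h2⟩
        have hxk : Commute x ((k : G) * y * (k : G)⁻¹) := hi' ▸ (show Commute x y0 from h2).zpow_right i
        constructor
        · have hz' : (k : G)⁻¹ * z * k = z := by rw [mul_assoc, ← hkz, inv_mul_cancel_left]
          calc (k : G)⁻¹ * x * k * z = (k : G)⁻¹ * x * ((k : G) * z) := by group
            _ = (k : G)⁻¹ * (x * z) * k := by rw [hkz]; group
            _ = (k : G)⁻¹ * z * k * ((k : G)⁻¹ * x * k) := by rw [h1]; group
            _ = z * ((k : G)⁻¹ * x * k) := by rw [hz']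
        · calc (k : G)⁻¹ * x * k * y = (k : G)⁻¹ * (x * ((k : G) * y * (k : G)⁻¹)) * k := by group
            _ = y * ((k : G)⁻¹ * x * k) := by rw [hxk.eq]; group
    rw [← LThreeFour.card_map_conj _ (k : G), hmap, hmain]
  -- the part in `Q`
  have hHQ : ∀ q ∈ Q, (q ∈ H ↔ f (φ q) = φ q) := by
    intro q hq
    have hy1 : act Q φ y0 (φ q) = φ (y0 * q * y0⁻¹) := S.act_phi hy0z hq
    rw [hact] at hy1
    constructor
    · intro hqH
      rw [hy1, ← mem_centralizer_singleton_iff.1 hqH.2, mul_inv_cancel_right]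
    · intro e
      refine ⟨mem_centralizer_singleton_iff.2 (S.commQ hq), mem_centralizer_singleton_iff.2 ?_⟩
      rcases S.phi_eq (S.norm hy0z hq) hq (hy1.symm.trans e) with e' | e'
      · exact (mul_inv_eq_iff_eq_mul.1 e').symm
      · exact (fix_of_odd' (hy0o ▸ (by decide : Odd 5)) S.zz hy0z e')
  have hQH : Nat.card ↥(Q ⊓ H) = 8 := by
    choose e he he' using fun x : {x : V // f x = x} => S.hsurj x.1
    have hmem : ∀ x : {x : V // f x = x}, ∀ j : ZMod 2, zp z j * e x ∈ Q ⊓ H ∧ φ (zp z j * e x) = x.1 := by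
      intro x j
      have hzj : zp z j ∈ Q := by unfold zp; split_ifs; exacts [S.zQ, one_mem _]
      have hphi : φ (zp z j * e x) = x.1 := by
        rw [S.hadd _ hzj _ (he x), he']
        unfold zp; split_ifs <;> simp [S.hz, S.phi_one]
      exact ⟨⟨mul_mem hzj (he x), (hHQ _ (mul_mem hzj (he x))).2 (by rw [hphi]; exact x.2)⟩, hphi⟩
    let F : {x : V // f x = x} × ZMod 2 → ↥(Q ⊓ H) := fun p => ⟨zp z p.2 * e p.1, (hmem p.1 p.2).1⟩
    have hF : Function.Bijective F := by
      refine ⟨fun p p' h => ?_, fun g => ?_⟩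
      · have h' : zp z p.2 * e p.1 = zp z p'.2 * e p'.1 := congrArg Subtype.val h
        have h1 : p.1 = p'.1 := Subtype.ext (by rw [← (hmem p.1 p.2).2, h', (hmem p'.1 p'.2).2])
        rw [h1] at h'
        refine Prod.ext h1 ?_
        have h2 := mul_right_cancel h'
        rcases z2_cases' p.2 with a | a <;> rcases z2_cases' p'.2 with b | b <;>
          rw [a, b] at h2 ⊢ <;> simp only [zp_zero, zp_one] at h2
        · exact absurd h2.symm S.zne
        · exact absurd h2 S.zne
      · have hx : f (φ g) = φ g := (hHQ g g.2.1).1 g.2.2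
        rcases S.phi_eq g.2.1 (he ⟨_, hx⟩) (by rw [he']) with e1 | e1
        · exact ⟨(⟨_, hx⟩, 0), Subtype.ext (by simp [F, zp_zero, ← e1])⟩
        · exact ⟨(⟨_, hx⟩, 1), Subtype.ext (by
            show zp z 1 * e ⟨_, hx⟩ = g
            rw [zp_one]; exact (S.commQ (he _)).symm.trans e1.symm)⟩
    rw [← Nat.card_congr (Equiv.ofBijective F hF), Nat.card_prod, hz4, Nat.card_zmod]
  -- the image
  have hcomm : ∀ g ∈ H, ∀ x, act Q φ g (f x) = f (act Q φ g x) := by
    intro g hg x
    have hgz := mem_centralizer_singleton_iff.1 hg.1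
    rw [← hact, ← hact, ← S.act_mul hgz hy0z, ← S.act_mul hy0z hgz,
      mem_centralizer_singleton_iff.1 hg.2]
  have hzero : ∀ g ∈ H, act Q φ g 0 = 0 := fun g hg => by
    have h := S.act_add (mem_centralizer_singleton_iff.1 hg.1) 0 0
    rw [add_zero] at h
    exact left_eq_add.1 h
  have hinj0 : ∀ g ∈ H, ∀ x, act Q φ g x = 0 → x = 0 := by
    intro g hg x hx
    have hgi : g⁻¹ ∈ H := inv_mem hg
    calc x = act Q φ (g⁻¹ * g) x := by rw [inv_mul_cancel, S.act_of_mem (one_mem Q)]
      _ = act Q φ g⁻¹ (act Q φ g x) :=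
        S.act_mul (mem_centralizer_singleton_iff.1 hgi.1) (mem_centralizer_singleton_iff.1 hg.1) x
      _ = 0 := by rw [hx, hzero g⁻¹ hgi]
  have hpt : ∀ g ∈ H, ∀ x, (x = code 39 ∨ x = code 55) → act Q φ g x = code 39 ∨ act Q φ g x = code 55 := by
    intro g hg x hx
    have hgz := mem_centralizer_singleton_iff.1 hg.1
    have h1 : f (act Q φ g x) = act Q φ g x := by
      rw [← hcomm g hg x]; rcases hx with rfl | rfl
      · rw [fa]
      · rw [fb]
    have h2 : qf (act Q φ g x) = 0 := by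
      rw [S.act_qf hgz]; rcases hx with rfl | rfl
      · exact qa
      · exact qb
    refine (hfix _ h1 h2).resolve_left fun h => ?_
    rcases hx with rfl | rfl
    · exact a0 (hinj0 g hg _ h)
    · exact b0 (hinj0 g hg _ h)
  have hv : ∀ g ∈ H, act Q φ g (code 4) ∈ ([code 4, code 9, code 10, code 27, code 28] : List V) := by
    intro g hg
    have hgz := mem_centralizer_singleton_iff.1 hg.1
    have key : ∀ c, (c = code 39 ∨ c = code 55) → bf (act Q φ g (code 4)) c = 0 := by
      intro c hc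
      have hgi : g⁻¹ ∈ H := inv_mem hg
      rw [show c = act Q φ g (act Q φ g⁻¹ c) by
        rw [← S.act_mul hgz (mem_centralizer_singleton_iff.1 hgi.1), mul_inv_cancel,
          S.act_of_mem (one_mem Q)], S.act_bf hgz]
      rcases hpt g⁻¹ hgi c hc with e | e <;> rw [e] <;> assumption
    have := hfive _ (by rw [S.act_qf hgz]; exact qv) (key _ (Or.inl rfl)) (key _ (Or.inr rfl))
    rcases List.mem_cons.1 this with h | h
    · exact absurd (hinj0 g hg _ h) v0'
    · exact h
  have hbound := card_le_mul (M := H) (H := Q ⊓ H)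
    (fun g : H => ((⟨act Q φ g (code 4), hv g g.2⟩ :
        {x : V // x ∈ ([code 4, code 9, code 10, code 27, code 28] : List V)}),
      decide (act Q φ g (code 39) = code 39))) fun a b h => by
    simp only [Prod.mk.injEq, Subtype.mk.injEq] at h
    obtain ⟨hv', hd⟩ := h
    have hab : ((a : G)⁻¹ * b) ∈ H := mul_mem (inv_mem a.2) b.2
    refine ⟨S.mem_of_act_id (mem_centralizer_singleton_iff.1 hab.1) ?_, hab⟩
    have haz := mem_centralizer_singleton_iff.1 a.2.1
    have hbz := mem_centralizer_singleton_iff.1 b.2.1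
    have hba : ∀ x, act Q φ a x = act Q φ b x → act Q φ ((a : G)⁻¹ * b) x = x := fun x e => by
      rw [S.act_mul ((show Commute (a : G) z from haz).inv_left).eq hbz, ← e,
        ← S.act_mul ((show Commute (a : G) z from haz).inv_left).eq haz, inv_mul_cancel,
        S.act_of_mem (one_mem Q)]
    have e39 : act Q φ a (code 39) = act Q φ b (code 39) := by
      rcases hpt _ a.2 _ (Or.inl rfl) with e1 | e1 <;> rcases hpt _ b.2 _ (Or.inl rfl) with e2 | e2 <;>
        simp [e1, e2, ab, ab.symm] at hd ⊢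
    have e55 : act Q φ a (code 55) = act Q φ b (code 55) := by
      have hne : ∀ g ∈ H, act Q φ g (code 39) ≠ act Q φ g (code 55) := fun g hg e => ab (by
        have h := hinj0 g hg (code 39 + code 55) (by
          rw [S.act_add (mem_centralizer_singleton_iff.1 hg.1), e, v_self])
        calc code 39 = code 39 + (code 55 + code 55) := by rw [v_self, add_zero]
          _ = code 55 := by rw [← add_assoc, h, zero_add])
      have hna := hne _ a.2
      have hnb := hne _ b.2
      rcases hpt _ a.2 _ (Or.inr rfl) with e1 | e1 <;> rcases hpt _ b.2 _ (Or.inr rfl) with e2 | e2 <;>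
        rcases hpt _ a.2 _ (Or.inl rfl) with e3 | e3 <;> rcases hpt _ b.2 _ (Or.inl rfl) with e4 | e4 <;>
        first | exact e1.trans e2.symm | exact absurd (e3.trans e1.symm) hna |
          exact absurd (e4.trans e2.symm) hnb | exact absurd (e3.symm.trans (e39.trans e4)) ab |
          exact absurd (e3.symm.trans (e39.trans e4)).symm ab
    intro x
    obtain ⟨c0, c1, c2, c3, ca, cb, rfl⟩ := hspan x
    have hz' := mem_centralizer_singleton_iff.1 hab.1
    have hcm := hcomm _ hab
    have hv0 := hba _ hv'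
    simp only [S.act_add hz', additive_sm (fun x y => S.act_add hz' x y), hcm, hv0, hba _ e39, hba _ e55]
  have hcard5 : Nat.card ({x : V // x ∈ ([code 4, code 9, code 10, code 27, code 28] : List V)} × Bool) ≤ 10 := by
    rw [Nat.card_prod, Nat.card_eq_fintype_card, Nat.card_eq_fintype_card, Fintype.card_bool]
    have : Fintype.card {x : V // x ∈ ([code 4, code 9, code 10, code 27, code 28] : List V)} ≤ 5 := by
      decide +kernel
    omega
  rw [hQH] at hbound
  have hle80 : Nat.card H ≤ 80 := le_trans hbound (by omega)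
  have h40 : 40 ∣ Nat.card H := by
    have h8 : 8 ∣ Nat.card H := hQH ▸ card_dvd_of_le inf_le_right
    have h5 : 5 ∣ Nat.card H := by
      rw [← hy0o]
      have : y0 ∈ H := ⟨mem_centralizer_singleton_iff.2 hy0z, mem_centralizer_singleton_iff.2 rfl⟩
      have h := orderOf_dvd_natCard (⟨y0, this⟩ : H)
      rwa [Subgroup.orderOf_mk] at h
    exact Nat.Coprime.mul_dvd_of_dvd_of_dvd (by norm_num : Nat.Coprime 8 5) h8 h5
  -- the normaliser
  set y0' : Cz := ⟨y0, mem_centralizer_singleton_iff.2 hy0z⟩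
  set n' : Cz := ⟨n, mem_centralizer_singleton_iff.2 hnz⟩
  have hny : n' * y0' * n'⁻¹ = y0' * y0' := Subtype.ext hn
  obtain ⟨h1, h2, h3, h4, -⟩ := sylow_facts (K := Cz) (B := zpowers y0') (p := 5)
    (by rw [Nat.card_zpowers, Subgroup.orderOf_mk, hy0o]) hk25
  have hcent : Nat.card (centralizer (zpowers y0' : Set Cz)) = Nat.card H := by
    rw [show H = Subgroup.map Cz.subtype ((centralizer ({y0} : Set G)).subgroupOf Cz) by
      rw [subgroupOf_map_subtype, inf_comm]]
    rw [card_map_of_injective Cz.subtype_injective]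
    have : centralizer (zpowers y0' : Set Cz) = (centralizer ({y0} : Set G)).subgroupOf Cz := by
      ext g
      rw [mem_subgroupOf, mem_centralizer_iff, mem_centralizer_singleton_iff]
      constructor
      · intro h; exact (congrArg Subtype.val (h y0' (mem_zpowers _))).symm
      · intro h x hx
        obtain ⟨j, rfl⟩ := mem_zpowers_iff.1 hx
        exact ((show Commute g y0' from Subtype.ext h).zpow_right j).eq.symm
    rw [this]
  set a := (centralizer (zpowers y0' : Set Cz)).relIndex (normalizer (zpowers y0' : Set Cz))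
  have ha4 : 4 ≤ a := by
    have hN : n' ∈ normalizer (zpowers y0' : Set Cz) := mem_normalizer_of_le fun x hx => by
      obtain ⟨j, rfl⟩ := mem_zpowers_iff.1 hx
      rw [← conj_zpow, hny]
      exact zpow_mem (mul_mem (mem_zpowers _) (mem_zpowers _)) j
    have hstep : ∀ j : ℕ, n' ^ j * y0' * (n' ^ j)⁻¹ = y0' ^ (2 ^ j) := by
      intro j
      induction j with
      | zero => simp
      | succ j ih =>
        rw [show n' ^ (j + 1) * y0' * (n' ^ (j + 1))⁻¹ = n' * (n' ^ j * y0' * (n' ^ j)⁻¹) * n'⁻¹ by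
          rw [pow_succ']; group, ih, ← conj_pow, hny, ← pow_two, ← pow_mul, ← pow_succ']
    have hm := mul_card_le (M := normalizer (zpowers y0' : Set Cz))
      (H := centralizer (zpowers y0' : Set Cz)) (centralizer_le_normalizer _)
      (fun j : Fin 4 => n' ^ (j : ℕ)) (fun j => pow_mem hN _) fun i j hij => by
      have hc := mem_centralizer_iff.1 hij y0' (mem_zpowers _)
      have hc' : n' ^ (i : ℕ) * y0' * (n' ^ (i : ℕ))⁻¹ = n' ^ (j : ℕ) * y0' * (n' ^ (j : ℕ))⁻¹ := by
        calc n' ^ (i : ℕ) * y0' * (n' ^ (i : ℕ))⁻¹ = n' ^ (i : ℕ) * (y0' *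
              ((n' ^ (i : ℕ))⁻¹ * n' ^ (j : ℕ))) * (n' ^ (j : ℕ))⁻¹ := by group
          _ = _ := by rw [hc]; group
      rw [hstep, hstep, pow_inj_mod] at hc'
      rw [show orderOf y0' = 5 by rw [Subgroup.orderOf_mk, hy0o]] at hc'
      fin_cases i <;> fin_cases j <;> first | rfl | simp at hc'
    rw [← h4, Nat.card_eq_fintype_card (α := Fin 4), Fintype.card_fin] at hm
    have hpos : 0 < Nat.card (centralizer (zpowers y0' : Set Cz)) := Nat.card_pos
    exact Nat.le_of_mul_le_mul_left (by linarith) hpos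
  have ha : a = 4 := le_antisymm (Nat.le_of_dvd (by norm_num) h3) ha4
  rw [← h4, hcent, ha, hC] at h2
  obtain ⟨d, hd⟩ := h40
  have hd0 : 0 < Nat.card H := Nat.card_pos
  rw [hd] at h2 hle80 hd0 ⊢
  have : d = 1 ∨ d = 2 := by omega
  rcases this with rfl | rfl
  · rfl
  · exfalso
    have hn := h1
    generalize (normalizer (zpowers y0' : Set Cz)).index = N at h2 hn
    omega
where
  fix_of_odd' {k y a : G} (hk : Odd (orderOf k)) (ha : a * a = 1) (hka : k * a = a * k)
      (e : k * y * k⁻¹ = y * a) : y * k = k * y := by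
    have hj : ∀ j : ℕ, k ^ j * y * (k ^ j)⁻¹ = y * a ^ j := by
      intro j
      induction j with
      | zero => simp
      | succ j ih =>
        rw [show k ^ (j + 1) * y * (k ^ (j + 1))⁻¹ = k * (k ^ j * y * (k ^ j)⁻¹) * k⁻¹ by
          rw [pow_succ']; group, ih,
          show k * (y * a ^ j) * k⁻¹ = k * y * k⁻¹ * (k * a ^ j * k⁻¹) by group, e,
          ((show Commute k a from hka).pow_right j).eq, mul_inv_cancel_right, pow_succ', mul_assoc]
    have h := hj (orderOf k)
    obtain ⟨m, hm⟩ := hk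
    rw [pow_orderOf_eq_one, one_mul, inv_one, mul_one, hm, pow_succ, pow_mul, pow_two, ha, one_pow,
      one_mul] at h
    rw [← h] at e
    exact (mul_inv_eq_iff_eq_mul.1 e).symm

end CfsgLib.InvChar.SuzT
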