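import Cfsg.Agent.Lib.InvChar.SuzT.Weak
import Cfsg.Agent.Lib.Invol.ZStar
import Mathlib.GroupTheory.FixedPointFree

/-!
# The half is the centraliser of the four group

It has no normal subgroup of odd order, so Glauberman's theorem makes the four group central.
-/

set_option autoImplicit false
set_option linter.unusedSectionVars false

namespace CfsgLib.InvChar.SuzT

open Subgroup SuzType

/-- `C(E)` has index two in `C(t)` and `σ` moves `E` as a transvection. -/
structure Mid {G : Type*} [Group G] {z u : G} {Q Q' : Subgroup G} {φ φ' : G → V}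
    (P : Pair z u Q Q' φ φ') (t : G) (E : Subgroup G) (σ o : G) : Prop where
  half : Half P t (centralizer (E : Set G))
  t_mem : t ∈ E
  cardE : Nat.card E = 4
  sqE : ∀ e ∈ E, e * e = 1
  E_class : ∀ e ∈ E, e ≠ 1 → IsConj e t
  E_le : E ≤ X0g z u t
  E_R : ∀ e ∈ E, P.InR e → e = 1
  E_par : ∀ e ∈ E, e ≠ 1 → ∀ p, HasPar P e p → ZP p ∧ p ≠ 0
  σ_X : σ ∈ Xg z t
  σ_out : σ ∉ X0g z u t
  σ_sq : σ * σ = 1
  σ_move : ∀ e ∈ E, e ≠ 1 → e ≠ t → σ * e * σ⁻¹ = e * t
  normal : ∀ g : G, g * t = t * g → ∀ e ∈ E, g * e * g⁻¹ ∈ E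
  o_mem : o ∈ centralizer (E : Set G)
  o_norm : o ∈ normalizer (X0g z u t : Set G)
  o_z : o * z * o⁻¹ = u
  o_u : o * u * o⁻¹ = z * u

variable {G : Type*} [Group G] [Finite G] {z u : G} {Q Q' : Subgroup G} {φ φ' : G → V}
  (P : Pair z u Q Q' φ φ') {t : G} (C : Ctx P t) {K0 : Subgroup G} (H : Half P t K0)
include P C H

theorem z_commute_t : z * t = t * z := (comm_tz P C).symm

/-- An element of odd order of the half centralising a conjugate of `z` is trivial. -/
theorem odd_cent {n a : G} (hn : n ∈ K0) (hodd : Odd (orderOf n)) (ha : IsConj a z)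
    (hat : a * t = t * a) (hna : n * a = a * n) : n = 1 := by
  obtain ⟨k, hk, hka⟩ := conj_in_half P C H ha hat
  have hX : k * n * k⁻¹ ∈ Xg z t := by
    refine mem_Xg.2 ⟨?_, mem_centralizer_singleton_iff.1 (H.le (mul_mem (mul_mem hk hn) (inv_mem hk)))⟩
    rw [← hka]
    calc k * n * k⁻¹ * (k * a * k⁻¹) = k * (n * a) * k⁻¹ := by group
      _ = k * a * k⁻¹ * (k * n * k⁻¹) := by rw [hna]; group
  obtain ⟨j, hj⟩ := (isSylow_X P C).1 ⟨_, hX⟩
  have hj' : (k * n * k⁻¹) ^ (2 ^ j) = 1 := congrArg Subtype.val hj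
  have hd : orderOf n ∣ 2 ^ j := by
    rw [← Invol.orderOf_conj_eq k n]; exact orderOf_dvd_of_pow_eq_one hj'
  exact orderOf_eq_one_iff.1 ((hodd.coprime_two_right.pow_right j).eq_one_of_dvd hd)

/-- A subgroup of odd order of the half normalised by `z` and `u` is trivial. -/
theorem odd_normalised {N : Subgroup G} (hNK : N ≤ K0) (hodd : Odd (Nat.card N))
    (hnz : ∀ n ∈ N, z * n * z⁻¹ ∈ N) (hnu : ∀ n ∈ N, u * n * u⁻¹ ∈ N) : N = ⊥ := by
  have hzu2 : z * u * (z * u) = 1 := by
    rw [mul_assoc, ← mul_assoc u z u, ← P.zu, mul_assoc z u u, P.T.zz, mul_one, P.S.zz]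
  have key : ∀ a : G, a * a = 1 → IsConj a z → a * t = t * a → (∀ n ∈ N, a * n * a⁻¹ ∈ N) →
      ∀ n : N, a * (n : G) * a⁻¹ = (n : G)⁻¹ := by
    intro a haa haz hat hN n
    let ψ : N →* N :=
      { toFun := fun m => ⟨a * m * a⁻¹, hN _ m.2⟩
        map_one' := Subtype.ext (by simp)
        map_mul' := fun x y => Subtype.ext (by simp [mul_assoc]) }
    have hψ : MonoidHom.FixedPointFree ψ := fun m hm => Subtype.ext <|
      odd_cent P C H (hNK m.2)
        (by rw [← N.subtype_apply, orderOf_injective N.subtype N.subtype_injective]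
            exact hodd.of_dvd_nat (orderOf_dvd_natCard m))
        haz hat (mul_inv_eq_iff_eq_mul.1 (congrArg Subtype.val hm)).symm
    have hinv : Function.Involutive ψ := fun m => Subtype.ext (by
      show a * (a * (m : G) * a⁻¹) * a⁻¹ = _
      rw [show a * (a * (m : G) * a⁻¹) * a⁻¹ = (a * a) * (m : G) * (a * a)⁻¹ by group, haa]; group)
    exact congrArg Subtype.val (congrFun (hψ.coe_eq_inv_of_involutive hinv) n)
  rw [Subgroup.eq_bot_iff_forall]
  intro n hn
  have hz := key z P.S.zz (IsConj.refl z) (z_commute_t P C H) hnz ⟨n, hn⟩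
  have hu := key u P.T.zz (conj_u P C) (comm_tu P C).symm hnu ⟨n, hn⟩
  obtain ⟨o, -, -, -, -, hozu⟩ := exists_rot P C H
  have hzu := key (z * u) hzu2 (isConj_iff.2 ⟨o, hozu⟩)
    ((show Commute z t from z_commute_t P C H).mul_left (comm_tu P C).symm).eq (fun m hm => by
      rw [show z * u * m * (z * u)⁻¹ = z * (u * m * u⁻¹) * z⁻¹ by group]
      exact hnz _ (hnu m hm)) ⟨n, hn⟩
  change z * n * z⁻¹ = n⁻¹ at hz
  change u * n * u⁻¹ = n⁻¹ at hu
  change z * u * n * (z * u)⁻¹ = n⁻¹ at hzu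
  rw [show z * u * n * (z * u)⁻¹ = z * (u * n * u⁻¹) * z⁻¹ by group, hu,
    show z * n⁻¹ * z⁻¹ = (z * n * z⁻¹)⁻¹ by group, hz, inv_inv] at hzu
  have h2 : orderOf n ∣ 2 := orderOf_dvd_of_pow_eq_one (by
    rw [pow_two]; conv_lhs => arg 2; rw [hzu]
    exact mul_inv_cancel _)
  rcases (Nat.dvd_prime Nat.prime_two).1 h2 with h | h
  · exact orderOf_eq_one_iff.1 h
  · have := hodd.of_dvd_nat (orderOf_dvd_natCard (⟨n, hn⟩ : N))
    rw [Subgroup.orderOf_mk, h] at this
    exact absurd this (by decide)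

theorem core_half : Cfsg.oddCore K0 = ⊥ := by
  have hN : (Cfsg.oddCore K0).Normal := CfsgLib.Solvable.pPrimeCore_normal 2 K0
  have hconj : ∀ a ∈ K0, ∀ n ∈ (Cfsg.oddCore K0).map K0.subtype,
      a * n * a⁻¹ ∈ (Cfsg.oddCore K0).map K0.subtype := by
    rintro a ha _ ⟨n, hn, rfl⟩
    exact ⟨⟨a, ha⟩ * n * ⟨a, ha⟩⁻¹, hN.conj_mem _ hn _, rfl⟩
  refine (map_eq_bot_iff_of_injective _ K0.subtype_injective).1
    (odd_normalised P C H (map_subtype_le _) ?_
      (hconj z (H.X0_le (mem_X0_z P C))) (hconj u (H.X0_le (mem_X0_u P C))))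
  rw [card_map_of_injective K0.subtype_injective]
  exact Invol.odd_card_oddCore K0

variable {o e : G} (R : Rot P t K0 o e)
include R

theorem four_center {f g : G} (hf : f ∈ fourE P C H R) (hg : g ∈ K0) : g * f = f * g := by
  rcases eq_or_ne f 1 with rfl | hf1
  · simp
  have hfK : f ∈ K0 := H.X0_le (four_le P C H R hf)
  obtain ⟨PS, hPS⟩ : ∃ PS : Sylow 2 K0, (PS : Subgroup K0) = (X0g z u t).subgroupOf K0 := by
    have : Fact (Nat.Prime 2) := ⟨Nat.prime_two⟩
    obtain ⟨S, hS⟩ := ((X0_pGroup P C H).comap_of_injective K0.subtype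
      (subtype_injective _)).exists_le_sylow
    refine ⟨S, le_antisymm ?_ hS⟩
    by_contra hlt
    obtain ⟨m, hm⟩ := IsPGroup.index S.2 (((X0g z u t).subgroupOf K0).subgroupOf (S : Subgroup K0))
    rcases Nat.eq_zero_or_pos m with rfl | hm0
    · exact hlt (relIndex_eq_one.1 hm)
    · exact X0_sylow P C H ((dvd_pow_self 2 hm0.ne').trans
        (hm ▸ (relIndex_dvd_index_of_le hS :
          ((X0g z u t).subgroupOf K0).relIndex (S : Subgroup K0) ∣
            ((X0g z u t).subgroupOf K0).index)))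
  have ho2 : orderOf (⟨f, hfK⟩ : K0) = 2 := by
    rw [Subgroup.orderOf_mk]
    exact orderOf_eq_prime (by rw [pow_two, four_sq P C H R hf]) hf1
  have hmem : ∀ x : K0, x ∈ PS ↔ (x : G) ∈ X0g z u t := fun x => by
    show x ∈ (PS : Subgroup K0) ↔ _
    rw [hPS, mem_subgroupOf]
  have hiso : Cfsg.IsIsolatedInvolution (⟨f, hfK⟩ : K0) :=
    Invol.isolated_of_sylow PS ho2 ((hmem _).2 (four_le P C H R hf)) fun k hk =>
      Subtype.ext (weakly_closed P C H R hf k.2 ((hmem _).1 hk))
  have := Invol.zstar K0 hiso ⟨g, hg⟩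
  rw [core_half P C H, mem_bot] at this
  have h' : f * g * f⁻¹ * g⁻¹ = 1 := congrArg Subtype.val this
  rw [mul_inv_eq_one, mul_inv_eq_iff_eq_mul] at h'
  exact h'.symm

theorem cent_four : centralizer (fourE P C H R : Set G) = K0 := by
  refine le_antisymm (fun g hg => ?_) fun g hg => mem_centralizer_iff.2 fun f hf =>
    (four_center P C H R hf hg).symm
  have hc : ∀ f ∈ fourE P C H R, f * g = g * f := mem_centralizer_iff.1 hg
  by_contra hg0
  obtain ⟨s, hs, hsK, hs0, hss⟩ := exists_outer_half P C H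
  have hgt : g * t = t * g := (hc t (Or.inr (Or.inl rfl))).symm
  have h1 := four_center P C H R (f := e) (Or.inr (Or.inr (Or.inl rfl)))
    (mul_mem_half P C H hgt (mem_Xg.1 hs).2 hg0 hsK)
  have hse : s * e * s⁻¹ = e := by
    have hge : e * g = g * e := hc e (Or.inr (Or.inr (Or.inl rfl)))
    rw [mul_inv_eq_iff_eq_mul]
    calc s * e = g⁻¹ * (g * s * e) := by group
      _ = g⁻¹ * (e * g) * s := by rw [h1]; group
      _ = e * s := by rw [hge, inv_mul_cancel_left]
  have h2 := outer_act P C hs hs0 R.par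
  rw [hse, pe_facts.2.2.2.2.2.1] at h2
  have := HasPar.ext_par P R.par h2
  exact absurd this (by decide +kernel)

theorem outer_move {s : G} (hs : s ∈ Xg z t) (hs0 : s ∉ X0g z u t) :
    s * e * s⁻¹ = e * t := by
  have hst := (mem_Xg.1 hs).2
  have hsK : s ∉ K0 := fun h => hs0 (H.inter s hs h)
  -- the conjugate is central in the half
  have hcen : ∀ k ∈ K0, k * (s * e * s⁻¹) = s * e * s⁻¹ * k := by
    intro k hk
    have hsks : s⁻¹ * k * s ∈ K0 := by
      by_cases h : k * s ∈ K0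
      · exact absurd (by simpa using mul_mem (inv_mem hk) h) hsK
      · rw [mul_assoc]
        refine mul_mem_half P C H ?_ ?_ (fun h' => hsK (by simpa using inv_mem h')) h
        · exact ((show Commute s t from hst).inv_left).eq
        · exact (show Commute k t from mem_centralizer_singleton_iff.1 (H.le hk)).mul_left
            (show Commute s t from hst) |>.eq
    have h := four_center P C H R (f := e) (Or.inr (Or.inr (Or.inl rfl))) hsks
    calc k * (s * e * s⁻¹) = s * (s⁻¹ * k * s * e) * s⁻¹ := by group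
      _ = s * e * s⁻¹ * k := by rw [h]; group
  have hp := outer_act P C hs hs0 R.par
  rw [pe_facts.2.2.2.2.2.1] at hp
  have hp2 := HasPar.mul P (HasPar.inv P (HasPar.mul P R.par C.par)) hp
  rw [par_self] at hp2
  have hr := HasPar.inR_of_zero P hp2
  have hre : (e * t)⁻¹ * (s * e * s⁻¹) = 1 := by
    refine eq_one_of_inR P C H R hr ?_
    have h1 : Commute o (e * t) := (show Commute o e from R.o_e).mul_right (t_comm_o P C H R)
    exact (h1.inv_right.mul_right (hcen o R.o_mem)).eq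
  rwa [inv_mul_eq_one, eq_comm] at hre

omit H R in
theorem exists_mid : ∃ E σ o, Mid P t E σ o := by
  obtain ⟨K0, H⟩ := exists_half P C
  obtain ⟨o, e, R⟩ := exists_rot_e P C H
  obtain ⟨s, hs, hsK, hs0, hss⟩ := exists_outer_half P C H
  have hcent := cent_four P C H R
  have hse := outer_move P C H R hs hs0
  have hst : s * t * s⁻¹ = t := by rw [(mem_Xg.1 hs).2, mul_inv_cancel_right]
  have hmove : ∀ f ∈ fourE P C H R, f ≠ 1 → f ≠ t → s * f * s⁻¹ = f * t := by
    rintro f (rfl | rfl | rfl | rfl) h1 h2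
    · exact absurd rfl h1
    · exact absurd rfl h2
    · exact hse
    · rw [show s * (e * t) * s⁻¹ = s * e * s⁻¹ * (s * t * s⁻¹) by group, hse, hst]
  refine ⟨fourE P C H R, s, o, ?_⟩
  refine
    { half := by rw [hcent]; exact H
      t_mem := Or.inr (Or.inl rfl)
      cardE := card_four P C H R
      sqE := fun f hf => four_sq P C H R hf
      E_class := fun f hf => four_class P C H R hf
      E_le := four_le P C H R
      E_R := fun f hf hr => ?_
      E_par := fun f hf hf1 p hp => ?_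
      σ_X := hs
      σ_out := hs0
      σ_sq := hss
      σ_move := hmove
      normal := fun g hg f hf => ?_
      o_mem := by rw [hcent]; exact R.o_mem
      o_norm := R.o_norm
      o_z := R.o_z
      o_u := R.o_u }
  · exact eq_one_of_inR P C H R hr (four_comm_o P C H R hf)
  · obtain ⟨q, hq, hq1, hq2⟩ := (par_four P C H R hf).resolve_left hf1
    rw [HasPar.ext_par P hp hq]
    exact ⟨hq1, hq2⟩
  · have hfix : ∀ k ∈ K0, k * f * k⁻¹ = f := fun k hk => by
      rw [four_center P C H R hf hk, mul_inv_cancel_right]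
    by_cases hg0 : g ∈ K0
    · rwa [hfix g hg0]
    have hk := mul_mem_half P C H hg (mem_Xg.1 hs).2 hg0 hsK
    have hinv : s⁻¹ = s := inv_eq_of_mul_eq_one_right hss
    have hgf : g * f * g⁻¹ = g * s * (s * f * s⁻¹) * (g * s)⁻¹ := by
      rw [show g * s * (s * f * s⁻¹) * (g * s)⁻¹ = g * (s * s) * f * (g * (s * s))⁻¹ by group, hss, mul_one]
    rcases eq_or_ne f 1 with rfl | h1
    · simp
    rcases eq_or_ne f t with rfl | h2
    · rwa [hg, mul_inv_cancel_right]
    have hfm : f * t ∈ fourE P C H R := mul_mem hf (Or.inr (Or.inl rfl))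
    rw [hgf, hmove f hf h1 h2, four_center P C H R hfm hk, mul_inv_cancel_right]
    exact hfm

end CfsgLib.InvChar.SuzT
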