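import Cfsg.Agent.Lib.InvChar.SuzT.DThree
import Cfsg.Agent.Lib.InvChar.SuzT.CZ

/-!
# The commutator of the extraspecial group with the element of order three is a quaternion group

That element fixes a hyperbolic hyperplane section pointwise, so it moves only an anisotropic plane.
-/

set_option autoImplicit false
set_option linter.unusedSectionVars false

namespace CfsgLib.InvChar.SuzT

open Subgroup SuzType
open scoped commutatorElement

/-- The additive map fixing `code 1`, `code 4`, `code 8` with the given values elsewhere. -/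
def lin (x y w v : V) : V :=
  sm v.1.1 (code 1) + sm v.1.2 x + sm v.2.1.1 (code 4) + sm v.2.1.2 (code 8) + sm v.2.2.1 y +
    sm v.2.2.2 w

/-- The constraints on the image of an anisotropic basis vector. -/
def AnCand (y : V) : Prop :=
  qf y = 1 ∧ bf y (code 1) = 0 ∧ bf y (code 4) = 0 ∧ bf y (code 8) = 0

instance : DecidablePred AnCand := fun y => by unfold AnCand; infer_instance

set_option synthInstance.maxSize 4000 in
theorem lin_facts : ∀ x : V, qf x = 0 → bf x (code 1) = 1 → bf x (code 4) = 0 → bf x (code 8) = 0 →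
    ∀ y : V, AnCand y → bf x y = 0 → ∀ w : V, AnCand w → bf x w = 0 → bf y w = 1 →
    lin x y w (lin x y w (lin x y w (code 2))) = code 2 →
    lin x y w (lin x y w (lin x y w (code 16))) = code 16 →
    lin x y w (lin x y w (lin x y w (code 32))) = code 32 →
    ¬ (x = code 2 ∧ y = code 16 ∧ w = code 32) →
    qf (y + code 16) = 1 ∧ qf (w + code 32) = 1 ∧ bf (y + code 16) (w + code 32) = 1 ∧
      ∀ v : V, lin x y w v + v ∈
        ([0, y + code 16, w + code 32, y + code 16 + (w + code 32)] : List V) := by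
  decide +kernel

set_option synthInstance.maxSize 2000 in
theorem code_facts : code 1 = e1 ∧ qf (code 2) = 0 ∧ bf (code 2) (code 1) = 1 ∧
    bf (code 2) (code 4) = 0 ∧ bf (code 2) (code 8) = 0 ∧ AnCand (code 16) ∧ AnCand (code 32) ∧
    bf (code 2) (code 16) = 0 ∧ bf (code 2) (code 32) = 0 ∧ bf (code 16) (code 32) = 1 ∧
    bf (code 4) e1 = 0 ∧ bf (code 8) e1 = 0 ∧ TP ((((code 4).2), 0) : W × W) ∧
    TP ((((code 8).2), 0) : W × W) ∧
    (∀ (x y w : V), lin x y w (code 1) = code 1 ∧ lin x y w (code 2) = x ∧ lin x y w (code 4) = code 4 ∧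
      lin x y w (code 8) = code 8 ∧ lin x y w (code 16) = y ∧ lin x y w (code 32) = w) := by
  refine ⟨by decide +kernel, by decide +kernel, by decide +kernel, by decide +kernel, by decide +kernel, by decide +kernel, by decide +kernel, by decide +kernel, by decide +kernel, by decide +kernel, by decide +kernel, by decide +kernel, by decide +kernel, by decide +kernel, fun x y w => ?_⟩
  have h1 : code 1 = (((1, 0), (0, 0), (0, 0)) : V) := by decide +kernel
  have h2 : code 2 = (((0, 1), (0, 0), (0, 0)) : V) := by decide +kernel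
  have h4 : code 4 = (((0, 0), (1, 0), (0, 0)) : V) := by decide +kernel
  have h8 : code 8 = (((0, 0), (0, 1), (0, 0)) : V) := by decide +kernel
  have h16 : code 16 = (((0, 0), (0, 0), (1, 0)) : V) := by decide +kernel
  have h32 : code 32 = (((0, 0), (0, 0), (0, 1)) : V) := by decide +kernel
  simp only [lin, sm, h1, h2, h4, h8, h16, h32, if_true, zero_ne_one, if_false, add_zero, zero_add,
    and_self]

theorem list_add {a b p q : V} (hp : p ∈ ([0, a, b, a + b] : List V))
    (hq : q ∈ ([0, a, b, a + b] : List V)) : p + q ∈ ([0, a, b, a + b] : List V) := by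
  simp only [List.mem_cons, List.not_mem_nil, or_false] at hp hq ⊢
  have e1 : a + (a + b) = b := by rw [← add_assoc, v_self, zero_add]
  have e2 : b + (a + b) = a := by rw [add_comm a, ← add_assoc, v_self, zero_add]
  rcases hp with hp | hp | hp | hp <;> rcases hq with hq | hq | hq | hq <;>
    rw [hp, hq] <;>
    simp [v_self, e1, e2, add_comm b a, add_comm (a + b) a, add_comm (a + b) b]

variable {G : Type*} [Group G] [Finite G] {z u : G} {Q Q' : Subgroup G} {φ φ' : G → V}
  (P : Pair z u Q Q' φ φ') {t : G} (C : Ctx P t) {E L : Subgroup G} {σ o : G} (M : Mid P t E σ o)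
  (D : Comp P t E L)
include P C M D

theorem fix_axis {d : G} (hd : ∀ l ∈ L, d * l = l * d) {c : V} (hc : bf c e1 = 0)
    (hT : TP ((c.2, 0) : W × W)) (he1 : act Q φ d e1 = e1) : act Q φ d c = c := by
  have hdz : d * z = z * d := hd z (z_mem_L P C M D)
  obtain ⟨x, hx⟩ := HasPar.exists_elt P ((c.2, 0) : W × W)
  have hxT : x ∈ TG P := ⟨_, hx, axis_facts.1 _ hT, hT⟩
  obtain ⟨a, ha, b, hb, hau, hbz, rfl, h1, h2⟩ := hx
  have hbR := P.mem_of_ww hb hbz h2
  have hxQ : a * b ∈ Q := mul_mem ha (Pair.InR.mem P hbR).1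
  have hxu : a * b * u = u * (a * b) := mul_comm_z hau (P.T.commQ hb)
  have hsnd : (φ (a * b)).2 = c.2 := by
    rw [P.S.hadd a ha b (Pair.InR.mem P hbR).1, Prod.snd_add, h1, (Pair.InR.phi_snd P hbR).1, add_zero]
  have hfix : act Q φ d (φ (a * b)) = φ (a * b) := by
    rw [P.S.act_phi hdz hxQ, hd _ (D.T_le hxT), mul_inv_cancel_right]
  rcases snd_congr (φ (a * b)) c ((P.comm_u hxQ).1 hxu) hc hsnd with e | e
  · rwa [e] at hfix
  · rw [e, P.S.act_add hdz, he1] at hfix
    exact add_right_cancel hfix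

theorem quat_facts {d : G} (hd3 : d ^ 3 = 1) (hd1 : d ≠ 1) (hd : ∀ l ∈ L, d * l = l * d) :
    ∃ hdC : d ∈ centralizer ({z} : Set G),
      Nat.card ↥⁅Q.subgroupOf (centralizer ({z} : Set G)),
          zpowers (⟨d, hdC⟩ : centralizer ({z} : Set G))⁆ = 8 ∧
        ¬ IsMulCommutative ↥⁅Q.subgroupOf (centralizer ({z} : Set G)),
          zpowers (⟨d, hdC⟩ : centralizer ({z} : Set G))⁆ := by
  classical
  have hdz : d * z = z * d := hd z (z_mem_L P C M D)
  have hdu : d * u = u * d := hd u (D.T_le ⟨0, HasPar.of_inR P (Or.inr (Or.inr (Or.inl rfl))),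
    zero_inC, tp_facts'.2.2.1⟩)
  refine ⟨mem_centralizer_singleton_iff.2 hdz, ?_⟩
  obtain ⟨c1, cq, cb1, cb4, cb8, ca, cw, cxy, cxw, cyw, c4e, c8e, c4T, c8T, clin⟩ := code_facts
  obtain ⟨f, hfdef⟩ : ∃ f : V → V, ∀ v, f v = act Q φ d v := ⟨_, fun _ => rfl⟩
  have he1 : act Q φ d e1 = e1 := P.act_u hdz hdu
  have f1 : f (code 1) = code 1 := by rw [hfdef, c1, he1]
  have f4 : f (code 4) = code 4 := by rw [hfdef]; exact fix_axis P C M D hd c4e c4T he1
  have f8 : f (code 8) = code 8 := by rw [hfdef]; exact fix_axis P C M D hd c8e c8T he1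
  have fadd : ∀ v w, f (v + w) = f v + f w := fun v w => by simp only [hfdef]; exact P.S.act_add hdz v w
  have fqf : ∀ v, qf (f v) = qf v := fun v => by rw [hfdef]; exact P.S.act_qf hdz v
  have fbf : ∀ v w, bf (f v) (f w) = bf v w := fun v w => by simp only [hfdef]; exact P.S.act_bf hdz v w
  have fb : ∀ v c, f c = c → bf (f v) c = bf v c := fun v c hc => by
    conv_lhs => rw [← hc]
    rw [fbf]
  have hd2z : d * d * z = z * (d * d) := mul_comm_z hdz hdz
  have f3 : ∀ v, f (f (f v)) = v := fun v => by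
    simp only [hfdef]
    rw [← P.S.act_mul hdz hdz, ← P.S.act_mul hd2z hdz, show d * d * d = 1 by rw [← pow_three', hd3],
      P.S.act_of_mem (one_mem Q)]
  have hlin : ∀ v, f v = lin (f (code 2)) (f (code 16)) (f (code 32)) v := by
    intro v
    conv_lhs => rw [decomp v]
    simp only [fadd, additive_sm fadd, f1, f4, f8]
    rfl
  have cand : ∀ c, AnCand c → AnCand (f c) := fun c ⟨h1, h2, h3, h4⟩ =>
    ⟨by rw [fqf, h1], by rw [fb _ _ f1, h2], by rw [fb _ _ f4, h3], by rw [fb _ _ f8, h4]⟩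
  obtain ⟨qa, qb, qab, hrange⟩ := lin_facts (f (code 2)) (by rw [fqf, cq]) (by rw [fb _ _ f1, cb1])
    (by rw [fb _ _ f4, cb4]) (by rw [fb _ _ f8, cb8]) (f (code 16)) (cand _ ca) (by rw [fbf, cxy])
    (f (code 32)) (cand _ cw) (by rw [fbf, cxw]) (by rw [fbf, cyw])
    (by rw [← hlin, ← hlin, ← hlin, f3]) (by rw [← hlin, ← hlin, ← hlin, f3])
    (by rw [← hlin, ← hlin, ← hlin, f3]) (by
      rintro ⟨e2, e16, e32⟩
      have hid : ∀ v, act Q φ d v = v := fun v => by
        rw [← hfdef]
        conv_rhs => rw [decomp v]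
        conv_lhs => rw [decomp v]
        simp only [fadd, additive_sm fadd, f1, f4, f8, e2, e16, e32]
      have hdQ := P.S.mem_of_act_id hdz hid
      have h128 : orderOf d ∣ 128 := by
        have := orderOf_dvd_natCard (⟨d, hdQ⟩ : Q)
        rwa [Subgroup.orderOf_mk, card_Q P.S] at this
      have h3 : orderOf d ∣ 3 := orderOf_dvd_of_pow_eq_one hd3
      exact hd1 (orderOf_eq_one_iff.1 (Nat.dvd_one.1 (by simpa using Nat.dvd_gcd h128 h3))))
  generalize hA : f (code 16) + code 16 = A at qa qab hrange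
  generalize hB : f (code 32) + code 32 = B at qb qab hrange
  have hmove : ∀ v, f v + v ∈ ([0, A, B, A + B] : List V) := fun v => by rw [hlin]; exact hrange v
  set Cz := centralizer ({z} : Set G) with hCz
  set d' : Cz := ⟨d, mem_centralizer_singleton_iff.2 hdz⟩
  let D8 : Subgroup Cz :=
    { carrier := {g | (g : G) ∈ Q ∧ φ g ∈ ([0, A, B, A + B] : List V)}
      one_mem' := ⟨one_mem Q, by simp [P.S.phi_one]⟩
      mul_mem' := fun {g h} hg hh => ⟨mul_mem hg.1 hh.1, by
        rw [Subgroup.coe_mul, P.S.hadd _ hg.1 _ hh.1]; exact list_add hg.2 hh.2⟩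
      inv_mem' := fun {g} hg => ⟨inv_mem hg.1, by
        rw [InvMemClass.coe_inv, P.S.phi_inv hg.1]; exact hg.2⟩ }
  set K8 := ⁅Q.subgroupOf Cz, zpowers d'⁆ with hK8
  have hle : K8 ≤ D8 := by
    refine commutator_le.2 fun q hq y hy => ?_
    obtain ⟨i, rfl⟩ := mem_zpowers_iff.1 hy
    have hqG : (q : G) ∈ Q := hq
    have hdi : d ^ i * z = z * d ^ i := ((show Commute d z from hdz).zpow_left i).eq
    have hin : d ^ i * (q : G)⁻¹ * (d ^ i)⁻¹ ∈ Q := P.S.norm hdi (inv_mem hqG)
    refine ⟨?_, ?_⟩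
    · simp only [commutatorElement_def, Subgroup.coe_mul, InvMemClass.coe_inv, SubgroupClass.coe_zpow, d']
      rw [mul_assoc (q : G), mul_assoc (q : G)]
      exact mul_mem hqG hin
    · simp only [commutatorElement_def, Subgroup.coe_mul, InvMemClass.coe_inv, SubgroupClass.coe_zpow, d']
      rw [mul_assoc (q : G), mul_assoc (q : G), P.S.hadd _ hqG _ hin, ← P.S.act_phi hdi (inv_mem hqG),
        P.S.phi_inv hqG, ← zpow_mod_orderOf]
      have h3 : orderOf d = 3 := orderOf_eq_prime hd3 hd1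
      rw [h3]
      have h0 : 0 ≤ i % ((3 : ℕ) : ℤ) := Int.emod_nonneg _ (by norm_num)
      have h2 : i % ((3 : ℕ) : ℤ) < 3 := Int.emod_lt_of_pos _ (by norm_num)
      generalize i % ((3 : ℕ) : ℤ) = m at h0 h2
      interval_cases m
      · rw [zpow_zero, P.S.act_of_mem (one_mem Q), v_self]; simp
      · rw [zpow_one, ← hfdef, add_comm (φ (q : G))]; exact hmove _
      · rw [zpow_two, P.S.act_mul hdz hdz, ← hfdef, ← hfdef, add_comm (φ (q : G))]
        have := list_add (hmove (f (φ (q : G)))) (hmove (φ (q : G)))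
        rwa [show f (f (φ (q : G))) + f (φ (q : G)) + (f (φ (q : G)) + φ (q : G)) =
          f (f (φ (q : G))) + φ (q : G) by
            rw [← add_assoc, add_assoc (f (f (φ (q : G)))), v_self, add_zero]] at this
  have hgen : ∀ c : V, ∃ g ∈ K8, φ ((g : Cz) : G) = f c + c := by
    intro c
    obtain ⟨q, hq, rfl⟩ := P.S.hsurj c
    refine ⟨⁅(⟨q, mem_centralizer_singleton_iff.2 (P.S.commQ hq)⟩ : Cz), d'⁆,
      commutator_mem_commutator hq (mem_zpowers _), ?_⟩
    simp only [commutatorElement_def, Subgroup.coe_mul, InvMemClass.coe_inv, d']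
    rw [mul_assoc q, mul_assoc q, P.S.hadd _ hq _ (P.S.norm hdz (inv_mem hq)),
      ← P.S.act_phi hdz (inv_mem hq), P.S.phi_inv hq, ← hfdef, add_comm]
  obtain ⟨ga, hga, hga'⟩ := hgen (code 16)
  obtain ⟨gb, hgb, hgb'⟩ := hgen (code 32)
  rw [hA] at hga'
  rw [hB] at hgb'
  have hgaQ : (ga : G) ∈ Q := (hle hga).1
  have hgbQ : (gb : G) ∈ Q := (hle hgb).1
  have hne : (ga : G) * gb = gb * ga * z := by
    rw [P.S.hcomm _ hgaQ _ hgbQ, hga', hgb', qab, zp_one]
  have hzK : (⟨z, mem_centralizer_singleton_iff.2 rfl⟩ : Cz) ∈ K8 := by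
    rw [show (⟨z, mem_centralizer_singleton_iff.2 rfl⟩ : Cz) = (gb * ga)⁻¹ * (ga * gb) from
      Subtype.ext (by simp only [Subgroup.coe_mul, InvMemClass.coe_inv]; rw [hne, inv_mul_cancel_left])]
    exact mul_mem (inv_mem (mul_mem hgb hga)) (mul_mem hga hgb)
  refine ⟨?_, fun hc => ?_⟩
  · have hge : D8 ≤ K8 := by
      rintro g ⟨hgQ, hgm⟩
      have key : ∀ k : Cz, k ∈ K8 → φ g = φ k → g ∈ K8 := by
        intro k hk e
        rcases P.S.phi_eq hgQ (hle hk).1 e with e' | e'
        · rwa [Subtype.ext e' (a1 := g) (a2 := k)]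
        · rw [show g = k * (⟨z, mem_centralizer_singleton_iff.2 rfl⟩ : Cz) from Subtype.ext e']
          exact mul_mem hk hzK
      simp only [List.mem_cons, List.not_mem_nil, or_false] at hgm
      rcases hgm with e | e | e | e
      · exact key 1 (one_mem _) (by simp [e, P.S.phi_one])
      · exact key ga hga (e.trans hga'.symm)
      · exact key gb hgb (e.trans hgb'.symm)
      · refine key (ga * gb) (mul_mem hga hgb) ?_
        rw [Subgroup.coe_mul, P.S.hadd _ hgaQ _ hgbQ, hga', hgb', e]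
    rw [le_antisymm hle hge]
    -- eight elements
    have hA0 : A ≠ 0 := fun e => by rw [e] at qa; exact absurd qa (by decide +kernel)
    have hB0 : B ≠ 0 := fun e => by rw [e] at qb; exact absurd qb (by decide +kernel)
    have hAB : A ≠ B := fun e => by rw [e, bf_self] at qab; exact absurd qab (by decide)
    have hAB0 : A + B ≠ 0 := fun e => hAB (by
      calc A = A + (B + B) := by rw [v_self, add_zero]
        _ = B := by rw [← add_assoc, e, zero_add])
    have h4 : Nat.card {v : V // v ∈ ([0, A, B, A + B] : List V)} = 4 := by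
      rw [Nat.card_congr (Equiv.subtypeEquivRight (q := (· ∈ ([0, A, B, A + B] : List V).toFinset))
        (fun v => by simp)), Nat.card_eq_finsetCard, List.toFinset_card_of_nodup, List.length_cons,
        List.length_cons, List.length_cons, List.length_cons, List.length_nil]
      simp only [List.nodup_cons, List.mem_cons, List.not_mem_nil, or_false, not_or, List.nodup_nil,
        and_true, not_false_eq_true]
      refine ⟨⟨hA0.symm, hB0.symm, hAB0.symm⟩, ⟨hAB, fun e => hB0 (left_eq_add.1 e)⟩,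
        fun e => hA0 (right_eq_add.1 e)⟩
    choose e he he' using fun v : {v : V // v ∈ ([0, A, B, A + B] : List V)} => P.S.hsurj v.1
    have hzj : ∀ j : ZMod 2, zp z j ∈ Q ∧ φ (zp z j) = 0 := fun j => by
      rcases z2_cases' j with rfl | rfl
      · rw [zp_zero]; exact ⟨one_mem _, P.S.phi_one⟩
      · rw [zp_one]; exact ⟨P.S.zQ, P.S.hz⟩
    have hmemC : ∀ q ∈ Q, q ∈ Cz := fun q hq => mem_centralizer_singleton_iff.2 (P.S.commQ hq)
    let F : {v : V // v ∈ ([0, A, B, A + B] : List V)} × ZMod 2 → D8 := fun p =>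
      ⟨⟨e p.1 * zp z p.2, hmemC _ (mul_mem (he _) (hzj _).1)⟩, mul_mem (he _) (hzj _).1, by
        rw [P.S.hadd _ (he _) _ (hzj _).1, he', (hzj _).2, add_zero]; exact p.1.2⟩
    have hF : Function.Bijective F := by
      refine ⟨fun p p' h => ?_, fun g => ?_⟩
      · have h' : e p.1 * zp z p.2 = e p'.1 * zp z p'.2 := congrArg (fun x : D8 => ((x : Cz) : G)) h
        have h1 := congrArg φ h'
        rw [P.S.hadd _ (he _) _ (hzj _).1, P.S.hadd _ (he _) _ (hzj _).1, (hzj _).2, (hzj _).2, he', he',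
          add_zero, add_zero] at h1
        rw [Subtype.ext h1] at h'
        refine Prod.ext (Subtype.ext h1) ?_
        have h2 := mul_left_cancel h'
        rcases z2_cases' p.2 with a | a <;> rcases z2_cases' p'.2 with b | b <;>
          rw [a, b] at h2 ⊢ <;> simp only [zp_zero, zp_one] at h2
        · exact absurd h2.symm P.S.zne
        · exact absurd h2 P.S.zne
      · rcases P.S.phi_eq g.2.1 (he ⟨_, g.2.2⟩) (he' ⟨_, g.2.2⟩).symm with e1 | e1
        · exact ⟨(⟨_, g.2.2⟩, 0), Subtype.ext (Subtype.ext (by simp [F, zp_zero, ← e1]))⟩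
        · exact ⟨(⟨_, g.2.2⟩, 1), Subtype.ext (Subtype.ext (by simp [F, zp_one, ← e1]))⟩
    rw [← Nat.card_congr (Equiv.ofBijective F hF), Nat.card_prod, h4, Nat.card_zmod]
  · have h := congrArg (fun x : K8 => ((x : Cz) : G)) (mul_comm' (⟨ga, hga⟩ : K8) ⟨gb, hgb⟩)
    simp only [Subgroup.coe_mul] at h
    rw [hne] at h
    exact P.S.zne (mul_eq_left.1 h)

end CfsgLib.InvChar.SuzT
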