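import Cfsg.Agent.Lib.InvChar.SuzT.OuterCent

/-!
# An element of order three centralising `L` and permuting `E`

An element fusing two members of `E` normalises `E` and `L`. Adjusted to odd order and to fix `z`
and `u` it centralises `C_L(z)`, hence the normalisers of the two groups of order 16, hence `L`.
-/

set_option autoImplicit false
set_option linter.unusedSectionVars false

namespace CfsgLib.InvChar.SuzT

open Subgroup SuzType

set_option synthInstance.maxSize 2000 in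
theorem axis_facts : (∀ p : W × W, TP p → InC p) ∧
    (∀ x : Pl, IP ((((x, (0, 0)) : W), (0 : W)) : W × W) → x = 0 ∨ x = (1, 0) ∨ x = (0, 1)) ∧
    IP (((((1, 0), (0, 0)) : W), (0 : W)) : W × W) ∧ IP (((((0, 1), (0, 0)) : W), (0 : W)) : W × W) ∧
    ∀ p : W × W, TP p → ∃ a b c d : ZMod 2,
      p = ((((a, b), (0, 0)) : W), (((c, d), (0, 0)) : W)) := by
  decide +kernel

set_option synthInstance.maxSize 2000 in
theorem line_exists : ∀ s ∈ sgs, ∃ q : W × W, FP s q ∧ TP q ∧ q ≠ 0 := by decide +kernel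

section General

variable {G : Type*} [Group G] [Finite G]

/-- An element of odd order cannot move an element by an involution it fixes. -/
theorem fix_of_odd {k y a : G} (hk : Odd (orderOf k)) (ha : a * a = 1) (hka : k * a = a * k)
    (e : k * y * k⁻¹ = y * a) : k * y = y * k := by
  have hj : ∀ j : ℕ, k ^ j * y * (k ^ j)⁻¹ = y * a ^ j := by
    intro j
    induction j with
    | zero => simp
    | succ j ih =>
      rw [show k ^ (j + 1) * y * (k ^ (j + 1))⁻¹ = k * (k ^ j * y * (k ^ j)⁻¹) * k⁻¹ by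
        rw [pow_succ']; group, ih,
        show k * (y * a ^ j) * k⁻¹ = k * y * k⁻¹ * (k * a ^ j * k⁻¹) by group, e,
        ((show Commute k a from hka).pow_right j).eq, mul_inv_cancel_right, pow_succ', mul_assoc]
  have h := hj (orderOf k)
  obtain ⟨m, hm⟩ := hk
  rw [pow_orderOf_eq_one, one_mul, inv_one, mul_one, hm, pow_succ, pow_mul, pow_two, ha, one_pow,
    one_mul] at h
  rw [← h] at e
  exact mul_inv_eq_iff_eq_mul.1 e

theorem odd_power {k : G} : ∃ m : ℕ, Odd (orderOf (k ^ 2 ^ m)) := by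
  obtain ⟨m, r, hr, e⟩ := Nat.exists_eq_pow_mul_and_not_dvd (orderOf_pos k).ne' 2 (by norm_num)
  refine ⟨m, ?_⟩
  rw [orderOf_pow' k (pow_ne_zero m two_ne_zero), Nat.gcd_eq_right (e ▸ Dvd.intro r rfl), e,
    Nat.mul_div_cancel_left r (pow_pos two_pos m)]
  exact Nat.not_even_iff_odd.1 fun h => hr (even_iff_two_dvd.1 h)

end General

variable {G : Type*} [Group G] [Finite G] {z u : G} {Q Q' : Subgroup G} {φ φ' : G → V}
  (P : Pair z u Q Q' φ φ') {t : G} (C : Ctx P t) {E L : Subgroup G} {σ o : G} (M : Mid P t E σ o)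
  (D : Comp P t E L)
include P C M D

theorem card_cent_t : Nat.card ↥(centralizer ({t} : Set G)) = 161280 := by
  have h := ((centralizer (E : Set G)).subgroupOf (centralizer ({t} : Set G))).card_mul_index
  rw [Nat.card_congr (subgroupOfEquivOfLe M.half.le).toEquiv, card_half P C M D, card_L P C M D,
    show ((centralizer (E : Set G)).subgroupOf (centralizer ({t} : Set G))).index = 2 from M.half.idx] at h
  rw [← h]

theorem cent_L {g : G} (hg : g * t = t * g) (hgL : ∀ l ∈ L, g * l = l * g) : g ∈ E := by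
  by_cases hgE : g ∈ centralizer (E : Set G)
  · obtain ⟨e, he, l, hl, rfl⟩ := (D.cent_E g).1 hgE
    have hlc : ∀ m ∈ L, l * m = m * l := fun m hm => by
      refine mul_left_cancel (a := e) ?_
      rw [← mul_assoc, hgL m hm, ← mul_assoc, ← mul_assoc, ← D.comm e he m hm]
    have hlT := cent_z P C M D hl (hlc z (z_mem_L P C M D))
    rcases TG_central P C M D hlT (fun x hx => (hlc x (D.T_le hx)).symm) with e' | e'
    · rw [e', mul_one]; exact he
    · exfalso
      have hle : L ≤ TG P := fun m hm => cent_R P C M D e' hm (hlc m hm).symm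
      have := card_le_of_le hle
      rw [card_L P C M D, card_TG P C] at this
      omega
  · exfalso
    have : Fact (Nat.Prime 5) := ⟨by norm_num⟩
    obtain ⟨x, hx⟩ := exists_prime_orderOf_dvd_card' (G := L) 5 (by rw [card_L P C M D]; norm_num)
    refine outer_cent P C M D hg hgE x.2 (Or.inl ?_) (hgL x x.2)
    rw [← L.subtype_apply, orderOf_injective _ L.subtype_injective, hx]

/-- What moves a member of `E` to `t` normalises `L` and `E`. -/
theorem fuse_norm {g e : G} (he : e ∈ E) (hge : g * e * g⁻¹ = t) :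
    (∀ l ∈ L, g * l * g⁻¹ ∈ L) ∧ ∀ f ∈ E, g * f * g⁻¹ ∈ E := by
  have hgC : ∀ l ∈ L, g * l * g⁻¹ * t = t * (g * l * g⁻¹) := fun l hl => by
    rw [← hge, show g * l * g⁻¹ * (g * e * g⁻¹) = g * (l * e) * g⁻¹ by group, ← D.comm e he l hl]
    group
  let N : Subgroup G := L ⊓ L.comap (MulAut.conj g).toMonoidHom
  have hN : ∀ x, x ∈ N ↔ x ∈ L ∧ g * x * g⁻¹ ∈ L := fun x => Iff.rfl
  have hNL : N = L := by
    refine normal_cases P C M D inf_le_left (fun l hl n hn => ?_) fun h => ?_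
    · obtain ⟨h1, h2⟩ := (hN n).1 hn
      refine (hN _).2 ⟨mul_mem (mul_mem hl h1) (inv_mem hl), ?_⟩
      rw [show g * (l * n * l⁻¹) * g⁻¹ = g * l * g⁻¹ * (g * n * g⁻¹) * (g * l * g⁻¹)⁻¹ by group]
      exact L_normal P C M D (hgC l hl) _ h2
    · have hle := Nat.card_le_card_of_injective (fun p : L × L =>
        (⟨(p.1 : G) * (g * p.2 * g⁻¹), mem_centralizer_singleton_iff.2 (((show Commute (p.1 : G) t from
          L_comm_t P C M D p.1.2).mul_left (hgC p.2 p.2.2)).eq)⟩ : centralizer ({t} : Set G))) (by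
        rintro ⟨a, b⟩ ⟨a', b'⟩ e'
        have e2 : (a : G) * (g * b * g⁻¹) = a' * (g * b' * g⁻¹) := congrArg Subtype.val e'
        have hb : (b' : G) * (b : G)⁻¹ ∈ N := (hN _).2 ⟨mul_mem b'.2 (inv_mem b.2), by
          rw [show g * ((b' : G) * (b : G)⁻¹) * g⁻¹ = (a' : G)⁻¹ * ((a' : G) * (g * b' * g⁻¹)) *
            (g * b * g⁻¹)⁻¹ by group, ← e2, show (a' : G)⁻¹ * ((a : G) * (g * b * g⁻¹)) * (g * b * g⁻¹)⁻¹ =
            (a' : G)⁻¹ * a by group]
          exact mul_mem (inv_mem a'.2) a.2⟩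
        rw [h, mem_bot, mul_inv_eq_one] at hb
        rw [hb] at e2
        exact Prod.ext (Subtype.ext (mul_right_cancel e2)) (Subtype.ext hb.symm))
      rw [Nat.card_prod, card_L P C M D, card_cent_t P C M D] at hle
      omega
  have hL : ∀ l ∈ L, g * l * g⁻¹ ∈ L := fun l hl => ((hN l).1 (hNL.symm ▸ hl)).2
  have hL' : ∀ l ∈ L, g⁻¹ * l * g ∈ L := fun l hl => by
    have hn : g ∈ normalizer (L : Set G) := mem_normalizer_of_le hL
    have := (mem_normalizer_iff.1 (inv_mem hn) l).1 hl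
    rwa [inv_inv] at this
  refine ⟨hL, fun f hf => cent_L P C M D ?_ fun l hl => ?_⟩
  · rw [← hge, show g * f * g⁻¹ * (g * e * g⁻¹) = g * (f * e) * g⁻¹ by group,
      LThreeFour.comm_of_sq M.sqE hf he]
    group
  · calc g * f * g⁻¹ * l = g * (f * (g⁻¹ * l * g)) * g⁻¹ := by group
      _ = g * (g⁻¹ * l * g * f) * g⁻¹ := by rw [D.comm f hf _ (hL' l hl)]
      _ = l * (g * f * g⁻¹) := by group

theorem exists_cycle : ∃ g : G, (∀ l ∈ L, g * l * g⁻¹ ∈ L) ∧ (∀ f ∈ E, g * f * g⁻¹ ∈ E) ∧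
    g * t * g⁻¹ ≠ t ∧ ∀ f ∈ E, g * (g * (g * f * g⁻¹) * g⁻¹) * g⁻¹ = f := by
  classical
  obtain ⟨e, he, he1, het⟩ : ∃ e ∈ E, e ≠ 1 ∧ e ≠ t := by
    by_contra hno
    push Not at hno
    have hsub : (E : Set G) ⊆ {1, t} := fun f hf => by
      by_cases h : f = 1
      · exact Or.inl h
      · exact Or.inr (hno f hf h)
    have := Set.ncard_le_ncard hsub (Set.toFinite _)
    rw [← Nat.card_coe_set_eq, show Nat.card (E : Set G) = 4 from M.cardE] at this
    have := this.trans (Set.ncard_insert_le _ _)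
    rw [Set.ncard_singleton] at this
    omega
  have hE : ∀ f ∈ E, f = 1 ∨ f = t ∨ f = e ∨ f = e * t := by
    intro f hf
    have hsub : ({1, t, e, e * t} : Set G) ⊆ E := by
      rintro x (rfl | rfl | rfl | rfl)
      exacts [one_mem _, M.t_mem, he, mul_mem he M.t_mem]
    have hcard : ({1, t, e, e * t} : Set G).ncard = 4 := by
      rw [Set.ncard_insert_of_notMem, Set.ncard_insert_of_notMem, Set.ncard_insert_of_notMem,
        Set.ncard_singleton]
      · simp only [Set.mem_singleton_iff]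
        exact fun h => t_ne P C (mul_eq_left.1 h.symm)
      · simp only [Set.mem_insert_iff, Set.mem_singleton_iff, not_or]
        exact ⟨het.symm, fun h => he1 (mul_eq_right.1 h.symm)⟩
      · simp only [Set.mem_insert_iff, Set.mem_singleton_iff, not_or]
        refine ⟨(t_ne P C).symm, he1.symm, fun h => het ?_⟩
        calc e = e * t * t := by rw [mul_assoc, C.sq, mul_one]
          _ = t := by rw [← h, one_mul]
    have := Set.eq_of_subset_of_ncard_le hsub
      (by rw [hcard, ← Nat.card_coe_set_eq, show Nat.card (E : Set G) = 4 from M.cardE]) (Set.toFinite _)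
    rw [← SetLike.mem_coe, ← this] at hf
    simpa using hf
  obtain ⟨g, hg⟩ := isConj_iff.1 (M.E_class e he he1)
  obtain ⟨hgL, hgE⟩ := fuse_norm P C M D he hg
  have hσt : σ * t * σ⁻¹ = t := by rw [(mem_Xg.1 M.σ_X).2, mul_inv_cancel_right]
  have hσe : σ * e * σ⁻¹ = e * t := M.σ_move e he he1 het
  have hσE : ∀ f ∈ E, σ * f * σ⁻¹ ∈ E := M.normal σ (mem_Xg.1 M.σ_X).2
  have hσL := L_normal P C M D (mem_Xg.1 M.σ_X).2
  have finish : ∀ g : G, (∀ l ∈ L, g * l * g⁻¹ ∈ L) → (∀ f ∈ E, g * f * g⁻¹ ∈ E) →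
      g * t * g⁻¹ = e → g * e * g⁻¹ = e * t →
      ∃ g : G, (∀ l ∈ L, g * l * g⁻¹ ∈ L) ∧ (∀ f ∈ E, g * f * g⁻¹ ∈ E) ∧
      g * t * g⁻¹ ≠ t ∧ ∀ f ∈ E, g * (g * (g * f * g⁻¹) * g⁻¹) * g⁻¹ = f := by
    intro g h1 h2 h3 h4
    have h5 : g * (e * t) * g⁻¹ = t := by
      rw [show g * (e * t) * g⁻¹ = g * e * g⁻¹ * (g * t * g⁻¹) by group, h3, h4, mul_assoc,
        LThreeFour.comm_of_sq M.sqE M.t_mem he, ← mul_assoc, M.sqE e he, one_mul]
    refine ⟨g, h1, h2, by rw [h3]; exact het, fun f hf => ?_⟩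
    rcases hE f hf with rfl | rfl | rfl | rfl
    · group
    · rw [h3, h4, h5]
    · rw [h4, h5, h3]
    · rw [h5, h3, h4]
  rcases hE _ (hgE t M.t_mem) with h | h | h | h
  · exact absurd (conj_eq_one_iff.1 h) (t_ne P C)
  · exact absurd (mul_left_cancel (mul_right_cancel (h.trans hg.symm))).symm het
  · -- the transposition, after `σ`
    refine finish (g * σ) (fun l hl => ?_) (fun f hf => ?_) ?_ ?_
    · rw [show g * σ * l * (g * σ)⁻¹ = g * (σ * l * σ⁻¹) * g⁻¹ by group]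
      exact hgL _ (hσL l hl)
    · rw [show g * σ * f * (g * σ)⁻¹ = g * (σ * f * σ⁻¹) * g⁻¹ by group]
      exact hgE _ (hσE f hf)
    · rw [show g * σ * t * (g * σ)⁻¹ = g * (σ * t * σ⁻¹) * g⁻¹ by group, hσt, h]
    · rw [show g * σ * e * (g * σ)⁻¹ = g * (σ * e * σ⁻¹) * g⁻¹ by group, hσe,
        show g * (e * t) * g⁻¹ = g * e * g⁻¹ * (g * t * g⁻¹) by group, hg, h,
        LThreeFour.comm_of_sq M.sqE M.t_mem he]
  · have h5 : g * (e * t) * g⁻¹ = e := by
      rw [show g * (e * t) * g⁻¹ = g * e * g⁻¹ * (g * t * g⁻¹) by group, hg, h, ← mul_assoc,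
        LThreeFour.comm_of_sq M.sqE M.t_mem he, mul_assoc, C.sq, mul_one]
    refine ⟨g, hgL, hgE, by rw [h]; exact fun e' => he1 (mul_eq_right.1 e'), fun f hf => ?_⟩
    rcases hE f hf with rfl | rfl | rfl | rfl
    · group
    · rw [h, h5, hg]
    · rw [hg, h, h5]
    · rw [h5, hg, h]

/-- An element cycling `E` of odd order that fixes `z` and `u` and normalises `C(z, u, t)`. -/
theorem exists_adjusted : ∃ g : G, Odd (orderOf g) ∧ g * z = z * g ∧ g * u = u * g ∧
    (∀ x ∈ TG P, g * x * g⁻¹ ∈ TG P) ∧ (∀ l ∈ L, g * l * g⁻¹ ∈ L) ∧ (∀ f ∈ E, g * f * g⁻¹ ∈ E) ∧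
    g * t * g⁻¹ ≠ t ∧ ∀ f ∈ E, g * (g * (g * f * g⁻¹) * g⁻¹) * g⁻¹ = f := by
  classical
  obtain ⟨g, hgL, hgE, hgt, hg3⟩ := exists_cycle P C M D
  -- `g` normalises the half
  have hgK : ∀ n : G, (∀ f ∈ E, n * f * n⁻¹ ∈ E) → ∀ k ∈ centralizer (E : Set G),
      n * k * n⁻¹ ∈ centralizer (E : Set G) := by
    intro n hn k hk
    have hn' : n ∈ normalizer (E : Set G) := mem_normalizer_of_le hn
    refine mem_centralizer_iff.2 fun f hf => ?_
    have hf' : n⁻¹ * f * n ∈ E := by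
      have := (mem_normalizer_iff.1 (inv_mem hn') f).1 hf
      rwa [inv_inv] at this
    have := mem_centralizer_iff.1 hk _ hf'
    calc f * (n * k * n⁻¹) = n * (n⁻¹ * f * n * k) * n⁻¹ := by group
      _ = n * k * n⁻¹ * f := by rw [this]; group
  obtain ⟨k, hk, hkR⟩ := exists_conj_le M.half.X0_le (X0_pGroup P C M.half) (X0_sylow P C M.half)
    (R := (X0g z u t).map (MulAut.conj g).toMonoidHom) (by
      rintro _ ⟨x, hx, rfl⟩
      exact hgK g hgE x (M.half.X0_le hx)) ((X0_pGroup P C M.half).map _)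
  -- elements of the half act trivially on `E`
  have hact : ∀ c ∈ centralizer (E : Set G), ∀ f ∈ E, c * f * c⁻¹ = f := fun c hc f hf => by
    rw [← mem_centralizer_iff.1 hc f hf, mul_inv_cancel_right]
  have mk : ∀ c ∈ centralizer (E : Set G), ∀ n : G, (∀ f ∈ E, n * f * n⁻¹ ∈ E) →
      (∀ f ∈ E, c * n * f * (c * n)⁻¹ = n * f * n⁻¹) := fun c hc n hn f hf => by
    rw [show c * n * f * (c * n)⁻¹ = c * (n * f * n⁻¹) * c⁻¹ by group, hact c hc _ (hn f hf)]
  set g1 := k * g with hg1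
  have hg1N : g1 ∈ normalizer (X0g z u t : Set G) := mem_normalizer_of_le fun x hx => by
    rw [hg1, show k * g * x * (k * g)⁻¹ = k * (g * x * g⁻¹) * k⁻¹ by group]
    exact hkR _ ⟨x, hx, rfl⟩
  obtain ⟨c, hc, hcN, hcz⟩ : ∃ c, c ∈ centralizer (E : Set G) ∧
      c ∈ normalizer (X0g z u t : Set G) ∧ c * (g1 * z * g1⁻¹) * c⁻¹ = z := by
    have hozu : o * (z * u) * o⁻¹ = z := by
      rw [show o * (z * u) * o⁻¹ = o * z * o⁻¹ * (o * u * o⁻¹) by group, M.o_z, M.o_u, P.zu,
        ← mul_assoc, P.T.zz, one_mul]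
    rcases conj_three P C M.half hg1N (Or.inr (Or.inl rfl)) P.S.zne with e | e | e
    · exact ⟨1, one_mem _, one_mem _, by rw [e]; group⟩
    · exact ⟨o⁻¹, inv_mem M.o_mem, inv_mem M.o_norm, by rw [e, ← M.o_z]; group⟩
    · exact ⟨o, M.o_mem, M.o_norm, by rw [e, hozu]⟩
  set g2 := c * g1 with hg2
  have hck : c * k ∈ centralizer (E : Set G) := mul_mem hc hk
  have hg2act : ∀ f ∈ E, g2 * f * g2⁻¹ = g * f * g⁻¹ := fun f hf => by
    rw [hg2, hg1, ← mul_assoc]; exact mk _ hck g hgE f hf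
  have hg2L : ∀ l ∈ L, g2 * l * g2⁻¹ ∈ L := fun l hl => by
    rw [hg2, hg1, show c * (k * g) * l * (c * (k * g))⁻¹ = c * k * (g * l * g⁻¹) * (c * k)⁻¹ by group]
    exact L_normal P C M D (mem_centralizer_singleton_iff.1 (M.half.le hck)) _ (hgL l hl)
  have hg2N : g2 ∈ normalizer (X0g z u t : Set G) := mul_mem hcN hg1N
  have hg2z : g2 * z = z * g2 := mul_inv_eq_iff_eq_mul.1 (by
    rw [hg2, show c * g1 * z * (c * g1)⁻¹ = c * (g1 * z * g1⁻¹) * c⁻¹ by group, hcz])
  obtain ⟨m, hm⟩ := odd_power (k := g2)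
  -- the power still cycles `E`
  have hpow : ∀ j : ℕ, (∀ l ∈ L, g2 ^ j * l * (g2 ^ j)⁻¹ ∈ L) ∧ ∀ f ∈ E, g2 ^ j * f * (g2 ^ j)⁻¹ ∈ E ∧
      g2 ^ (3 * j) * f * (g2 ^ (3 * j))⁻¹ = f := by
    intro j
    induction j with
    | zero => simp
    | succ j ih =>
      have hsucc : ∀ x : G, g2 ^ (j + 1) * x * (g2 ^ (j + 1))⁻¹ = g2 * (g2 ^ j * x * (g2 ^ j)⁻¹) * g2⁻¹ :=
        fun x => by rw [pow_succ']; group
      refine ⟨fun l hl => by rw [hsucc]; exact hg2L _ (ih.1 l hl), fun f hf => ⟨?_, ?_⟩⟩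
      · rw [hsucc, hg2act _ (ih.2 f hf).1]
        exact hgE _ (ih.2 f hf).1
      · have h3 : g2 ^ (3 * (j + 1)) * f * (g2 ^ (3 * (j + 1)))⁻¹ =
            g2 * (g2 * (g2 * (g2 ^ (3 * j) * f * (g2 ^ (3 * j))⁻¹) * g2⁻¹) * g2⁻¹) * g2⁻¹ := by
          rw [show 3 * (j + 1) = 3 * j + 1 + 1 + 1 by omega, pow_succ', pow_succ', pow_succ']; group
        rw [h3, (ih.2 f hf).2, hg2act f hf, hg2act _ (hgE f hf), hg2act _ (hgE _ (hgE f hf))]
        exact hg3 f hf
  set g3 := g2 ^ 2 ^ m with hg3def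
  have hg3t : g3 * t * g3⁻¹ ≠ t := by
    intro e
    have h3 := ((hpow 1).2 t M.t_mem).2
    rw [mul_one] at h3
    have c1 : Commute (g2 ^ 2 ^ m) t := mul_inv_eq_iff_eq_mul.1 e
    have c3 : Commute (g2 ^ 3) t := mul_inv_eq_iff_eq_mul.1 h3
    obtain ⟨a, b, hab⟩ : ∃ a b : ℤ, (1 : ℤ) = ((2 ^ m : ℕ) : ℤ) * a + ((3 : ℕ) : ℤ) * b := by
      have hco : Nat.Coprime (2 ^ m) 3 := Nat.Coprime.pow_left m (by norm_num)
      have hb := Nat.gcd_eq_gcd_ab (2 ^ m) 3
      rw [hco] at hb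
      exact ⟨_, _, by exact_mod_cast hb⟩
    have c0 : Commute g2 t := by
      have h := (c1.zpow_left a).mul_left (c3.zpow_left b)
      rwa [← zpow_natCast g2, ← zpow_natCast g2, ← zpow_mul, ← zpow_mul, ← zpow_add, ← hab, zpow_one] at h
    refine hgt ?_
    rw [← hg2act t M.t_mem, c0.eq, mul_inv_cancel_right]
  have hN3 : g3 ∈ normalizer (X0g z u t : Set G) := pow_mem hg2N _
  have hz3 : g3 * z = z * g3 := ((show Commute g2 z from hg2z).pow_left _).eq
  have hu3 : g3 * u = u * g3 := by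
    refine commute_of_odd hm (by rw [pow_orderOf_eq_one]; simp) ?_
    have hzc : g3 * z * g3⁻¹ = z := mul_inv_eq_iff_eq_mul.2 hz3
    rw [← mul_inv_eq_iff_eq_mul, show g3 * g3 * u * (g3 * g3)⁻¹ = g3 * (g3 * u * g3⁻¹) * g3⁻¹ by group]
    rcases conj_three P C M.half hN3 (Or.inr (Or.inr (Or.inl rfl))) P.T.zne with e | e | e
    · exact absurd (mul_left_cancel (mul_right_cancel (e.trans hzc.symm))) P.une
    · rw [e, e]
    · rw [e, show g3 * (z * u) * g3⁻¹ = g3 * z * g3⁻¹ * (g3 * u * g3⁻¹) by group, hzc, e, ← mul_assoc,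
        P.S.zz, one_mul]
  have hL3 : ∀ l ∈ L, g3 * l * g3⁻¹ ∈ L := (hpow _).1
  refine ⟨g3, hm, hz3, hu3, fun x hx => ?_, hL3, fun f hf => ((hpow _).2 f hf).1, hg3t,
    fun f hf => ?_⟩
  · exact (D.inter _ ((mem_normalizer_iff.1 hN3 x).1 (TG_le P C hx))).1 (hL3 x (D.T_le hx))
  · rw [show g3 * (g3 * (g3 * f * g3⁻¹) * g3⁻¹) * g3⁻¹ = g3 ^ 3 * f * (g3 ^ 3)⁻¹ by
      simp [pow_succ, mul_assoc], hg3def,
      ← pow_mul, mul_comm]
    exact ((hpow _).2 f hf).2

theorem fixes_TG {g : G} (hg : Odd (orderOf g)) (hgz : g * z = z * g) (hgu : g * u = u * g)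
    (hgT : ∀ x ∈ TG P, g * x * g⁻¹ ∈ TG P) : ∀ x ∈ TG P, g * x = x * g := by
  obtain ⟨F, hF⟩ : ∃ F : W → W, ∀ x, F x = (act Q φ g ((0, 0), x)).2 := ⟨_, fun _ => rfl⟩
  have hpar : ∀ {x : G} {p : W × W}, HasPar P x p → HasPar P (g * x * g⁻¹) (F p.1, F p.2) :=
    fun {x p} hp => by rw [hF, hF]; exact par_conj P hp hgz hgu
  have elt : ∀ p : W × W, TP p → ∃ x ∈ TG P, HasPar P x p := fun p hp => by
    obtain ⟨x, hx⟩ := HasPar.exists_elt P p
    exact ⟨x, ⟨p, hx, axis_facts.1 p hp, hp⟩, hx⟩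
  have hgR : ∀ r : G, P.InR r → g * r * g⁻¹ = r := by
    intro r hr
    rw [mul_inv_eq_iff_eq_mul]
    rcases hr with e | e | e | e <;> rw [e]
    · simp
    · exact hgz
    · exact hgu
    · exact ((show Commute g z from hgz).mul_right hgu).eq
  have hFzero : ∀ p : W × W, TP p → F p.1 = 0 → F p.2 = 0 → p = 0 := by
    intro p hp h1 h2
    obtain ⟨x, -, hx⟩ := elt p hp
    have h := hpar hx
    rw [h1, h2] at h
    have h' := hgR _ (HasPar.inR_of_zero P h)
    have hxR : P.InR x := by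
      rw [show x = g * x * g⁻¹ from mul_left_cancel (mul_right_cancel h').symm]
      exact HasPar.inR_of_zero P h
    exact HasPar.ext_par P hx (HasPar.of_inR P hxR)
  have hFadd : ∀ p q : W × W, TP p → TP q → F (p + q).1 = F p.1 + F q.1 ∧ F (p + q).2 = F p.2 + F q.2 := by
    intro p q hp hq
    obtain ⟨x, -, hx⟩ := elt p hp
    obtain ⟨y, -, hy⟩ := elt q hq
    have h1 := hpar (HasPar.mul P hx hy)
    rw [show g * (x * y) * g⁻¹ = g * x * g⁻¹ * (g * y * g⁻¹) by group] at h1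
    have h2 := HasPar.ext_par P h1 (HasPar.mul P (hpar hx) (hpar hy))
    exact ⟨congrArg Prod.fst h2, congrArg Prod.snd h2⟩
  have h00 : TP (0 : W × W) := tp_facts'.2.2.1
  have hF0 : F 0 = 0 := by
    obtain ⟨h1, -⟩ := hFadd 0 0 h00 h00
    simpa using h1
  let e10 : W := ((1, 0), (0, 0))
  let e01 : W := ((0, 1), (0, 0))
  have himg : ∀ a : W, (a = e10 ∨ a = e01) → F a = e10 ∨ F a = e01 := by
    intro a ha
    have haT : TP ((a, 0) : W × W) := by rcases ha with rfl | rfl <;> decide +kernel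
    obtain ⟨x, hxT, hx⟩ := elt _ haT
    have hI : IP ((a, 0) : W × W) := by
      rcases ha with rfl | rfl
      · exact axis_facts.2.2.1
      · exact axis_facts.2.2.2.1
    have hxx := (sq_eq_one_iff P C hx).2 hI
    have h2 := hpar hx
    simp only at h2
    rw [hF0] at h2
    have hI' := (sq_eq_one_iff P C h2).1 (by
      rw [show g * x * g⁻¹ * (g * x * g⁻¹) = g * (x * x) * g⁻¹ by group, hxx]; group)
    obtain ⟨q, hq, -, hqT⟩ := hgT x hxT
    have hqe := HasPar.ext_par P hq h2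
    rw [hqe] at hqT
    obtain ⟨⟨y1, y2⟩, hy⟩ : ∃ y : W, y = F a := ⟨_, rfl⟩
    rw [← hy] at hI' hqT ⊢
    obtain rfl : y2 = (0, 0) := hqT.1
    rcases axis_facts.2.1 y1 hI' with e | e | e
    · exfalso
      have hp0 := hFzero _ haT (by rw [show F a = (y1, (0, 0)) from hy.symm, e]; rfl) hF0
      rcases ha with rfl | rfl
      · exact absurd hp0 (by decide +kernel)
      · exact absurd hp0 (by decide +kernel)
    · left; rw [e]
    · right; rw [e]
  -- the square fixes the parameters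
  have hinj : F e10 ≠ F e01 := by
    intro e
    have h := hFzero (e10 + e01, 0) (by decide +kernel) ?_ hF0
    · exact absurd h (by decide +kernel)
    · obtain ⟨h1, -⟩ := hFadd (e10, 0) (e01, 0) (by decide +kernel) (by decide +kernel)
      simp only [Prod.mk_add_mk, add_zero] at h1
      rw [h1, e]
      exact (by decide +kernel : ∀ w : W, w + w = 0) _
  have hsq : F (F e10) = e10 ∧ F (F e01) = e01 := by
    rcases himg _ (Or.inl rfl) with a | a <;> rcases himg _ (Or.inr rfl) with b | b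
    · exact absurd (a.trans b.symm) hinj
    · exact ⟨by rw [a, a], by rw [b, b]⟩
    · exact ⟨by rw [a, b], by rw [b, a]⟩
    · exact absurd (a.trans b.symm) hinj
  have hall : ∀ p : W × W, TP p → (F (F p.1), F (F p.2)) = p := by
    intro p hp
    obtain ⟨a, b, c, d, rfl⟩ := axis_facts.2.2.2.2 p hp
    have key : ∀ a b : ZMod 2, F (F ((a, b), (0, 0))) = ((a, b), (0, 0)) := by
      intro a b
      rcases z2_cases' a with rfl | rfl <;> rcases z2_cases' b with rfl | rfl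
      · rw [show (((0, 0), (0, 0)) : W) = 0 from rfl, hF0, hF0]
      · exact hsq.2
      · exact hsq.1
      · obtain ⟨h1, -⟩ := hFadd (e10, 0) (e01, 0) (by decide +kernel) (by decide +kernel)
        simp only [Prod.mk_add_mk, add_zero] at h1
        rw [show (((1, 1), (0, 0)) : W) = e10 + e01 by decide +kernel, h1]
        rcases himg _ (Or.inl rfl) with a | a <;> rcases himg _ (Or.inr rfl) with b | b
        · exact absurd (a.trans b.symm) hinj
        · rw [a, b, h1, a, b]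
        · rw [a, b, add_comm e01 e10, h1, a, b, add_comm e01 e10]
        · exact absurd (a.trans b.symm) hinj
    exact Prod.ext (key a b) (key c d)
  intro x hx
  obtain ⟨p, hp, hC', hT⟩ := hx
  have h2 := hpar (hpar hp)
  simp only at h2
  rw [hall p hT, show g * (g * x * g⁻¹) * g⁻¹ = g * g * x * (g * g)⁻¹ by group] at h2
  obtain ⟨i, j, hij⟩ := eq_mul_cz P hp h2
  have hgg : g * g * P.cz i j = P.cz i j * (g * g) :=
    ((show Commute g (P.cz i j) from mul_inv_eq_iff_eq_mul.1 (hgR _ (P.inR_cz i j))).mul_left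
      (show Commute g (P.cz i j) from mul_inv_eq_iff_eq_mul.1 (hgR _ (P.inR_cz i j)))).eq
  have hodd : Odd (orderOf (g * g)) := hg.of_dvd_nat (by
    rw [← pow_two]; exact orderOf_pow_dvd 2)
  rw [← inR_central P C (P.inR_cz i j) x ((mem_X0_iff P C).2 ⟨p, hp, hC'⟩)] at hij
  have hfix := fix_of_odd hodd (by rw [← P.cz_add, z2_self, z2_self, P.cz_zero]) hgg hij
  exact commute_of_odd hg (by rw [pow_orderOf_eq_one]; simp) hfix

/-- An element of odd order centralising `C_L(z)` centralises `L`. -/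
theorem centralises_L {g : G} (hg : Odd (orderOf g)) (hgL : ∀ l ∈ L, g * l * g⁻¹ ∈ L)
    (hgT : ∀ x ∈ TG P, g * x = x * g) : ∀ l ∈ L, g * l = l * g := by
  classical
  have := simple_L P C M D
  let Cg : Subgroup L := (centralizer ({g} : Set G)).subgroupOf L
  have hAT : ∀ (s : Pl) (hs : s ∈ sgs), AS P s hs ≤ TG P := fun s hs x ⟨q, hq, hq1, hq2⟩ =>
    ⟨q, hq, hq1.1, hq2⟩
  have hnorm : ∀ (s : Pl) (hs : s ∈ sgs) (y : L),
      y ∈ normalizer (((AS P s hs).subgroupOf L : Subgroup L) : Set L) → y ∈ Cg := by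
    intro s hs y hy
    show (y : G) ∈ centralizer ({g} : Set G)
    rw [mem_centralizer_singleton_iff]
    set a := (y : G)⁻¹ * (g * y * g⁻¹) with ha
    have hya : ∀ α ∈ AS P s hs, (y : G) * α * (y : G)⁻¹ ∈ AS P s hs := fun α hα =>
      (mem_normalizer_iff.1 hy ⟨α, D.T_le (hAT s hs hα)⟩).1 hα
    have hac : ∀ α ∈ AS P s hs, a * α = α * a := by
      intro α hα
      have h2 := hgT _ (hAT s hs (hya α hα))
      have hα' : g⁻¹ * α * g = α := by rw [mul_assoc, ← hgT α (hAT s hs hα), inv_mul_cancel_left]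
      rw [← mul_inv_eq_iff_eq_mul]
      calc a * α * a⁻¹ = (y : G)⁻¹ * (g * ((y : G) * (g⁻¹ * α * g) * (y : G)⁻¹) * g⁻¹) * y := by
            rw [ha]; group
        _ = (y : G)⁻¹ * ((y : G) * α * (y : G)⁻¹) * y := by rw [hα', h2, mul_inv_cancel_right]
        _ = α := by group
    have haL : a ∈ L := mul_mem (inv_mem y.2) (hgL _ y.2)
    have hz : a * z = z * a := hac z (inR_mem_AS P C M.half (Or.inr (Or.inl rfl)) s hs)
    obtain ⟨p, hp, hC', hT⟩ := cent_z P C M D haL hz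
    obtain ⟨q, hqF, hqT, hq0⟩ := line_exists s hs
    obtain ⟨b, hb⟩ := HasPar.exists_elt P q
    have hFP : FP s p := cp_fp s hs q hqF (fun hZ => hq0 (tp_sum q hqT hZ)) p hC'
      ((commute_iff P C hb hp).1 (hac b ⟨q, hb, hqF, hqT⟩).symm)
    have haa : a * a = 1 := FS_sq P C (hs := hs) ⟨p, hp, hFP⟩
    refine (fix_of_odd hg haa (hgT a ⟨p, hp, hC', hT⟩) ?_).symm
    rw [ha]; group
  have hFlag := flag_L P C M D
  have hnc := L_not_comm P C M D
  have hNA := hFlag.card_normalizer_A hnc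
  have hNB := hFlag.symm.card_normalizer_A hnc
  set NA := normalizer (((AS P (1, 0) sgs_mem.1).subgroupOf L : Subgroup L) : Set L) with hNAdef
  set NB := normalizer (((AS P (0, 1) sgs_mem.2).subgroupOf L : Subgroup L) : Set L) with hNBdef
  by_cases htop : Cg = ⊤
  · intro l hl
    have : (⟨l, hl⟩ : L) ∈ Cg := htop ▸ mem_top _
    exact (mem_centralizer_singleton_iff.1 this).symm
  exfalso
  have hle : NA ≤ Cg := fun y hy => hnorm _ sgs_mem.1 y hy
  have hleB : NB ≤ Cg := fun y hy => hnorm _ sgs_mem.2 y hy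
  have hidx : 8 ≤ Cg.index := by
    by_contra hlt
    push Not at hlt
    have hker : (MulAction.toPermHom L (L ⧸ Cg)).ker = ⊥ := by
      rcases (MonoidHom.normal_ker (MulAction.toPermHom L (L ⧸ Cg))).eq_bot_or_eq_top with e | e
      · exact e
      · refine absurd (top_unique ?_) htop
        rw [← e]
        rw [← Cg.normalCore_eq_ker]
        exact Cg.normalCore_le
    have hinj : Function.Injective (MulAction.toPermHom L (L ⧸ Cg)) := (MonoidHom.ker_eq_bot_iff _).1 hker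
    have hd := card_dvd_of_injective _ hinj
    rw [Nat.card_perm, ← index_eq_card, card_L P C M D] at hd
    have : Cg.index ≠ 0 := index_ne_zero_of_finite
    interval_cases Cg.index <;> norm_num [Nat.factorial] at hd
  have hcard := Cg.index_mul_card
  rw [card_L P C M D] at hcard
  obtain ⟨d, hd⟩ : 960 ∣ Nat.card Cg := hNA ▸ card_dvd_of_le hle
  have hCg : Nat.card Cg = 960 := by
    rw [hd] at hcard ⊢
    have hd0 : d ≠ 0 := fun e => by rw [e] at hcard; omega
    have : Cg.index * d = 21 := by linarith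
    have : d ∣ 21 := ⟨Cg.index, by rw [← this, mul_comm]⟩
    have : d ≤ 21 := Nat.le_of_dvd (by norm_num) this
    interval_cases d <;> omega
  have eA : NA = Cg := eq_of_le_of_card_ge hle (by rw [hNA, hCg])
  have eB : NB = Cg := eq_of_le_of_card_ge hleB (by rw [hNB, hCg])
  -- the common normaliser permutes the centre
  have hR : ∀ y : L, y ∈ Cg → (y : G) * z * (y : G)⁻¹ = z ∨ (y : G) * z * (y : G)⁻¹ = u ∨
      (y : G) * z * (y : G)⁻¹ = z * u := by
    intro y hy
    have h1 : (y : G) * z * (y : G)⁻¹ ∈ AS P (1, 0) sgs_mem.1 :=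
      (mem_normalizer_iff.1 (show y ∈ NA from eA ▸ hy) ⟨z, z_mem_L P C M D⟩).1
        (inR_mem_AS P C M.half (Or.inr (Or.inl rfl)) _ sgs_mem.1)
    have h2 : (y : G) * z * (y : G)⁻¹ ∈ AS P (0, 1) sgs_mem.2 :=
      (mem_normalizer_iff.1 (show y ∈ NB from eB ▸ hy) ⟨z, z_mem_L P C M D⟩).1
        (inR_mem_AS P C M.half (Or.inr (Or.inl rfl)) _ sgs_mem.2)
    obtain ⟨p, hp, hp1, hpT⟩ := h1
    obtain ⟨q, hq, hq1, -⟩ := h2
    obtain rfl := HasPar.ext_par P hp hq
    rw [plane_facts.2.2.2.2.2 p hp1 hq1 hpT] at hp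
    exact (HasPar.inR_of_zero P hp).resolve_left fun e => P.S.zne (conj_eq_one_iff.1 e)
  have hbound := card_le_mul (M := Cg) (H := (TG P).subgroupOf L)
    (fun y : Cg => (⟨((y : L) : G) * z * ((y : L) : G)⁻¹, hR y y.2⟩ :
      {x : G // x = z ∨ x = u ∨ x = z * u})) fun a b h => by
    have h' : ((a : L) : G) * z * ((a : L) : G)⁻¹ = ((b : L) : G) * z * ((b : L) : G)⁻¹ :=
      congrArg Subtype.val h
    rw [mem_subgroupOf, Subgroup.coe_mul, InvMemClass.coe_inv]
    refine cent_z P C M D (mul_mem (inv_mem (a : L).2) (b : L).2) ?_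
    rw [← mul_inv_eq_iff_eq_mul]
    calc ((a : L) : G)⁻¹ * (b : L) * z * (((a : L) : G)⁻¹ * (b : L))⁻¹ =
          ((a : L) : G)⁻¹ * (((b : L) : G) * z * ((b : L) : G)⁻¹) * (a : L) := by group
      _ = z := by rw [← h']; group
  rw [hCg, Nat.card_congr (subgroupOfEquivOfLe D.T_le).toEquiv, card_TG P C] at hbound
  have h3 : Nat.card {x : G // x = z ∨ x = u ∨ x = z * u} ≤ 3 := by
    refine le_trans (Nat.card_le_card_of_injective
      (fun x : {x : G // x = z ∨ x = u ∨ x = z * u} =>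
        (if (x : G) = z then 0 else if (x : G) = u then 1 else 2 : Fin 3)) ?_) (by simp)
    rintro ⟨a, ha⟩ ⟨b, hb⟩ e
    rcases ha with rfl | rfl | rfl <;> rcases hb with rfl | rfl | rfl <;>
      simp [P.une, P.une.symm, P.S.zne, P.T.zne] at e ⊢
  omega

/-- The element of order three. -/
theorem exists_d : ∃ d : G, d ^ 3 = 1 ∧ (∀ l ∈ L, d * l = l * d) ∧ (∀ e ∈ E, d * e * d⁻¹ ∈ E) ∧
    d * t * d⁻¹ ≠ t := by
  obtain ⟨g, hodd, hgz, hgu, hgT, hgL, hgE, hgt, hg3⟩ := exists_adjusted P C M D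
  have hc := centralises_L P C M D hodd hgL (fixes_TG P C M D hodd hgz hgu hgT)
  refine ⟨g, ?_, hc, hgE, hgt⟩
  have hg3E : g ^ 3 ∈ E := by
    refine cent_L P C M D ?_ fun l hl => ((show Commute g l from hc l hl).pow_left 3).eq
    have := hg3 t M.t_mem
    rw [show g * (g * (g * t * g⁻¹) * g⁻¹) * g⁻¹ = g ^ 3 * t * (g ^ 3)⁻¹ by simp [pow_succ, mul_assoc]] at this
    exact mul_inv_eq_iff_eq_mul.1 this
  have h2 : orderOf (g ^ 3) ∣ 2 := orderOf_dvd_of_pow_eq_one (by rw [pow_two]; exact M.sqE _ hg3E)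
  rcases (Nat.dvd_prime Nat.prime_two).1 h2 with h | h
  · exact orderOf_eq_one_iff.1 h
  · have h' := hodd.of_dvd_nat (orderOf_pow_dvd (x := g) 3)
    rw [h] at h'
    exact absurd h' (by decide)

end CfsgLib.InvChar.SuzT
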