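import Cfsg.Agent.Lib.InvChar.SuzT.Index

/-!
# The two elementary abelian subgroups of order 64 of `C(z, u, t)`, and the four group `E`
-/

set_option autoImplicit false
set_option linter.unusedSectionVars false

namespace CfsgLib.InvChar.SuzT

open Subgroup SuzType

/-- The part in the hyperbolic plane lies on the given line. -/
def FP (s : Pl) (p : W × W) : Prop :=
  InC p ∧ (p.1.1 = 0 ∨ p.1.1 = s) ∧ (p.2.1 = 0 ∨ p.2.1 = s)

instance (s : Pl) : DecidablePred (FP s) := fun p => by unfold FP; infer_instance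

/-- No part in the anisotropic plane. -/
def TP (p : W × W) : Prop := p.1.2 = 0 ∧ p.2.2 = 0

instance : DecidablePred TP := fun p => by unfold TP; infer_instance

/-- The parameters of the centre. -/
def ZP (p : W × W) : Prop := InC p ∧ p.1.1 = 0 ∧ p.2.1 = 0

instance : DecidablePred ZP := fun p => by unfold ZP; infer_instance

/-- Involutive parameters. -/
def IP (p : W × W) : Prop := qW p.1 + bW p.1 p.2 = 0 ∧ qW p.2 + bW p.1 p.2 = 0

instance : DecidablePred IP := fun p => by unfold IP; infer_instance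

/-- The parameters commute. -/
def CP (p q : W × W) : Prop :=
  bW p.1 q.1 + bW p.1 q.2 + bW q.1 p.2 = 0 ∧ bW p.2 q.2 + bW p.1 q.2 + bW q.1 p.2 = 0

instance : DecidableRel CP := fun p q => by unfold CP; infer_instance

/-- The two singular vectors of the hyperbolic plane. -/
def sgs : List Pl := [(1, 0), (0, 1)]

theorem fp_add : ∀ s ∈ sgs, ∀ p q, FP s p → FP s q → FP s (p + q) := by
  intro s _ p q ⟨h1, h2, h3⟩ ⟨h4, h5, h6⟩
  have key : ∀ a b : Pl, (a = 0 ∨ a = s) → (b = 0 ∨ b = s) → a + b = 0 ∨ a + b = s := by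
    intro a b ha hb
    rcases ha with rfl | rfl <;> rcases hb with rfl | rfl <;> simp
    exact Or.inl ((by decide : ∀ x : Pl, x + x = 0) _)
  exact ⟨inC_add _ _ h1 h4, key _ _ h2 h5, key _ _ h3 h6⟩

set_option synthInstance.maxSize 2000 in
theorem fp_facts : ∀ s ∈ sgs, ∀ p, FP s p → IP p ∧ (p.1.2 = 0 → p.2.2 = 0 → bW p.1 p.2 = 0) ∧
    (bW p.1 p.2 = 0 → TP p) ∧ ∀ q, FP s q → CP p q := by
  decide +kernel

set_option synthInstance.maxSize 2000 in
theorem cp_fp : ∀ s ∈ sgs, ∀ p, FP s p → ¬ ZP p → ∀ q, InC q → CP p q → FP s q := by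
  decide +kernel

set_option synthInstance.maxSize 2000 in
theorem fp_cover : ∀ p, InC p → IP p → ∃ s ∈ sgs, FP s p := by decide +kernel

set_option synthInstance.maxSize 2000 in
theorem zp_facts : ∀ p, ZP p → IP p ∧ (∀ s ∈ sgs, FP s p) ∧ (p ≠ 0 → bW p.1 p.2 = 1) ∧
    ∀ q, InC q → CP p q := by decide +kernel

set_option synthInstance.maxSize 2000 in
theorem cp_surj : ∀ s ∈ sgs, ∀ p, FP s p → TP p → p ≠ 0 → ∀ i j : ZMod 2, ∃ q, InC q ∧
    bW p.1 q.1 + bW p.1 q.2 + bW q.1 p.2 = i ∧ bW p.2 q.2 + bW p.1 q.2 + bW q.1 p.2 = j := by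
  decide +kernel

set_option synthInstance.maxSize 2000 in
theorem fp_card : ∀ s ∈ sgs, Fintype.card {p : W × W // FP s p} = 16 ∧
    Fintype.card {p : W × W // FP s p ∧ TP p} = 4 := by decide +kernel

set_option synthInstance.maxSize 2000 in
theorem zp_split : ∀ s ∈ sgs, ∀ p, FP s p →
    ∃ c : W × W, ZP c ∧ FP s (c + p) ∧ TP (c + p) ∧ ∀ c', ZP c' → TP (c' + p) → c' = c := by
  decide +kernel

set_option synthInstance.maxSize 2000 in
theorem zp_four : ∀ p, ZP p → p = 0 ∨ p = tp ∨ p = ((code 48).2, (code 16).2) ∨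
    p = ((code 32).2, (code 48).2) := by decide +kernel

set_option synthInstance.maxSize 2000 in
theorem zp_gens : ZP (0 : W × W) ∧ ZP tp ∧ ZP ((code 48).2, (code 16).2) ∧ ZP ((code 32).2, (code 48).2) ∧
    ((code 48).2, (code 16).2) + ((code 32).2, (code 48).2) = tp ∧
    mv ((code 48).2, (code 16).2) = ((code 32).2, (code 48).2) ∧
    ((code 48).2, (code 16).2) ≠ (0 : W × W) ∧ ((code 48).2, (code 16).2) ≠ tp ∧
    ((code 32).2, (code 48).2) ≠ (0 : W × W) ∧ ((code 32).2, (code 48).2) ≠ tp ∧ tp ≠ (0 : W × W) := by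
  decide +kernel

set_option synthInstance.maxSize 2000 in
theorem mv_fp : ∀ p, InC p → (∀ q, InC q → CP p q) → ZP p := by decide +kernel

variable {G : Type*} [Group G] [Finite G] {z u : G} {Q Q' : Subgroup G} {φ φ' : G → V}
  (P : Pair z u Q Q' φ φ')

/-- The subgroup of elements with parameters in `FP s`. -/
def FS (s : Pl) (hs : s ∈ sgs) : Subgroup G where
  carrier := {g | ∃ p, HasPar P g p ∧ FP s p}
  one_mem' := ⟨0, HasPar.one P, by revert hs; revert s; decide +kernel⟩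
  mul_mem' := by
    rintro a b ⟨p, hp, hp'⟩ ⟨q, hq, hq'⟩
    exact ⟨p + q, HasPar.mul P hp hq, fp_add s hs p q hp' hq'⟩
  inv_mem' := by
    rintro a ⟨p, hp, hp'⟩
    exact ⟨p, HasPar.inv P hp, hp'⟩

/-- Its members in the class of `z`, with `1`. -/
def AS (s : Pl) (hs : s ∈ sgs) : Subgroup G where
  carrier := {g | ∃ p, HasPar P g p ∧ FP s p ∧ TP p}
  one_mem' := ⟨0, HasPar.one P, by revert hs; revert s; decide +kernel, by decide +kernel⟩
  mul_mem' := by
    rintro a b ⟨p, hp, hp', hpt⟩ ⟨q, hq, hq', hqt⟩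
    refine ⟨p + q, HasPar.mul P hp hq, fp_add s hs p q hp' hq', ?_, ?_⟩
    · show p.1.2 + q.1.2 = 0
      rw [hpt.1, hqt.1, add_zero]
    · show p.2.2 + q.2.2 = 0
      rw [hpt.2, hqt.2, add_zero]
  inv_mem' := by
    rintro a ⟨p, hp, hp', hpt⟩
    exact ⟨p, HasPar.inv P hp, hp', hpt⟩

variable {t : G} (C : Ctx P t)
include P C

theorem commute_iff {g h : G} {p q : W × W} (hg : HasPar P g p) (hh : HasPar P h q) :
    g * h = h * g ↔ CP p q := by
  have hr := HasPar.rel P hg hh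
  rw [Pair.Rel] at hr
  constructor
  · intro e
    rw [← e] at hr
    exact P.cz_eq_one (mul_eq_right.1 hr.symm)
  · intro e
    rw [show bW p.1 q.1 + bW p.1 q.2 + bW q.1 p.2 = 0 from e.1,
      show bW p.2 q.2 + bW p.1 q.2 + bW q.1 p.2 = 0 from e.2, P.cz_zero, one_mul] at hr
    exact hr

theorem sq_eq_one_iff {g : G} {p : W × W} (hg : HasPar P g p) : g * g = 1 ↔ IP p := by
  rw [HasPar.sq P hg]
  exact ⟨fun e => P.cz_eq_one e, fun e => by rw [e.1, e.2, P.cz_zero]⟩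

theorem inR_mem_X0 {g : G} (h : P.InR g) : g ∈ X0g z u t :=
  (mem_X0_iff P C).2 ⟨0, HasPar.of_inR P h, zero_inC⟩

theorem central_iff {g : G} (hg : g ∈ X0g z u t) {p : W × W} (hp : HasPar P g p) :
    (∀ h ∈ X0g z u t, h * g = g * h) ↔ ZP p := by
  constructor
  · intro hc
    refine mv_fp p ?_ fun q hq => ?_
    · obtain ⟨p', hp', hC⟩ := (mem_X0_iff P C).1 hg
      rwa [HasPar.ext_par P hp hp']
    · obtain ⟨h, hh⟩ := HasPar.exists_elt P q
      exact (commute_iff P C hp hh).1 (hc h ((mem_X0_iff P C).2 ⟨q, hh, hq⟩)).symm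
  · intro hz h hh
    obtain ⟨q, hq, hqC⟩ := (mem_X0_iff P C).1 hh
    exact ((commute_iff P C hp hq).2 ((zp_facts p hz).2.2.2 q hqC)).symm

theorem FS_le (s : Pl) (hs : s ∈ sgs) : FS P s hs ≤ X0g z u t := fun g ⟨p, hp, hp'⟩ =>
  (mem_X0_iff P C).2 ⟨p, hp, hp'.1⟩

theorem FS_comm {s : Pl} {hs : s ∈ sgs} {g h : G} (hg : g ∈ FS P s hs) (hh : h ∈ FS P s hs) :
    g * h = h * g := by
  obtain ⟨p, hp, hp'⟩ := hg
  obtain ⟨q, hq, hq'⟩ := hh
  exact (commute_iff P C hp hq).2 ((fp_facts s hs p hp').2.2.2 q hq')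

theorem FS_sq {s : Pl} {hs : s ∈ sgs} {g : G} (hg : g ∈ FS P s hs) : g * g = 1 := by
  obtain ⟨p, hp, hp'⟩ := hg
  exact (sq_eq_one_iff P C hp).2 (fp_facts s hs p hp').1

theorem FS_conj {s : Pl} {hs : s ∈ sgs} {x g : G} (hx : x ∈ X0g z u t) (hg : g ∈ FS P s hs) :
    x * g * x⁻¹ ∈ FS P s hs := by
  obtain ⟨p, hp, hp'⟩ := hg
  exact ⟨p, X0_conj_par P C hx hp, hp'⟩

theorem mem_AS_iff {s : Pl} {hs : s ∈ sgs} {g : G} :
    g ∈ AS P s hs ↔ g ∈ FS P s hs ∧ (g = 1 ∨ IsConj g z) := by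
  constructor
  · rintro ⟨p, hp, hp', hpt⟩
    have hgF : g ∈ FS P s hs := ⟨p, hp, hp'⟩
    refine ⟨hgF, (eq_or_ne g 1).imp_right fun hne => ?_⟩
    exact (conj_z_iff P C hp (FS_sq P C hgF) hne).2 ((fp_facts s hs p hp').2.1 hpt.1 hpt.2)
  · rintro ⟨hgF, h⟩
    obtain ⟨p, hp, hp'⟩ := hgF
    rcases eq_or_ne g 1 with rfl | hne
    · exact one_mem _
    · exact ⟨p, hp, hp', (fp_facts s hs p hp').2.2.1
        ((conj_z_iff P C hp ((sq_eq_one_iff P C hp).2 (fp_facts s hs p hp').1) hne).1 (h.resolve_left hne))⟩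

theorem card_sub (H : Subgroup G) (S : W × W → Prop) [DecidablePred S]
    (hmem : ∀ g, g ∈ H ↔ ∃ p, HasPar P g p ∧ S p) :
    Nat.card H = Fintype.card {p : W × W // S p} * 4 := by
  classical
  choose e he using fun p : {p : W × W // S p} => HasPar.exists_elt P p.1
  have hp : ∀ x : {p : W × W // S p} × ZMod 2 × ZMod 2,
      HasPar P (P.cz x.2.1 x.2.2 * e x.1) x.1.1 := fun x => by
    simpa using HasPar.mul P (HasPar.of_inR P (P.inR_cz x.2.1 x.2.2)) (he x.1)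
  let F : {p : W × W // S p} × ZMod 2 × ZMod 2 → H := fun x =>
    ⟨P.cz x.2.1 x.2.2 * e x.1, (hmem _).2 ⟨x.1.1, hp x, x.1.2⟩⟩
  have hF : Function.Bijective F := by
    refine ⟨fun x y h => ?_, fun g => ?_⟩
    · have h' : P.cz x.2.1 x.2.2 * e x.1 = P.cz y.2.1 y.2.2 * e y.1 := congrArg Subtype.val h
      have e1 : x.1 = y.1 := Subtype.ext (HasPar.ext_par P (hp x) (h' ▸ hp y))
      rw [e1] at h'
      have e3 : P.cz (x.2.1 + y.2.1) (x.2.2 + y.2.2) = 1 := by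
        rw [P.cz_add, mul_right_cancel h', ← P.cz_add, z2_self, z2_self, P.cz_zero]
      obtain ⟨a, b⟩ := P.cz_eq_one e3
      exact Prod.ext e1 (Prod.ext (CharTwo.add_eq_zero.1 a) (CharTwo.add_eq_zero.1 b))
    · obtain ⟨p, hp, hc⟩ := (hmem _).1 g.2
      obtain ⟨i, j, hij⟩ := eq_mul_cz P (he ⟨p, hc⟩) hp
      exact ⟨(⟨p, hc⟩, i, j), Subtype.ext hij.symm⟩
  rw [← Nat.card_congr (Equiv.ofBijective F hF), Nat.card_prod, Nat.card_prod, Nat.card_zmod,
    Nat.card_eq_fintype_card]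

theorem card_FS (s : Pl) (hs : s ∈ sgs) : Nat.card (FS P s hs) = 64 := by
  rw [card_sub P C (FS P s hs) (FP s) fun g => Iff.rfl, (fp_card s hs).1]

theorem card_AS (s : Pl) (hs : s ∈ sgs) : Nat.card (AS P s hs) = 16 := by
  rw [card_sub P C (AS P s hs) (fun p => FP s p ∧ TP p) fun g => Iff.rfl, (fp_card s hs).2]

/-- An elementary abelian subgroup of order 64 is one of the two. -/
theorem eq_FS {H : Subgroup G} (hH : H ≤ X0g z u t) (hcard : Nat.card H = 64)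
    (hsq : ∀ g ∈ H, g * g = 1) : ∃ s, ∃ hs : s ∈ sgs, H = FS P s hs := by
  classical
  have hcom : ∀ g ∈ H, ∀ h ∈ H, g * h = h * g := fun g hg h hh => by
    have e := hsq _ (mul_mem hg hh)
    calc g * h = (g * h)⁻¹ := (inv_eq_of_mul_eq_one_right e).symm
      _ = h⁻¹ * g⁻¹ := mul_inv_rev _ _
      _ = h * g := by rw [inv_eq_of_mul_eq_one_right (hsq g hg), inv_eq_of_mul_eq_one_right (hsq h hh)]
  choose par hpar hparC using fun g : H => (mem_X0_iff P C).1 (hH g.2)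
  have hIP : ∀ g : H, IP (par g) := fun g => (sq_eq_one_iff P C (hpar g)).1 (hsq g g.2)
  by_cases hno : ∃ g : H, ¬ ZP (par g)
  · obtain ⟨g, hg⟩ := hno
    obtain ⟨s, hs, hgs⟩ := fp_cover _ (hparC g) (hIP g)
    refine ⟨s, hs, eq_of_le_of_card_ge (fun h hh => ⟨par ⟨h, hh⟩, hpar ⟨h, hh⟩, ?_⟩) (by
      rw [hcard, card_FS P C s hs])⟩
    exact cp_fp s hs _ hgs hg _ (hparC ⟨h, hh⟩)
      ((commute_iff P C (hpar g) (hpar ⟨h, hh⟩)).1 (hcom g g.2 h hh))
  · exfalso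
    push Not at hno
    have hle : H ≤ FS P (1, 0) (by decide) := fun h hh =>
      ⟨par ⟨h, hh⟩, hpar ⟨h, hh⟩, (zp_facts _ (hno ⟨h, hh⟩)).2.1 _ (by decide)⟩
    have e := eq_of_le_of_card_ge hle (by rw [hcard, card_FS P C])
    obtain ⟨g, hg⟩ := HasPar.exists_elt P ((((1, 0), (0, 0)), ((0, 0), (0, 0))) : W × W)
    have hg' : g ∈ H := by
      rw [e]
      exact ⟨_, hg, by decide +kernel⟩
    have := hno ⟨g, hg'⟩
    rw [HasPar.ext_par P (hpar ⟨g, hg'⟩) hg] at this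
    exact absurd this (by decide +kernel)

end CfsgLib.InvChar.SuzT
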