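import Cfsg.Agent.Lib.InvChar.SuzT.Half

/-!
# The four group fixed by an element of order three of the normaliser

Its elements are fixed by the normaliser of the Sylow 2-subgroup of the half, and by the normaliser
of each elementary abelian subgroup of order 64.
-/

set_option autoImplicit false
set_option linter.unusedSectionVars false

namespace CfsgLib.InvChar.SuzT

open Subgroup SuzType

/-- The parameters of a second element of the four group. -/
def pe : W × W := ((code 48).2, (code 16).2)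

set_option synthInstance.maxSize 2000 in
theorem pe_facts : ZP pe ∧ pe ≠ 0 ∧ pe ≠ tp ∧ pe + tp ≠ 0 ∧ ZP (pe + tp) ∧ mv pe = pe + tp ∧
    ∀ p, ZP p → p = 0 ∨ p = tp ∨ p = pe ∨ p = pe + tp := by
  decide +kernel

set_option synthInstance.maxSize 2000 in
theorem tp_sum : ∀ p : W × W, TP p → ZP p → p = 0 := by decide +kernel

variable {G : Type*} [Group G] [Finite G] {z u : G} {Q Q' : Subgroup G} {φ φ' : G → V}

/-- An element of the half rotating `z, u, zu`, and an involution fixed by it. -/
structure Rot (P : Pair z u Q Q' φ φ') (t : G) (K0 : Subgroup G) (o e : G) : Prop where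
  o_mem : o ∈ K0
  o_norm : o ∈ normalizer (X0g z u t : Set G)
  o_z : o * z * o⁻¹ = u
  o_u : o * u * o⁻¹ = z * u
  o_zu : o * (z * u) * o⁻¹ = z
  par : HasPar P e pe
  o_e : o * e = e * o

variable (P : Pair z u Q Q' φ φ') {t : G} (C : Ctx P t) {K0 : Subgroup G} (H : Half P t K0)
include P C H

theorem exists_rot_e : ∃ o e, Rot P t K0 o e := by
  obtain ⟨o, ho, hoN, hoz, hou, hozu⟩ := exists_rot P C H
  obtain ⟨g, hg⟩ := HasPar.exists_elt P pe
  have hg0 : g ∈ X0g z u t := (mem_X0_iff P C).2 ⟨pe, hg, pe_facts.1.1⟩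
  have hgc := (central_iff P C hg0 hg).2 pe_facts.1
  have step : ∀ n ∈ normalizer (X0g z u t : Set G), ∀ g' : G, HasPar P g' pe → ∀ q,
      HasPar P (n * g * n⁻¹) q → HasPar P (n * g' * n⁻¹) q := by
    intro n hn g' hg' q hq
    obtain ⟨i, j, rfl⟩ := eq_mul_cz P hg hg'
    have h := HasPar.mul P (HasPar.of_inR P (conj_inR P C H hn (P.inR_cz i j))) hq
    rw [zero_add] at h
    rwa [show n * (P.cz i j * g) * n⁻¹ = n * P.cz i j * n⁻¹ * (n * g * n⁻¹) by group]
  obtain ⟨hc1, hc2⟩ := conj_central P C H hoN hg0 hgc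
  obtain ⟨q, hq, hqC⟩ := (mem_X0_iff P C).1 hc1
  have hot : o * t * o⁻¹ = t := by
    rw [mem_centralizer_singleton_iff.1 (H.le ho), mul_inv_cancel_right]
  have hqe : q = pe := by
    rcases pe_facts.2.2.2.2.2.2 q ((central_iff P C hc1 hq).1 hc2) with e | e | e | e
    · exfalso
      rw [e] at hq
      have h1 := conj_inR P C H (inv_mem hoN) (HasPar.inR_of_zero P hq)
      rw [show o⁻¹ * (o * g * o⁻¹) * o⁻¹⁻¹ = g by group] at h1
      exact pe_facts.2.1 (HasPar.ext_par P hg (HasPar.of_inR P h1))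
    · exfalso
      rw [e] at hq
      have h := HasPar.mul P hq C.par
      rw [par_self] at h
      have h1 := conj_inR P C H (inv_mem hoN) (HasPar.inR_of_zero P h)
      rw [show o⁻¹ * (o * g * o⁻¹ * t) * o⁻¹⁻¹ = g * (o⁻¹ * t * o) by group,
        show o⁻¹ * t * o = o⁻¹ * (o * t * o⁻¹) * o by rw [hot], show o⁻¹ * (o * t * o⁻¹) * o = t by
          group] at h1
      refine pe_facts.2.2.2.1 (HasPar.ext_par P (HasPar.mul P hg C.par) (HasPar.of_inR P h1))
    · exact e
    · exfalso
      rw [e] at hq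
      have h2 : ∀ k : ℕ, HasPar P ((o * o) ^ k * g * ((o * o) ^ k)⁻¹) pe := by
        intro k
        induction k with
        | zero => simpa using hg
        | succ k ih =>
          have h1 : HasPar P (o * o * g * (o * o)⁻¹) pe := by
            have h := HasPar.mul P hq C.par
            rw [add_assoc, par_self, add_zero] at h
            have h' := HasPar.mul P (step o hoN _ h (pe + tp) hq) C.par
            rw [add_assoc, par_self, add_zero] at h'
            rw [show o * o * g * (o * o)⁻¹ = o * (o * g * o⁻¹ * t) * o⁻¹ * (o * t * o⁻¹)⁻¹ by group,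
              hot, inv_eq_of_mul_eq_one_right C.sq]
            exact h'
          have := step (o * o) (mul_mem hoN hoN) _ ih pe h1
          rwa [show o * o * ((o * o) ^ k * g * ((o * o) ^ k)⁻¹) * (o * o)⁻¹ =
            (o * o) ^ (k + 1) * g * ((o * o) ^ (k + 1))⁻¹ by
            rw [pow_succ', mul_inv_rev ((o * o)) ((o * o) ^ k)]; simp only [mul_assoc]] at this
      obtain ⟨r, ⟨k, rfl⟩, hrS⟩ := odd_pow P C H
      have hS := hrS o ho fun x hx => (mem_normalizer_iff.1 hoN x).1 hx
      have h3 := step o hoN _ (h2 k) (pe + tp) hq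
      rw [show o * ((o * o) ^ k * g * ((o * o) ^ k)⁻¹) * o⁻¹ =
          o ^ (2 * k + 1) * g * (o ^ (2 * k + 1))⁻¹ by
        rw [pow_succ', pow_mul, pow_two]; group] at h3
      have := HasPar.ext_par P h3 (X0_conj_par P C hS hg)
      exact pe_facts.2.2.1 (by
        have e2 : pe + (pe + tp) = pe + pe := by rw [this]
        rw [← add_assoc, par_self, zero_add] at e2
        exact absurd e2 (by decide +kernel))
  rw [hqe] at hq
  obtain ⟨r, hr, hrg⟩ : ∃ r, P.InR r ∧ o * g * o⁻¹ = g * r := by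
    refine ⟨g⁻¹ * (o * g * o⁻¹), HasPar.inR_of_zero P ?_, by group⟩
    have := HasPar.mul P (HasPar.inv P hg) hq
    rwa [par_self] at this
  have key : ∀ a, P.InR a → r * (o * a * o⁻¹) = a → ∃ o e, Rot P t K0 o e := by
    intro a ha hra
    refine ⟨o, g * a, ho, hoN, hoz, hou, hozu, ?_, ?_⟩
    · simpa using HasPar.mul P hg (HasPar.of_inR P ha)
    · rw [← mul_inv_eq_iff_eq_mul,
        show o * (g * a) * o⁻¹ = o * g * o⁻¹ * (o * a * o⁻¹) by group, hrg, mul_assoc, hra]
  have hzu2 : u * (z * u) = z := by rw [P.zu, ← mul_assoc, P.T.zz, one_mul]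
  rcases hr with e | e | e | e
  · exact key 1 (Or.inl rfl) (by rw [e]; group)
  · exact key u (Or.inr (Or.inr (Or.inl rfl))) (by rw [e, hou, ← mul_assoc, P.S.zz, one_mul])
  · exact key (z * u) (Or.inr (Or.inr (Or.inr rfl))) (by rw [e, hozu, P.zu])
  · exact key z (Or.inr (Or.inl rfl)) (by rw [e, hoz, mul_assoc, P.T.zz, mul_one])

variable {o e : G} (R : Rot P t K0 o e)
include R

theorem e_mem : e ∈ X0g z u t := (mem_X0_iff P C).2 ⟨pe, R.par, pe_facts.1.1⟩

theorem t_comm_o : o * t = t * o := mem_centralizer_singleton_iff.1 (H.le R.o_mem)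

theorem e_central : ∀ x ∈ X0g z u t, x * e = e * x :=
  (central_iff P C (e_mem P C H R) R.par).2 pe_facts.1

theorem t_central : ∀ x ∈ X0g z u t, x * t = t * x := fun _ hx => (mem_X0g.1 hx).2.1

theorem e_comm_t : e * t = t * e := t_central P C H R e (e_mem P C H R)

theorem e_sq : e * e = 1 := (sq_eq_one_iff P C R.par).2 (zp_facts pe pe_facts.1).1

/-- An element of the group `⟨z, u⟩` commuting with `o` is trivial. -/
theorem eq_one_of_inR {r : G} (hr : P.InR r) (hc : o * r = r * o) : r = 1 := by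
  rw [← mul_inv_eq_iff_eq_mul] at hc
  rcases hr with e | e | e | e
  · exact e
  · rw [e, R.o_z] at hc; exact absurd hc P.une
  · rw [e, R.o_u] at hc; exact absurd (mul_eq_right.1 hc) P.S.zne
  · rw [e, R.o_zu] at hc; exact absurd (mul_eq_left.1 hc.symm) P.T.zne

/-- `{1, t, e, et}`. -/
def Four (t e : G) (h1 : t * t = 1) (h2 : e * e = 1) (h3 : e * t = t * e) : Subgroup G where
  carrier := {g | g = 1 ∨ g = t ∨ g = e ∨ g = e * t}
  one_mem' := Or.inl rfl
  mul_mem' := by
    have a1 : e * (e * t) = t := by rw [← mul_assoc, h2, one_mul]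
    have a2 : e * t * t = e := by rw [mul_assoc, h1, mul_one]
    have a3 : t * (e * t) = e := by rw [← mul_assoc, ← h3, a2]
    have a4 : e * t * e = t := by rw [mul_assoc, ← h3, a1]
    have a5 : e * t * (e * t) = 1 := by rw [← mul_assoc, a4, h1]
    rintro a b (rfl | rfl | rfl | rfl) (rfl | rfl | rfl | rfl) <;>
      simp only [Set.mem_ofPred_eq, one_mul, mul_one, h1, h2, ← h3, a1, a2, a3, a4, a5, true_or, or_true]
  inv_mem' := by
    have a5 : e * t * (e * t) = 1 := by
      rw [← mul_assoc, mul_assoc e t e, ← h3, ← mul_assoc, h2, one_mul, h1]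
    rintro a (rfl | rfl | rfl | rfl)
    · exact Or.inl inv_one
    · exact Or.inr (Or.inl (inv_eq_of_mul_eq_one_right h1))
    · exact Or.inr (Or.inr (Or.inl (inv_eq_of_mul_eq_one_right h2)))
    · exact Or.inr (Or.inr (Or.inr (inv_eq_of_mul_eq_one_right a5)))

/-- The four group. -/
abbrev fourE : Subgroup G := Four t e C.sq (e_sq P C H R) (e_comm_t P C H R)

theorem par_four {f : G} (hf : f ∈ fourE P C H R) : f = 1 ∨ ∃ p, HasPar P f p ∧ ZP p ∧ p ≠ 0 := by
  rcases hf with rfl | rfl | rfl | rfl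
  · exact Or.inl rfl
  · exact Or.inr ⟨tp, C.par, zp_gens.2.1, zp_gens.2.2.2.2.2.2.2.2.2.2⟩
  · exact Or.inr ⟨pe, R.par, pe_facts.1, pe_facts.2.1⟩
  · exact Or.inr ⟨_, HasPar.mul P R.par C.par, pe_facts.2.2.2.2.1, pe_facts.2.2.2.1⟩

theorem four_le : fourE P C H R ≤ X0g z u t := by
  intro f hf
  rcases par_four P C H R hf with rfl | ⟨p, hp, hpz, -⟩
  · exact one_mem _
  · exact (mem_X0_iff P C).2 ⟨p, hp, hpz.1⟩

theorem four_central {f : G} (hf : f ∈ fourE P C H R) : ∀ x ∈ X0g z u t, x * f = f * x := by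
  rcases par_four P C H R hf with rfl | ⟨p, hp, hpz, -⟩
  · simp
  · exact (central_iff P C (four_le P C H R hf) hp).2 hpz

theorem four_comm_o {f : G} (hf : f ∈ fourE P C H R) : o * f = f * o := by
  have ht := t_comm_o P C H R
  rcases hf with rfl | rfl | rfl | rfl
  · simp
  · exact ht
  · exact R.o_e
  · rw [← mul_assoc, R.o_e, mul_assoc, ht, ← mul_assoc]

theorem four_sq {f : G} (hf : f ∈ fourE P C H R) : f * f = 1 := by
  rcases par_four P C H R hf with rfl | ⟨p, hp, hpz, -⟩
  · exact one_mul 1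
  · exact (sq_eq_one_iff P C hp).2 (zp_facts p hpz).1

theorem four_class {f : G} (hf : f ∈ fourE P C H R) (hf1 : f ≠ 1) : IsConj f t := by
  have hff := four_sq P C H R hf
  obtain ⟨p, hp, hpz, hp0⟩ := (par_four P C H R hf).resolve_left hf1
  refine (classes P C (orderOf_eq_prime (by rw [pow_two, hff]) hf1)).resolve_left fun h => ?_
  have := (conj_z_iff P C hp hff hf1).1 h
  rw [(zp_facts p hpz).2.2.1 hp0] at this
  exact absurd this (by decide)

theorem card_four : Nat.card (fourE P C H R) = 4 := by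
  classical
  have h : ∀ {g : G} {p q : W × W}, HasPar P g p → HasPar P g q → p = q :=
    fun h1 h2 => HasPar.ext_par P h1 h2
  have n1 : t ≠ 1 := t_ne P C
  have n2 : e ≠ 1 := fun h' => pe_facts.2.1 (h R.par (h' ▸ HasPar.one P))
  have n3 : e ≠ t := fun h' => pe_facts.2.2.1 (h R.par (h' ▸ C.par))
  have n4 : e * t ≠ 1 := fun h' =>
    pe_facts.2.2.2.1 (h (HasPar.mul P R.par C.par) (h' ▸ HasPar.one P))
  have hs : ((fourE P C H R : Subgroup G) : Set G) = ↑({1, t, e, e * t} : Finset G) := by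
    ext g; simp [Four]
  rw [← SetLike.coe_sort_coe, hs, Nat.card_coe_set_eq, Set.ncard_coe_finset]
  rw [Finset.card_insert_of_notMem, Finset.card_insert_of_notMem, Finset.card_insert_of_notMem,
    Finset.card_singleton]
  · simp only [Finset.mem_singleton]
    exact fun h' => n1 (mul_eq_left.1 h'.symm)
  · simp only [Finset.mem_insert, Finset.mem_singleton, not_or]
    exact ⟨n3.symm, fun h' => n2 (mul_eq_right.1 h'.symm)⟩
  · simp only [Finset.mem_insert, Finset.mem_singleton, not_or]
    exact ⟨n1.symm, n2.symm, n4.symm⟩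

/-- What a normaliser of the Sylow 2-subgroup does to the four group: nothing. -/
theorem normalizer_fixes {n f : G} (hn : n ∈ K0) (hnN : n ∈ normalizer (X0g z u t : Set G))
    (hf : f ∈ fourE P C H R) : n * f * n⁻¹ = f := by
  have key : ∀ m ∈ K0, m * z * m⁻¹ = z → m * f = f * m := fun m hm e' =>
    four_central P C H R hf m (normalizer_fix P C H hm (mul_inv_eq_iff_eq_mul.1 e'))
  have hof := four_comm_o P C H R hf
  rw [mul_inv_eq_iff_eq_mul]
  rcases conj_three P C H hnN (Or.inr (Or.inl rfl)) P.S.zne with h | h | h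
  · exact key n hn h
  · have := key (o⁻¹ * n) (mul_mem (inv_mem R.o_mem) hn) (by
      rw [show o⁻¹ * n * z * (o⁻¹ * n)⁻¹ = o⁻¹ * (n * z * n⁻¹) * o by group, h, ← R.o_z]; group)
    calc n * f = o * (o⁻¹ * n * f) := by group
      _ = o * f * (o⁻¹ * n) := by rw [this, mul_assoc]
      _ = f * n := by rw [hof]; group
  · have := key (o * n) (mul_mem R.o_mem hn) (by
      rw [show o * n * z * (o * n)⁻¹ = o * (n * z * n⁻¹) * o⁻¹ by group, h, R.o_zu])
    refine mul_left_cancel (a := o) ?_
    rw [← mul_assoc, this, ← mul_assoc, ← hof, mul_assoc]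

end CfsgLib.InvChar.SuzT
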