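import Cfsg.Agent.Lib.InvChar.SuzT.DQuat

/-!
# The frame of the centraliser of a second-class involution
-/

set_option autoImplicit false

namespace CfsgLib.InvChar.SuzT

open Subgroup SuzType
open scoped commutatorElement

universe u

variable {G : Type u} [Group G] [Finite G] {z u : G} {Q Q' : Subgroup G} {φ φ' : G → V}

theorem exists_tframe (P : Pair z u Q Q' φ φ')
    (hcard : ∀ (d : G) (hdC : d ∈ centralizer ({z} : Set G)), orderOf d = 3 →
      Nat.card ↥⁅Q.subgroupOf (centralizer ({z} : Set G)),
          zpowers (⟨d, hdC⟩ : centralizer ({z} : Set G))⁆ = 8 →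
      ¬ IsMulCommutative ↥⁅Q.subgroupOf (centralizer ({z} : Set G)),
          zpowers (⟨d, hdC⟩ : centralizer ({z} : Set G))⁆ →
      Nat.card ↥(centralizer ({d} : Set G)) ≤ 9797760) :
    Nonempty (TFrame z) := by
  obtain ⟨t, C⟩ := exists_ctx P
  obtain ⟨E, σ, o, M⟩ := exists_mid P C
  obtain ⟨L, D⟩ := exists_comp P C M
  obtain ⟨d, hd3, hdL, hdE, hdt⟩ := exists_d P C M D
  have hd1 : d ≠ 1 := fun e => hdt (by rw [e]; group)
  have : Fact (Nat.Prime 3) := ⟨Nat.prime_three⟩
  obtain ⟨hdC, hd8, hdna⟩ := quat_facts P C M D hd3 hd1 hdL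
  have hσt : σ * t = t * σ := (mem_Xg.1 M.σ_X).2
  have hσE : σ ∉ centralizer (E : Set G) := fun h => M.σ_out (M.half.inter σ M.σ_X h)
  have := simple_L P C M D
  exact ⟨{
    t := t
    E := E
    L := L
    σ := σ
    d := d
    not_conj := t_not_z P C
    classes := fun x hx => SuzT.classes P C hx
    t_mem := M.t_mem
    t_ne := t_ne P C
    cardE := M.cardE
    sqE := M.sqE
    E_class := M.E_class
    z_mem := z_mem_L P C M D
    cardL := card_L P C M D
    simpleL := simple_L P C M D
    L_class := fun x hx ho => L_class P C M D hx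
      (by rw [← pow_two, ← ho, pow_orderOf_eq_one]) (fun e => by rw [e, orderOf_one] at ho; omega)
    L_self := fun x hx ho y hy h => L_self P C M D hx ho hy h
    L_norm := L_norm P C M D
    cent_E := D.cent_E
    comm := D.comm
    disj := D.disj
    σ_mem := hσt
    σ_move := M.σ_move
    cent_t := fun g hg => by
      by_cases hgE : g ∈ centralizer (E : Set G)
      · exact Or.inl hgE
      · refine Or.inr ?_
        rw [inv_eq_of_mul_eq_one_right M.σ_sq]
        exact mul_mem_half P C M.half hg hσt hgE hσE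
    outer := fun g hg hgE x hx ho => outer_cent P C M D hg hgE hx ho
    d_three := hd3
    d_comm := hdL
    d_norm := hdE
    d_move := hdt
    cz_seven := fun g hg => cz_no_seven P.S hg
    cz_five := fun y hyo hyz => card_cz_five P.S hyo hyz
    d_card := hcard d hdC (orderOf_eq_prime hd3 hd1) hd8 hdna }⟩

end CfsgLib.InvChar.SuzT
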