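import Cfsg.Agent.Lib.InvChar.SuzT.Par

/-!
# The centraliser of `z`, `u` and the standard involution `t`

It consists of the elements whose parameters satisfy two linear conditions, and has order 256. An
element of `C(z, t)` moves `u` to `u z` and acts on the parameters by `mv`.
-/

set_option autoImplicit false
set_option linter.unusedSectionVars false

namespace CfsgLib.InvChar.SuzT

open Subgroup SuzType

/-- The parameters of the standard involution. -/
def tp : W × W := (v0.2, w0.2)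

/-- The parameters of elements commuting with the standard involution. -/
def InC (p : W × W) : Prop :=
  bW p.1 v0.2 + bW p.1 w0.2 + bW v0.2 p.2 = 0 ∧ bW p.2 w0.2 + bW p.1 w0.2 + bW v0.2 p.2 = 0

instance : DecidablePred InC := fun p => by unfold InC; infer_instance

/-- The outer action on the parameters of the hyperbolic part and the anisotropic part. -/
def fW (x : W) : W := ((x.1.2, x.1.1), (x.2.1, x.2.1 + x.2.2))

/-- The action of an element of `C(z, t)` outside `C(u)`. -/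
def mv (p : W × W) : W × W := (fW (p.1 + p.2), fW p.2)

set_option synthInstance.maxSize 1000 in
theorem dual_surj : ∀ x y : W, bW x y = 1 → ∀ i j : ZMod 2,
    ∃ c : W, bW c x + bW c y = i ∧ bW c y = j := by
  unfold bW
  decide +kernel

set_option synthInstance.maxSize 1000 in
theorem pairWords_moveW : ∀ x y : W, qW x = 1 → qW y = 1 → bW x y = 1 →
    ∃ p ∈ pairWords, (wfun p ((0, 0), v0.2)).2 = x ∧ (wfun p ((0, 0), w0.2)).2 = y := by
  unfold qW bW
  decide +kernel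

theorem fW_spec : ∀ x : W, (wfun [(32, 20), (20, 12)] ((0, 0), x)).2 = fW x := by decide +kernel

theorem fW_good : GoodWord [(32, 20), (20, 12)] ∧ wfun [(32, 20), (20, 12)] e1 = e1 := by
  decide +kernel

theorem tp_facts : qW tp.1 = 1 ∧ qW tp.2 = 1 ∧ bW tp.1 tp.2 = 1 ∧ InC tp ∧ mv tp = tp := by
  unfold qW bW tp mv fW InC
  decide +kernel

variable {G : Type*} [Group G] [Finite G] {z u : G} {Q Q' : Subgroup G} {φ φ' : G → V}

/-- An involution with the parameters of the standard one. -/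
structure Ctx (P : Pair z u Q Q' φ φ') (t : G) : Prop where
  par : HasPar P t tp
  sq : t * t = 1

variable (P : Pair z u Q Q' φ φ')
include P

theorem exists_ctx : ∃ t : G, Ctx P t := by
  obtain ⟨a₀, ha, b₀, hb, hau, hbz, hv, hw⟩ := P.exists_std
  exact ⟨a₀ * b₀, ⟨a₀, ha, b₀, hb, hau, hbz, rfl, by rw [hv]; rfl, hw⟩,
    P.std_sq ha hau hb hbz hv hw⟩

theorem exists_rep {g : G} (h : HasPar P g tp) : ∃ a ∈ Q, ∃ b ∈ Q', a * u = u * a ∧ b * z = z * b ∧
    g = a * b ∧ φ a = v0 ∧ (P.ww b).2 = w0.2 := by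
  obtain ⟨a, ha, b, hb, hau, hbz, rfl, h1, h2⟩ := h
  rcases snd_congr (φ a) v0 ((P.comm_u ha).1 hau) base_facts.2.2.2.2.1 h1 with e | e
  · exact ⟨a, ha, b, hb, hau, hbz, rfl, e, h2⟩
  · refine ⟨a * u, mul_mem ha P.mem, u⁻¹ * b, mul_mem (inv_mem P.T.zQ) hb,
      mul_comm_z hau rfl, mul_comm_z (inv_comm_z P.zu.symm) hbz, by group, ?_, ?_⟩
    · rw [P.S.hadd a ha u P.mem, P.he, e, add_assoc, v_self, add_zero]
    · rw [P.ww_mul (inv_mem P.T.zQ) (inv_comm_z P.zu.symm) hb hbz, P.T.zinv,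
        P.ww_of_inR (Or.inr (Or.inr (Or.inl rfl))), zero_add, h2]
      rfl

/-- Two elements with the same parameters differ by the four group. -/
theorem eq_mul_cz {g g' : G} {p : W × W} (h : HasPar P g p) (h' : HasPar P g' p) :
    ∃ i j, g' = P.cz i j * g := by
  have h0 := HasPar.mul P h' (HasPar.inv P h)
  rw [show p + p = 0 from (by decide +kernel : ∀ x : W × W, x + x = 0) p] at h0
  obtain ⟨i, j, e⟩ := Pair.InR.exists_zp P (HasPar.inR_of_zero P h0)
  exact ⟨i, j, by rw [show P.cz i j = g' * g⁻¹ from e.symm, inv_mul_cancel_right]⟩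

/-- Elements with the same parameters, not orthogonal, are conjugate under `C_Q(u)`. -/
theorem conj_of_par {g g' : G} {p : W × W} (h : HasPar P g p) (h' : HasPar P g' p)
    (hp : bW p.1 p.2 = 1) : ∃ c, (∃ x, HasPar P c (x, 0)) ∧ c * g * c⁻¹ = g' := by
  obtain ⟨i, j, rfl⟩ := eq_mul_cz P h h'
  obtain ⟨x, hx1, hx2⟩ := dual_surj p.1 p.2 hp i j
  obtain ⟨c, hc⟩ := HasPar.exists_elt P (x, 0)
  refine ⟨c, ⟨x, hc⟩, ?_⟩
  have hrel := HasPar.rel P hc h
  have h0 : ∀ y : W, bW y 0 = 0 ∧ bW 0 y = 0 := by unfold bW; decide +kernel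
  simp only [Pair.Rel, (h0 p.1).1, (h0 p.2).2, add_zero, zero_add] at hrel
  rw [hx1, hx2] at hrel
  rw [hrel]; group

theorem par_conj {g h : G} {p : W × W} (hg : HasPar P g p) (hh : h * z = z * h) (hu : h * u = u * h) :
    HasPar P (h * g * h⁻¹)
      ((act Q φ h ((0, 0), p.1)).2, (act Q φ h ((0, 0), p.2)).2) := by
  obtain ⟨a, ha, b, hb, hau, hbz, rfl, h1, h2⟩ := hg
  obtain ⟨hb1, hbz1, hw1⟩ := P.conj_N hh hu hb hbz
  refine ⟨h * a * h⁻¹, P.S.norm hh ha, h * b * h⁻¹, hb1,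
    mul_comm_z (mul_comm_z hu hau) (inv_comm_z hu), hbz1, by group, ?_, ?_⟩
  · rw [← P.S.act_phi hh ha, P.act_snd hh hu ((P.comm_u ha).1 hau) (emb_perp p.1) h1]
  · rw [hw1, P.act_snd hh hu (P.ww_perp hb hbz) (emb_perp p.2) h2]

variable {t : G} (C : Ctx P t)
include C

/-- A non-orthogonal involution is conjugate to the standard one in `C(z)`. -/
theorem exists_conj_t {g : G} {p : W × W} (h : HasPar P g p) (hgg : g * g = 1)
    (hp : bW p.1 p.2 = 1) : ∃ k : G, k * z = z * k ∧ k * g * k⁻¹ = t := by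
  have hs := HasPar.sq P h
  rw [hgg, hp] at hs
  obtain ⟨h1, h2⟩ := P.cz_eq_one hs.symm
  have one_of : ∀ a : ZMod 2, a + 1 = 0 → a = 1 := by decide
  obtain ⟨w, hw, hw1, hw2⟩ := pairWords_moveW _ _ (one_of _ h1) (one_of _ h2) hp
  obtain ⟨hgood, hfix⟩ := pairWords_good w hw
  obtain ⟨k, hk, hk'⟩ := P.S.exists_word w hgood
  obtain ⟨k₁, hk₁, hku, hk₁'⟩ := P.exists_fix hk (by rw [hk', hfix])
  have ht := par_conj P C.par hk₁ hku
  rw [hk₁', hk', hk₁', hk', show tp.1 = v0.2 from rfl, show tp.2 = w0.2 from rfl, hw1, hw2] at ht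
  obtain ⟨c, ⟨x, hc⟩, e⟩ := conj_of_par P ht h hp
  refine ⟨(c * k₁)⁻¹, inv_comm_z (mul_comm_z (HasPar.comm_z P hc) hk₁), ?_⟩
  rw [← e]; group

/-- The conditions for commuting with `t`. -/
theorem comm_iff {g : G} {p : W × W} (h : HasPar P g p) : g * t = t * g ↔ InC p := by
  have hrel := HasPar.rel P h C.par
  rw [Pair.Rel] at hrel
  constructor
  · intro e
    rw [e] at hrel
    exact P.cz_eq_one (mul_eq_right.1 hrel.symm)
  · intro e
    rw [show bW p.1 tp.1 + bW p.1 tp.2 + bW tp.1 p.2 = 0 from e.1,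
      show bW p.2 tp.2 + bW p.1 tp.2 + bW tp.1 p.2 = 0 from e.2, P.cz_zero, one_mul] at hrel
    exact hrel

/-- `C(z, u, t)`. -/
theorem mem_X0 {g : G} (hz : g * z = z * g) (hu : g * u = u * g) (ht : g * t = t * g) :
    ∃ p, HasPar P g p ∧ InC p := by
  obtain ⟨a₀, ha, b₀, hb, hau, hbz, e, hv, hw⟩ := exists_rep P C.par
  obtain ⟨a, ha', b, hb', hau', hbz', rfl⟩ :=
    P.cent_decomp ha hau hb hbz hv hw hz hu (e ▸ ht)
  have h : HasPar P (a * b) ((φ a).2, (P.ww b).2) := ⟨a, ha', b, hb', hau', hbz', rfl, rfl, rfl⟩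
  exact ⟨_, h, (comm_iff P C h).1 ht⟩

/-- An element of `C(z, t)` not centralising `u` exists. -/
theorem exists_outer : ∃ w : G, w * z = z * w ∧ w * t = t * w ∧ w * u * w⁻¹ = u * z ∧
    ∀ g p, HasPar P g p → HasPar P (w * g * w⁻¹) (mv p) := by
  obtain ⟨k, hk, hk'⟩ := P.S.exists_word _ fW_good.1
  obtain ⟨k₁, hk₁, hku, hk₁'⟩ := P.exists_fix hk (by rw [hk', fW_good.2])
  have hy := P.S.commQ P.yv_mem
  have hconj : ∀ g p, HasPar P g p → HasPar P (k₁ * (P.yv * g * P.yv⁻¹) * k₁⁻¹) (mv p) := by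
    rintro g p ⟨a, ha, b, hb, hau, hbz, rfl, h1, h2⟩
    have hya : P.yv * a * P.yv⁻¹ ∈ Q := P.S.norm hy ha
    have hyb : HasPar P (P.yv * (a * b) * P.yv⁻¹) (p.1 + p.2, p.2) := by
      refine ⟨P.yv * a * P.yv⁻¹ * (P.yv * b * P.yv⁻¹ * b⁻¹), mul_mem hya (P.cc_mem hbz), b, hb,
        mul_comm_z ?_ (P.cc_u hb hbz), hbz, by group, ?_, h2⟩
      · refine (P.comm_u hya).2 ?_
        rw [← P.S.act_phi hy ha, P.S.act_of_mem P.yv_mem, (P.comm_u ha).1 hau]
      · rw [P.S.hadd _ hya _ (P.cc_mem hbz), ← P.S.act_phi hy ha, P.S.act_of_mem P.yv_mem,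
          P.cc_phi hbz, Prod.snd_add, h1, h2]
    have := par_conj P hyb hk₁ hku
    rwa [hk₁', hk', hk₁', hk', fW_spec, fW_spec] at this
  have ht := hconj t tp C.par
  rw [tp_facts.2.2.2.2] at ht
  obtain ⟨c, ⟨x, hc⟩, e⟩ := conj_of_par P ht C.par tp_facts.2.2.1
  have hcz := HasPar.comm_z P hc
  refine ⟨c * k₁ * P.yv, mul_comm_z (mul_comm_z hcz hk₁) hy, ?_, ?_, ?_⟩
  · rw [← mul_inv_eq_iff_eq_mul]
    conv_rhs => rw [← e]
    group
  · have hk₁u : k₁ * u * k₁⁻¹ = u := by rw [hku, mul_inv_cancel_right]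
    calc c * k₁ * P.yv * u * (c * k₁ * P.yv)⁻¹ = c * (k₁ * (P.yv * u * P.yv⁻¹) * k₁⁻¹) * c⁻¹ := by
          group
      _ = c * (k₁ * u * k₁⁻¹ * (k₁ * z * k₁⁻¹)) * c⁻¹ := by rw [P.y_u]; group
      _ = c * (u * z) * c⁻¹ := by rw [hk₁u, P.S.conjZ hk₁]
      _ = u * z := by
        rw [← mul_assoc c u z, HasPar.comm_u P hc, mul_assoc u c z, hcz]; group
  · intro g p hg
    have h := HasPar.mul P (HasPar.mul P hc (hconj g p hg)) (HasPar.inv P hc)
    rw [show (x, (0 : W)) + mv p + (x, 0) = mv p by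
      have : ∀ q : W × W, q + q = 0 := by decide +kernel
      rw [add_comm (x, (0 : W)), add_assoc, this, add_zero]] at h
    rw [show c * k₁ * P.yv * g * (c * k₁ * P.yv)⁻¹ = c * (k₁ * (P.yv * g * P.yv⁻¹) * k₁⁻¹) * c⁻¹ by
      group]
    exact h

end CfsgLib.InvChar.SuzT
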