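import Cfsg.Agent.Lib.InvChar.SuzT.Outer
import Mathlib.GroupTheory.Transfer

/-!
# The subgroup of index two in `C(t)`

No involution of `C(z, t)` outside `C(u)` is conjugate in `C(t)` into `C(z, u, t)`; the transfer to
`C(z,t)/C(z,u,t)` is therefore onto, and trivial on `C(z, u, t)`.
-/

set_option autoImplicit false
set_option linter.unusedSectionVars false

namespace CfsgLib.InvChar.SuzT

open Subgroup SuzType MulAction

/-- Transfer to a quotient of order two: an element all of whose conjugates in the Sylow subgroup are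
outside, and an involution all of whose conjugates in it are inside. -/
theorem transfer_two {K : Type*} [Group K] [Finite K] (P : Sylow 2 K) {Q : Subgroup K}
    (hQ : Q.relIndex (P : Subgroup K) = 2) :
    ∃ τ : K →* Multiplicative (ZMod 2),
      (∀ x : K, x * x = 1 → (∀ g : K, g⁻¹ * x * g ∈ (P : Subgroup K) → g⁻¹ * x * g ∈ Q) → τ x = 1) ∧
      ∀ x : K, x * x = 1 → (∀ g : K, g⁻¹ * x * g ∉ Q) → τ x ≠ 1 := by
  classical
  set Q' : Subgroup (P : Subgroup K) := Q.subgroupOf (P : Subgroup K)
  have hQi : Q'.index = 2 := hQ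
  let f : (P : Subgroup K) →* Multiplicative (ZMod 2) :=
    { toFun := fun x => Multiplicative.ofAdd (if x ∈ Q' then 0 else 1)
      map_one' := by simp
      map_mul' := fun a b => by
        have := Subgroup.mul_mem_iff_of_index_two hQi (a := a) (b := b)
        by_cases ha : a ∈ Q' <;> by_cases hb : b ∈ Q' <;> simp [ha, hb, this, ← ofAdd_add] <;> rfl }
  have hfQ : ∀ x : (P : Subgroup K), f x = 1 ↔ (x : K) ∈ Q := fun x => by
    by_cases hx : x ∈ Q'
    · simp [f, hx, show (x : K) ∈ Q from hx]
    · simp [f, hx, show (x : K) ∉ Q from hx]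
  have two : ∀ a : Multiplicative (ZMod 2), a = 1 ∨ a = Multiplicative.ofAdd 1 := by decide
  have key : ∀ x : K, x * x = 1 → ∀ v : Multiplicative (ZMod 2),
      (∀ (g : K) (h : g⁻¹ * x * g ∈ (P : Subgroup K)), f ⟨g⁻¹ * x * g, h⟩ = v) →
      MonoidHom.transfer f x = v ^ (P : Subgroup K).index := by
    intro x hx v hv
    let _ : Fintype (Quotient (orbitRel (zpowers x) (K ⧸ (P : Subgroup K)))) := Fintype.ofFinite _
    rw [MonoidHom.transfer_eq_prod_quotient_orbitRel_zpowers_quot,
      index_eq_sum_minimalPeriod (P : Subgroup K) x, ← Finset.prod_pow_eq_pow_sum]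
    refine Finset.prod_congr rfl fun q _ => ?_
    have hm : Function.minimalPeriod (x • ·) q.out ∣ 2 := by
      apply Function.IsPeriodicPt.minimalPeriod_dvd
      change ((x • ·)^[2]) q.out = q.out
      rw [smul_iterate, pow_two, hx]
      exact one_smul _ _
    have hmem := QuotientGroup.out_conj_pow_minimalPeriod_mem (P : Subgroup K) x q.out
    rcases (Nat.dvd_prime Nat.prime_two).1 hm with e | e
    · simp only [e, pow_one] at hmem ⊢
      exact hv _ hmem
    · have e1 : q.out.out⁻¹ * x ^ Function.minimalPeriod (x • ·) q.out * q.out.out = 1 := by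
        rw [e, pow_two, hx, mul_one, inv_mul_cancel]
      rw [show (⟨_, hmem⟩ : (P : Subgroup K)) = 1 from Subtype.ext e1, map_one, e]
      rcases two v with rfl | rfl <;> decide
  obtain ⟨j, hj⟩ : Odd (P : Subgroup K).index :=
    Nat.not_even_iff_odd.1 fun h => P.not_dvd_index (even_iff_two_dvd.1 h)
  refine ⟨MonoidHom.transfer f, fun x hx h => ?_, fun x hx h => ?_⟩
  · rw [key x hx 1 fun g hg => (hfQ _).2 (h g hg), one_pow]
  · rw [key x hx (Multiplicative.ofAdd 1) fun g hg =>
      (two _).resolve_left fun e => h g ((hfQ _).1 e), hj, pow_succ, pow_mul,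
      show (Multiplicative.ofAdd (1 : ZMod 2)) ^ 2 = 1 by decide, one_pow, one_mul]
    decide

set_option synthInstance.maxSize 1000 in
theorem span_par_aux : ∀ p : W × W, InC p → ∃ a b c d e f : ZMod 2,
    p = a • (((code 4).2, 0) : W × W) + b • (((code 8).2, 0) : W × W) + c • ((0, (code 4).2) : W × W) +
      d • ((0, (code 8).2) : W × W) + e • (((code 48).2, (code 16).2) : W × W) +
      f • (((code 32).2, (code 48).2) : W × W) := by
  unfold InC bW
  decide +kernel

theorem inC_add (p q : W × W) (hp : InC p) (hq : InC q) : InC (p + q) := by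
  obtain ⟨a, b⟩ := hp
  obtain ⟨c, d⟩ := hq
  simp only [InC, Prod.fst_add, Prod.snd_add, bW_add_left, bW_add_right]
  exact ⟨by linear_combination a + c, by linear_combination b + d⟩

theorem mult_two : ∀ a : Multiplicative (ZMod 2), a = 1 ∨ a = Multiplicative.ofAdd 1 := by decide

theorem zero_inC : InC (0 : W × W) := by decide +kernel

theorem par_self : ∀ x : W × W, x + x = 0 := by decide +kernel

/-- Whether the parameters are those of involutions of `C(z, u, t)`. -/
def IGen (q : W × W) : Prop :=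
  InC q ∧ qW q.1 + bW q.1 q.2 = 0 ∧ qW q.2 + bW q.1 q.2 = 0

theorem igen_facts : IGen (((code 4).2, 0) : W × W) ∧ IGen (((code 8).2, 0) : W × W) ∧
    IGen ((0, (code 4).2) : W × W) ∧ IGen ((0, (code 8).2) : W × W) ∧
    IGen (((code 48).2, (code 16).2) : W × W) ∧ IGen (((code 32).2, (code 48).2) : W × W) := by
  unfold IGen InC qW bW
  decide +kernel

variable {G : Type*} [Group G] [Finite G] {z u : G} {Q Q' : Subgroup G} {φ φ' : G → V}
  (P : Pair z u Q Q' φ φ') {t : G} (C : Ctx P t)
include P C

/-- The 2-subgroups centralising an outer involution and `t` have order at most 32. -/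
theorem card_le_of_outer {s : G} (hs : s ∈ Xg z t) (hs0 : s ∉ X0g z u t) (hss : s * s = 1)
    {R : Subgroup G} (hR : IsPGroup 2 R) (hRle : R ≤ centralizer ({t} : Set G) ⊓ centralizer ({s} : Set G)) :
    Nat.card R ≤ 32 := by
  have : Fact (Nat.Prime 2) := ⟨Nat.prime_two⟩
  set CK := centralizer ({t} : Set G) ⊓ centralizer ({s} : Set G)
  set T := Xg z t ⊓ centralizer ({s} : Set G) with hT
  have hTle : T ≤ CK := inf_le_inf_right _ inf_le_right
  have hidx := relIndex_X0 P C
  have hsplit : ∀ h ∈ T, h ∈ X0g z u t ∨ h * s ∈ X0g z u t := by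
    intro h hh
    by_contra hno
    push Not at hno
    refine hno.2 ?_
    have := (Subgroup.mul_mem_iff_of_index_two hidx (a := (⟨h, hh.1⟩ : Xg z t)) (b := ⟨s, hs⟩)).2
    simp only [mem_subgroupOf] at this
    exact this ⟨fun a => absurd a hno.1, fun a => absurd a hs0⟩
  have hsq : ∀ h ∈ T, h * h = 1 ∨ h * h = z := by
    intro h hh
    have hc : h * s = s * h := mem_centralizer_singleton_iff.1 hh.2
    rcases hsplit h hh with a | a
    · exact fixed_sq P C hs hs0 hss a hc
    · have := fixed_sq P C hs hs0 hss a (by rw [mul_assoc, hss, mul_one, ← mul_assoc, ← hc, mul_assoc, hss, mul_one])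
      rwa [show h * s * (h * s) = h * h * (s * s) by rw [mul_assoc h s, ← mul_assoc s h, ← hc]; group,
        hss, mul_one] at this
  obtain ⟨g, h, hg, hgs, hh, hhs, hgh⟩ := z_commutator P C hs hs0 hss
  have hex : ∃ x ∈ T, x * x = z := by
    by_contra hno
    push Not at hno
    have one : ∀ x ∈ T, x⁻¹ = x := fun x hx =>
      inv_eq_of_mul_eq_one_right ((hsq x hx).resolve_right (hno x hx))
    have hgT : g ∈ T := ⟨hg.1, mem_centralizer_singleton_iff.2 hgs⟩
    have hhT : h ∈ T := ⟨hh.1, mem_centralizer_singleton_iff.2 hhs⟩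
    rw [one g hgT, one h hhT, mul_assoc (g * h),
      ((hsq _ (mul_mem hgT hhT)).resolve_right (hno _ (mul_mem hgT hhT)))] at hgh
    exact P.S.zne hgh.symm
  obtain ⟨x, hx, hxx⟩ := hex
  have hTp : IsPGroup 2 T := (isSylow_X P C).1.to_le inf_le_left
  have hTS : ¬ 2 ∣ T.relIndex CK := by
    obtain ⟨S, hS⟩ := (hTp.comap_of_injective CK.subtype (subtype_injective _)).exists_le_sylow
    have hS' : T.subgroupOf CK = S := by
      refine le_antisymm hS ?_
      by_contra hlt
      set T' := T.subgroupOf CK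
      have hTS : T'.subgroupOf (S : Subgroup _) < ⊤ := lt_top_iff_ne_top.2 fun e => hlt fun y hy => by
        have : (⟨y, hy⟩ : (S : Subgroup _)) ∈ T'.subgroupOf (S : Subgroup _) := e ▸ mem_top _
        exact this
      have := S.2.isNilpotent
      obtain ⟨n, hn, hnT⟩ := SetLike.exists_of_lt (Group.normalizerCondition_of_isNilpotent _ hTS)
      refine hnT ?_
      obtain ⟨nt, hnt⟩ : ∃ y : G, y = ((n : CK) : G) := ⟨_, rfl⟩
      have hnK : nt ∈ CK := hnt ▸ (n : CK).2
      have hnx : nt * x * nt⁻¹ ∈ T := by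
        have hxS : (⟨x, hTle hx⟩ : CK) ∈ (S : Subgroup _) := hS hx
        have := (mem_normalizer_iff.1 hn ⟨_, hxS⟩).1 (show x ∈ T from hx)
        simpa [hnt, T', mem_subgroupOf] using this
      have hnz : nt * z * nt⁻¹ = z := by
        have e : nt * x * nt⁻¹ * (nt * x * nt⁻¹) = nt * z * nt⁻¹ := by rw [← hxx]; group
        rcases hsq _ hnx with e' | e'
        · exact absurd (conj_eq_one_iff.1 (e.symm.trans e')) P.S.zne
        · rw [← e, e']
      show ((n : CK) : G) ∈ T
      rw [← hnt]
      exact ⟨mem_Xg.2 ⟨by rwa [← mul_inv_eq_iff_eq_mul], mem_centralizer_singleton_iff.1 hnK.1⟩, hnK.2⟩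
    show ¬ 2 ∣ (T.subgroupOf CK).index
    rw [hS']
    exact S.not_dvd_index
  have hT32 : Nat.card T ≤ 32 := by
    classical
    let F : T → ↥(X0g z u t ⊓ centralizer ({s} : Set G)) × Bool := fun y =>
      if h0 : (y : G) ∈ X0g z u t then (⟨y, h0, y.2.2⟩, true)
      else (⟨(y : G) * s, (hsplit y y.2).resolve_left h0, mul_mem y.2.2 (mem_centralizer_singleton_iff.2 rfl)⟩, false)
    have hF : Function.Injective F := fun y y' e => by
      simp only [F] at e
      split_ifs at e with h1 h2 h2 <;> simp only [Prod.mk.injEq, Subtype.mk.injEq] at e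
      · exact Subtype.ext (congrArg Subtype.val e.1 :)
      · exact absurd e.2 (by decide)
      · exact absurd e.2 (by decide)
      · exact Subtype.ext (mul_right_cancel (congrArg Subtype.val e.1 :))
    have := Nat.card_le_card_of_injective F hF
    rw [Nat.card_prod, Nat.card_eq_fintype_card (α := Bool), Fintype.card_bool] at this
    have := card_fixed_le P C hs hs0 hss
    omega
  have hdvd : Nat.card R ∣ Nat.card T * T.relIndex CK := by
    have := (T.subgroupOf CK).card_mul_index
    rw [Nat.card_congr (subgroupOfEquivOfLe hTle).toEquiv] at this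
    rw [relIndex, this]
    exact card_dvd_of_le hRle
  obtain ⟨n, hn⟩ := hR.exists_card_eq
  rw [hn] at hdvd ⊢
  exact le_trans (Nat.le_of_dvd Nat.card_pos
    (((Nat.prime_two.coprime_iff_not_dvd.2 hTS).pow_left n).dvd_of_dvd_mul_right hdvd)) hT32

theorem outer_not_conj {s : G} (hs : s ∈ Xg z t) (hs0 : s ∉ X0g z u t) (hss : s * s = 1)
    {g : G} (hg : g * t = t * g) : g * s * g⁻¹ ∉ X0g z u t := by
  intro h
  obtain ⟨R, hR⟩ : ∃ R : Subgroup G, R = (X0g z u t ⊓ centralizer ({g * s * g⁻¹} : Set G)).map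
      (MulAut.conj g⁻¹).toMonoidHom := ⟨_, rfl⟩
  have hRp : IsPGroup 2 R := hR ▸ ((isSylow_X P C).1.to_le
    ((inf_le_left).trans inf_le_left)).map _
  have hle : R ≤ centralizer ({t} : Set G) ⊓ centralizer ({s} : Set G) := by
    rw [hR]
    rintro _ ⟨y, hy, rfl⟩
    have hys : y * (g * s * g⁻¹) = g * s * g⁻¹ * y := mem_centralizer_singleton_iff.1 hy.2
    have hyt := (mem_X0g.1 hy.1).2.1
    simp only [MulEquiv.coe_toMonoidHom, MulAut.conj_apply, inv_inv, mem_inf,
      mem_centralizer_singleton_iff]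
    constructor
    · exact (((show Commute g t from hg).inv_left.mul_left (show Commute y t from hyt)).mul_left
        (show Commute g t from hg)).eq
    · calc g⁻¹ * y * g * s = g⁻¹ * (y * (g * s * g⁻¹)) * g := by group
        _ = s * (g⁻¹ * y * g) := by rw [hys]; group
  have h64 := card_centralizer_ge P C h
  have := card_le_of_outer P C hs hs0 hss hRp hle
  rw [hR, card_map_of_injective (MulAut.conj g⁻¹).injective] at this
  omega

theorem span_par : ∀ p : W × W, InC p → ∃ a b c d e f : ZMod 2,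
    p = a • (((code 4).2, 0) : W × W) + b • (((code 8).2, 0) : W × W) + c • ((0, (code 4).2) : W × W) +
      d • ((0, (code 8).2) : W × W) + e • (((code 48).2, (code 16).2) : W × W) +
      f • (((code 32).2, (code 48).2) : W × W) :=
  span_par_aux

/-- The subgroup of index two. -/
theorem exists_K0 : ∃ K0 : Subgroup G, K0 ≤ centralizer ({t} : Set G) ∧
    K0.relIndex (centralizer ({t} : Set G)) = 2 ∧ X0g z u t ≤ K0 ∧
    ∀ h ∈ Xg z t, h ∈ K0 → h ∈ X0g z u t := by
  have : Fact (Nat.Prime 2) := ⟨Nat.prime_two⟩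
  set K := centralizer ({t} : Set G)
  obtain ⟨hXp, hXi⟩ := isSylow_X P C
  obtain ⟨PS, hPS⟩ : ∃ PS : Sylow 2 K, (PS : Subgroup K) = (Xg z t).subgroupOf K := by
    obtain ⟨S, hS⟩ := (hXp.comap_of_injective K.subtype (subtype_injective _)).exists_le_sylow
    refine ⟨S, le_antisymm ?_ hS⟩
    by_contra hlt
    have hd : ((Xg z t).subgroupOf K).relIndex (S : Subgroup K) ∣ ((Xg z t).subgroupOf K).index :=
      relIndex_dvd_index_of_le hS
    obtain ⟨m, hm⟩ := IsPGroup.index (S.2) (((Xg z t).subgroupOf K).subgroupOf (S : Subgroup K))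
    rcases Nat.eq_zero_or_pos m with rfl | hm0
    · exact hlt (relIndex_eq_one.1 hm)
    · exact hXi ((dvd_pow_self 2 hm0.ne').trans (hm ▸ hd))
  have hX0K : X0g z u t ≤ K := inf_le_left.trans inf_le_right
  obtain ⟨τ, hτ0, hτ1⟩ := transfer_two PS (Q := (X0g z u t).subgroupOf K) (by
    rw [hPS]
    show ((X0g z u t).comap K.subtype).relIndex ((Xg z t).comap K.subtype) = 2
    rw [relIndex_comap, map_comap_eq, range_subtype, inf_eq_right.2 (show Xg z t ≤ K from inf_le_right)]
    exact relIndex_X0 P C)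
  obtain ⟨s, hs, hs0, hss⟩ := exists_outer_invol P C
  have hτs : τ ⟨s, inf_le_right (a := centralizer ({z} : Set G)) hs⟩ ≠ 1 := hτ1 _ (Subtype.ext hss) (fun g hg => by
    refine outer_not_conj P C hs hs0 hss (g := (g : G)⁻¹) ?_ (by simpa [mem_subgroupOf] using hg)
    exact ((show Commute (g : G) t from mem_centralizer_singleton_iff.1 g.2).inv_left).eq)
  have hX0le : X0g z u t ≤ τ.ker.map K.subtype := by
      have hinv : ∀ x ∈ X0g z u t, x * x = 1 → x ∈ τ.ker.map K.subtype := by
        intro x hx hxx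
        refine ⟨⟨x, hX0K hx⟩, hτ0 _ (Subtype.ext hxx) fun g hg => ?_, rfl⟩
        by_contra hno
        rw [hPS, mem_subgroupOf] at hg
        rw [mem_subgroupOf] at hno
        refine outer_not_conj P C hg hno ?_ (g := (g : G)) (mem_centralizer_singleton_iff.1 g.2) ?_
        · simp only [Subgroup.coe_mul, InvMemClass.coe_inv]
          rw [show (g : G)⁻¹ * x * g * ((g : G)⁻¹ * x * g) = (g : G)⁻¹ * (x * x) * g by group, hxx]; group
        · simpa [mul_assoc] using hx
      intro x hx
      obtain ⟨p, hp, hpC⟩ := (mem_X0_iff P C).1 hx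
      set K0 := τ.ker.map K.subtype
      let S : Set (W × W) := {p | InC p ∧ ∀ g, HasPar P g p → g ∈ K0}
      have h0 : (0 : W × W) ∈ S := ⟨zero_inC, fun g hg => by
        have hgX : g ∈ X0g z u t := (mem_X0_iff P C).2 ⟨0, hg, zero_inC⟩
        refine hinv g hgX ?_
        rcases HasPar.inR_of_zero P hg with e | e | e | e <;> rw [e]
        · exact one_mul 1
        · exact P.S.zz
        · exact P.T.zz
        · rw [mul_assoc, ← mul_assoc u, ← P.zu, mul_assoc z u u, P.T.zz, mul_one, P.S.zz]⟩
      have hadd : ∀ p q, p ∈ S → q ∈ S → p + q ∈ S := by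
        intro p q hp hq
        refine ⟨inC_add _ _ hp.1 hq.1, fun g hg => ?_⟩
        obtain ⟨a, ha⟩ := HasPar.exists_elt P p
        have h2 := HasPar.mul P (HasPar.inv P ha) hg
        rw [← add_assoc, show p + p = 0 from par_self p, zero_add] at h2
        rw [show g = a * (a⁻¹ * g) by group]
        exact mul_mem (hp.2 a ha) (hq.2 _ h2)
      have hgen : ∀ q : W × W, IGen q → ∀ a : ZMod 2, a • q ∈ S := by
        rintro q ⟨hq, e1, e2⟩ a
        rcases z2_cases' a with rfl | rfl
        · rw [zero_smul]; exact h0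
        · rw [one_smul]
          refine ⟨hq, fun g hg => hinv g ((mem_X0_iff P C).2 ⟨q, hg, hq⟩) ?_⟩
          rw [HasPar.sq P hg, e1, e2, P.cz_zero]
      obtain ⟨a, b, c, d, e, f, rfl⟩ := span_par P C p hpC
      obtain ⟨g1, g2, g3, g4, g5, g6⟩ := igen_facts
      exact (hadd _ _ (hadd _ _ (hadd _ _ (hadd _ _ (hadd _ _ (hgen _ g1 a) (hgen _ g2 b))
        (hgen _ g3 c)) (hgen _ g4 d)) (hgen _ g5 e)) (hgen _ g6 f)).2 x hp
  refine ⟨τ.ker.map K.subtype, map_subtype_le _, ?_, hX0le, ?_⟩
  · rw [relIndex, subgroupOf, comap_map_eq_self_of_injective (subtype_injective _), index_ker]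
    have : τ.range = ⊤ := eq_top_iff.2 fun x _ => by
      have two := mult_two
      rcases two x with rfl | rfl
      · exact one_mem _
      · exact ⟨_, (two _).resolve_left hτs⟩
    rw [this, card_top]; simp
  · intro h hh hK
    by_contra hno
    have hidx := relIndex_X0 P C
    have hsh : h * s ∈ X0g z u t := by
      have := (Subgroup.mul_mem_iff_of_index_two hidx (a := (⟨h, hh⟩ : Xg z t)) (b := ⟨s, hs⟩)).2
      simp only [mem_subgroupOf] at this
      exact this ⟨fun a => absurd a hno, fun a => absurd a hs0⟩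
    obtain ⟨y, hy, hyv⟩ := hK
    obtain ⟨y', hy', hyv'⟩ := hX0le hsh
    refine hτs ?_
    have e : (⟨s, inf_le_right (a := centralizer ({z} : Set G)) hs⟩ : K) = y⁻¹ * y' := Subtype.ext (by
      show s = (y : G)⁻¹ * (y' : G)
      rw [show (y : G) = h from hyv, show (y' : G) = h * s from hyv', inv_mul_cancel_left])
    rw [e, map_mul, map_inv, show τ y = 1 from hy, show τ y' = 1 from hy', inv_one, one_mul]

end CfsgLib.InvChar.SuzT
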