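import Cfsg.Agent.Lib.InvChar.SuzT.Split

/-!
# The complement `L` is simple

Its involutions form one class. In a normal subgroup with more than one class of them the normaliser
of an elementary abelian subgroup of order 16 would have three orbits of length five.
-/

set_option autoImplicit false
set_option linter.unusedSectionVars false

namespace CfsgLib.InvChar.SuzT

open Subgroup SuzType

set_option synthInstance.maxSize 4000 in
theorem line_facts : (∀ s ∈ sgs, ∀ a : W × W, FP s a → TP a → a ≠ 0 → ∀ b : W × W, FP s b → TP b →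
    b ≠ 0 → a ≠ b → ∀ c : W × W, FP s c → TP c → c ≠ 0 → a ≠ c → b ≠ c →
    ∀ d : W × W, FP s d → TP d → d = 0 ∨ d = a ∨ d = b ∨ d = c) ∧
    (∃ p, FP (1, 0) p ∧ TP p ∧ p ≠ 0) := by
  decide +kernel

variable {G : Type*} [Group G] [Finite G] {z u : G} {Q Q' : Subgroup G} {φ φ' : G → V}
  (P : Pair z u Q Q' φ φ') {t : G} (C : Ctx P t) {E L : Subgroup G} {σ o : G} (M : Mid P t E σ o)
  (D : Comp P t E L)
include P C M D

theorem L_comm_t {l : G} (hl : l ∈ L) : l * t = t * l := (D.comm t M.t_mem l hl).symm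

theorem cent_z {g : G} (hg : g ∈ L) (hgz : g * z = z * g) : g ∈ TG P :=
  (D.inter g (M.half.inter g (mem_Xg.2 ⟨hgz, L_comm_t P C M D hg⟩) (D.L_le hg))).1 hg

theorem cent_TG {g : G} (hg : g ∈ TG P) : g * z = z * g :=
  (mem_X0g.1 (TG_le P C hg)).1

theorem dec_X0 {x : G} (hx : x ∈ X0g z u t) : ∃ e ∈ E, ∃ l ∈ TG P, x = e * l := by
  obtain ⟨e, he, l, hl, rfl⟩ := (D.cent_E x).1 (M.half.X0_le hx)
  refine ⟨e, he, l, (D.inter l ?_).1 hl, rfl⟩
  simpa using mul_mem (inv_mem (M.E_le he)) hx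

theorem card_half : Nat.card ↥(centralizer (E : Set G)) = 4 * Nat.card L := by
  rw [← M.cardE, ← Nat.card_prod]
  refine (Nat.card_congr (Equiv.ofBijective (fun p : E × L =>
    (⟨(p.1 : G) * p.2, (D.cent_E _).2 ⟨p.1, p.1.2, p.2, p.2.2, rfl⟩⟩ : centralizer (E : Set G)))
      ⟨?_, ?_⟩)).symm
  · rintro ⟨a, b⟩ ⟨c, d⟩ h
    have h' : (a : G) * b = c * d := congrArg Subtype.val h
    have e := D.disj _ (mul_mem (inv_mem c.2) a.2) (by
      rw [show (c : G)⁻¹ * a = d * (b : G)⁻¹ by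
        rw [inv_mul_eq_iff_eq_mul, ← mul_assoc, ← h', mul_inv_cancel_right]]
      exact mul_mem d.2 (inv_mem b.2))
    rw [inv_mul_eq_one] at e
    rw [e] at h'
    exact Prod.ext (Subtype.ext e.symm) (Subtype.ext (mul_left_cancel h'))
  · rintro ⟨g, hg⟩
    obtain ⟨e, he, l, hl, rfl⟩ := (D.cent_E g).1 hg
    exact ⟨(⟨e, he⟩, ⟨l, hl⟩), rfl⟩

theorem TG_sylow : ¬ 2 ∣ (TG P).relIndex L := by
  intro h
  refine X0_sylow P C M.half ?_
  have e1 := ((X0g z u t).subgroupOf (centralizer (E : Set G))).card_mul_index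
  rw [Nat.card_congr (subgroupOfEquivOfLe M.half.X0_le).toEquiv, card_X0 P C, card_half P C M D] at e1
  have e2 := ((TG P).subgroupOf L).card_mul_index
  rw [Nat.card_congr (subgroupOfEquivOfLe D.T_le).toEquiv, card_TG P C] at e2
  change 256 * (X0g z u t).relIndex (centralizer (E : Set G)) = _ at e1
  change 64 * (TG P).relIndex L = _ at e2
  rw [show (X0g z u t).relIndex (centralizer (E : Set G)) = (TG P).relIndex L by omega]
  exact h

theorem TG_pGroup : IsPGroup 2 (TG P) := (X0_pGroup P C M.half).to_le (TG_le P C)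

/-- All involutions of `L` are conjugate to `z`. -/
theorem L_class {x : G} (hx : x ∈ L) (hxx : x * x = 1) (hx1 : x ≠ 1) : IsConj x z := by
  obtain ⟨k, hk, hkR⟩ := exists_conj_le D.T_le (TG_pGroup P C M D) (TG_sylow P C M D)
    (R := zpowers x) (zpowers_le.2 hx)
    (IsPGroup.of_card (n := 1) (by
      rw [Nat.card_zpowers, orderOf_eq_prime (by rw [pow_two, hxx]) hx1, pow_one]))
  obtain ⟨p, hp, hC, hT⟩ := hkR x (mem_zpowers x)
  refine (isConj_iff.2 ⟨k, rfl⟩ : IsConj x _).trans ?_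
  have h1 : k * x * k⁻¹ * (k * x * k⁻¹) = 1 := by
    rw [show k * x * k⁻¹ * (k * x * k⁻¹) = k * (x * x) * k⁻¹ by group, hxx]; group
  exact (conj_z_iff P C hp h1 fun e => hx1 (conj_eq_one_iff.1 e)).2
    (plane_facts.2.2.1 p hC ((sq_eq_one_iff P C hp).1 h1) hT)

theorem conj_in_L {x : G} (hx : x ∈ L) (hz : IsConj x z) : ∃ l ∈ L, l * x * l⁻¹ = z := by
  obtain ⟨k, hk, hkx⟩ := conj_in_half P C M.half hz (L_comm_t P C M D hx)
  obtain ⟨e, he, l, hl, rfl⟩ := (D.cent_E k).1 hk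
  refine ⟨l, hl, ?_⟩
  have := D.comm e he _ (mul_mem (mul_mem hl hx) (inv_mem hl))
  rw [← hkx, show e * l * x * (e * l)⁻¹ = e * (l * x * l⁻¹) * e⁻¹ by group, this, mul_inv_cancel_right]

theorem z_mem_L : z ∈ L := D.T_le ⟨0, HasPar.of_inR P (Or.inr (Or.inl rfl)), zero_inC, tp_facts'.2.2.1⟩

/-- A subgroup containing the involutions of `C_L(z)` contains it. -/
theorem TG_le_of {N : Subgroup G}
    (h : ∀ x ∈ TG P, x * x = 1 → x ≠ 1 → x ∈ N) : TG P ≤ N := by
  rintro g ⟨p, hp, hC, hT⟩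
  obtain ⟨a, b, ha, haT, hb, hbT, rfl⟩ := plane_facts.2.2.2.2.1 p hC hT
  obtain ⟨x, hx⟩ := HasPar.exists_elt P a
  have key : ∀ (s : Pl) (hs : s ∈ sgs), ∀ w ∈ AS P s hs, w ∈ N := by
    rintro s hs w hw
    obtain ⟨q, hq, hq', hqT⟩ := hw
    rcases eq_or_ne w 1 with rfl | hw1
    · exact one_mem _
    · exact h w ⟨q, hq, hq'.1, hqT⟩ (FS_sq P C (hs := hs) ⟨q, hq, hq'⟩) hw1
  rw [show g = x * (x⁻¹ * g) by group]
  refine mul_mem (key _ sgs_mem.1 _ ⟨a, hx, ha, haT⟩) (key _ sgs_mem.2 _ ⟨b, ?_, hb, hbT⟩)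
  have := HasPar.mul P (HasPar.inv P hx) hp
  rwa [← add_assoc, par_self, zero_add] at this

theorem norm_X0 {n : G} (hn : n ∈ L) (hnT : ∀ x ∈ TG P, n * x * n⁻¹ ∈ TG P) :
    n ∈ normalizer (X0g z u t : Set G) := by
  refine mem_normalizer_of_le fun x hx => ?_
  obtain ⟨e, he, l, hl, rfl⟩ := dec_X0 P C M D hx
  rw [show n * (e * l) * n⁻¹ = n * e * n⁻¹ * (n * l * n⁻¹) by group, ← D.comm e he n hn,
    mul_inv_cancel_right]
  exact mul_mem (M.E_le he) (TG_le P C (hnT l hl))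

theorem TG_central {a : G} (ha : a ∈ TG P) (hc : ∀ x ∈ TG P, x * a = a * x) : P.InR a := by
  obtain ⟨p, hp, hC, hT⟩ := ha
  have haX : a ∈ X0g z u t := (mem_X0_iff P C).2 ⟨p, hp, hC⟩
  have hZ : ZP p := (central_iff P C haX hp).1 fun x hx => by
    obtain ⟨e, he, l, hl, rfl⟩ := dec_X0 P C M D hx
    have hae : a * e = e * a := (D.comm e he a (D.T_le ⟨p, hp, hC, hT⟩)).symm
    rw [mul_assoc, hc l hl, ← mul_assoc, ← hae, mul_assoc]
  rw [tp_sum p hT hZ] at hp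
  exact HasPar.inR_of_zero P hp

theorem cent_R {r g : G} (hr : r = z ∨ r = u ∨ r = z * u) (hg : g ∈ L) (hgr : g * r = r * g) :
    g ∈ TG P := by
  have hoz := M.o_z
  have hou := M.o_u
  have hozu : o * (z * u) * o⁻¹ = z := by
    rw [show o * (z * u) * o⁻¹ = o * z * o⁻¹ * (o * u * o⁻¹) by group, hoz, hou, P.zu, ← mul_assoc,
      P.T.zz, one_mul]
  have step : ∀ k ∈ centralizer (E : Set G), k ∈ normalizer (X0g z u t : Set G) →
      k * r * k⁻¹ = z → g ∈ TG P := by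
    intro k hk hkN hkr
    have hg' : k * g * k⁻¹ ∈ TG P := cent_z P C M D (D.normal k hk g hg) (by
      rw [← hkr]
      calc k * g * k⁻¹ * (k * r * k⁻¹) = k * (g * r) * k⁻¹ := by group
        _ = k * r * k⁻¹ * (k * g * k⁻¹) := by rw [hgr]; group)
    refine (D.inter g ?_).1 hg
    exact (mem_normalizer_iff.1 hkN g).2 (TG_le P C hg')
  rcases hr with rfl | rfl | rfl
  · exact cent_z P C M D hg hgr
  · exact step o⁻¹ (inv_mem M.o_mem) (inv_mem M.o_norm) (by rw [← hoz]; group)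
  · exact step o M.o_mem M.o_norm hozu

theorem elementary_in_TG {H : Subgroup G} (hH : H ≤ TG P) (hcard : Nat.card H = 16)
    (hsq : ∀ h ∈ H, h * h = 1) : ∃ s, ∃ hs : s ∈ sgs, H = AS P s hs := by
  classical
  choose par hpar hparC hparT using fun g : H => hH g.2
  have hIP : ∀ g : H, IP (par g) := fun g => (sq_eq_one_iff P C (hpar g)).1 (hsq g g.2)
  by_cases hno : ∃ g : H, par g ≠ 0
  · obtain ⟨g, hg⟩ := hno
    obtain ⟨s, hs, hgs⟩ := fp_cover _ (hparC g) (hIP g)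
    refine ⟨s, hs, eq_of_le_of_card_ge (fun h hh => ⟨par ⟨h, hh⟩, hpar ⟨h, hh⟩, ?_, hparT ⟨h, hh⟩⟩)
      (by rw [hcard, card_AS P C s hs])⟩
    exact cp_fp s hs _ hgs (fun hz => hg (tp_sum _ (hparT g) hz)) _ (hparC ⟨h, hh⟩)
      ((commute_iff P C (hpar g) (hpar ⟨h, hh⟩)).1 (LThreeFour.comm_of_sq hsq g.2 hh))
  · exfalso
    push Not at hno
    obtain ⟨p, hp1, hp2, hp0⟩ := line_facts.2
    obtain ⟨g, hg⟩ := HasPar.exists_elt P p
    have hle : H ≤ AS P (1, 0) sgs_mem.1 := fun h hh =>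
      ⟨par ⟨h, hh⟩, hpar ⟨h, hh⟩, (hno ⟨h, hh⟩).symm ▸ tp_facts'.2.2.2 _ sgs_mem.1, hparT ⟨h, hh⟩⟩
    have e := eq_of_le_of_card_ge hle (by rw [hcard, card_AS P C])
    have hgH : g ∈ H := e.symm ▸ ⟨p, hg, hp1, hp2⟩
    exact hp0 (by rw [← HasPar.ext_par P (hpar ⟨g, hgH⟩) hg]; exact hno _)

/-- An element of `L` with nonzero parameters is conjugate under `C_L(z)` to its whole coset. -/
theorem exists_move {s : Pl} (hs : s ∈ sgs) {w : G} (hw : w ∈ L) {q : W × W} (hq : HasPar P w q)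
    (h1 : FP s q) (h2 : TP q) (h0 : q ≠ 0) (i j : ZMod 2) :
    ∃ y ∈ TG P, y⁻¹ * w * y = P.cz i j * w := by
  obtain ⟨c, hcC, e1, e2⟩ := cp_surj s hs q h1 h2 h0 i j
  obtain ⟨x, hx⟩ := HasPar.exists_elt P c
  have hxX : x ∈ X0g z u t := (mem_X0_iff P C).2 ⟨c, hx, hcC⟩
  obtain ⟨f, hf, y, hy, hxy⟩ := dec_X0 P C M D hxX
  have hrel := HasPar.rel P hq hx
  rw [Pair.Rel, e1, e2] at hrel
  refine ⟨y, hy, ?_⟩
  have hfw : f⁻¹ * (w * f) = w := by rw [← D.comm f hf w hw, inv_mul_cancel_left]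
  calc y⁻¹ * w * y = y⁻¹ * (f⁻¹ * (w * f)) * y := by rw [hfw]
    _ = x⁻¹ * (w * x) := by rw [hxy]; group
    _ = x⁻¹ * P.cz i j * x * w := by rw [hrel]; group
    _ = P.cz i j * w := by
      rw [inR_central P C (P.inR_cz i j) _ (inv_mem hxX), inv_mul_cancel_right]

/-- A normal subgroup of `L` is trivial or all of it. -/
theorem normal_cases {N : Subgroup G} (hNL : N ≤ L) (hN : ∀ l ∈ L, ∀ n ∈ N, l * n * l⁻¹ ∈ N)
    (hne : N ≠ ⊥) : N = L := by
  have heven : 2 ∣ Nat.card N := by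
    by_contra h
    have hT := fun (r : G) (hr : P.InR r) => D.T_le (show r ∈ TG P from
      ⟨0, HasPar.of_inR P hr, zero_inC, tp_facts'.2.2.1⟩)
    exact hne (odd_normalised P C M.half (hNL.trans D.L_le)
      (Nat.not_even_iff_odd.1 fun he => h (even_iff_two_dvd.1 he))
      (hN z (hT z (Or.inr (Or.inl rfl)))) (hN u (hT u (Or.inr (Or.inr (Or.inl rfl))))))
  have : Fact (Nat.Prime 2) := ⟨Nat.prime_two⟩
  obtain ⟨x, hx⟩ := exists_prime_orderOf_dvd_card' 2 heven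
  have hx2 : orderOf (x : G) = 2 := by rw [← N.subtype_apply, orderOf_injective _ N.subtype_injective, hx]
  have hall : ∀ y ∈ L, y * y = 1 → y ≠ 1 → y ∈ N := by
    intro y hy hyy hy1
    obtain ⟨l, hl, hlx⟩ := conj_in_L P C M D (hNL x.2) (L_class P C M D (hNL x.2)
      (by rw [← pow_two]; exact hx2 ▸ pow_orderOf_eq_one (x : G))
      (fun e => by rw [e, orderOf_one] at hx2; omega))
    obtain ⟨l', hl', hly⟩ := conj_in_L P C M D hy (L_class P C M D hy hyy hy1)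
    have hzN : z ∈ N := hlx ▸ hN l hl x x.2
    have := hN l'⁻¹ (inv_mem hl') z hzN
    rwa [← hly, show l'⁻¹ * (l' * y * l'⁻¹) * l'⁻¹⁻¹ = y by group] at this
  have hTN : TG P ≤ N := TG_le_of P C M D fun x hx h1 h2 => hall x (D.T_le hx) h1 h2
  have hSN : ¬ 2 ∣ (TG P).relIndex N := fun h => TG_sylow P C M D (h.trans (by
    rw [← relIndex_mul_relIndex _ N L hTN hNL]; exact Dvd.intro _ rfl))
  by_cases hmove : ∃ n ∈ N, (∀ x ∈ TG P, n * x * n⁻¹ ∈ TG P) ∧ n * z * n⁻¹ ≠ z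
  · -- the normaliser of the Sylow 2-subgroup lies in `N`
    obtain ⟨n, hn, hnT, hnz⟩ := hmove
    have hnX := norm_X0 P C M D (hNL hn) hnT
    set x1 := n * z * n⁻¹ with hx1
    have hx2 : n * x1 * n⁻¹ ≠ x1 := fun e => hnz (mul_left_cancel (mul_right_cancel (e.trans hx1)))
    have hx3 : n * x1 * n⁻¹ ≠ z := by
      intro e
      obtain ⟨r, hr, hrS⟩ := odd_pow P C M.half
      have hS := hrS n (D.L_le (hNL hn)) fun y hy => (mem_normalizer_iff.1 hnX y).1 hy
      refine hnz (mul_inv_eq_iff_eq_mul.2 (commute_of_odd hr (mem_X0g.1 hS).1 ?_))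
      rw [← mul_inv_eq_iff_eq_mul]
      calc n * n * z * (n * n)⁻¹ = n * x1 * n⁻¹ := by rw [hx1]; group
        _ = z := e
    have h1 := conj_three P C M.half hnX (Or.inr (Or.inl rfl)) P.S.zne
    have h2 := conj_three P C M.half (mul_mem hnX hnX) (Or.inr (Or.inl rfl)) P.S.zne
    rw [show n * n * z * (n * n)⁻¹ = n * x1 * n⁻¹ by rw [hx1]; group] at h2
    have hTall : ∀ l ∈ L, (∀ x ∈ TG P, l * x * l⁻¹ ∈ TG P) → l ∈ N := by
      intro l hl hlT
      have h := conj_three P C M.half (norm_X0 P C M D hl hlT) (Or.inr (Or.inl rfl)) P.S.zne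
      have fin : ∀ a ∈ N, a * z * a⁻¹ = l * z * l⁻¹ → l ∈ N := by
        intro a ha hal
        have hc : a⁻¹ * l ∈ TG P := cent_z P C M D (mul_mem (inv_mem (hNL ha)) hl) (by
          rw [← mul_inv_eq_iff_eq_mul, show a⁻¹ * l * z * (a⁻¹ * l)⁻¹ = a⁻¹ * (l * z * l⁻¹) * a by group,
            ← hal]
          group)
        simpa using mul_mem ha (hTN hc)
      by_cases e1 : l * z * l⁻¹ = z
      · exact fin 1 (one_mem _) (by rw [e1]; group)
      by_cases e2 : l * z * l⁻¹ = x1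
      · exact fin n hn (by rw [e2])
      refine fin (n * n) (mul_mem hn hn) ?_
      rw [show n * n * z * (n * n)⁻¹ = n * x1 * n⁻¹ by rw [hx1]; group]
      rcases h with h | h | h <;> rcases h1 with h1 | h1 | h1 <;> rcases h2 with h2 | h2 | h2 <;>
        first | exact absurd h e1 | exact absurd h1 hnz | exact absurd h2 hx3 |
          exact absurd (h2.trans h1.symm) hx2 | exact absurd (h.trans h1.symm) e2 |
          exact h2.trans h.symm
    refine le_antisymm hNL fun g hg => ?_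
    obtain ⟨k, hk, hkR⟩ := exists_conj_le hTN (TG_pGroup P C M D) hSN
      (R := (TG P).map (MulAut.conj g).toMonoidHom) (by
        rintro _ ⟨x, hx, rfl⟩
        exact hN g hg x (hTN hx)) ((TG_pGroup P C M D).map _)
    have := hTall (k * g) (mul_mem (hNL hk) hg) fun x hx => by
      rw [show k * g * x * (k * g)⁻¹ = k * (g * x * g⁻¹) * k⁻¹ by group]
      exact hkR _ ⟨x, hx, rfl⟩
    simpa using mul_mem (inv_mem hk) this
  · exfalso
    push Not at hmove
    -- `z`, `u`, `z u` are not conjugate in `N`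
    have hfix : ∀ r r' : G, (r = z ∨ r = u ∨ r = z * u) → (r' = z ∨ r' = u ∨ r' = z * u) →
        ∀ n ∈ N, n * r * n⁻¹ = r' → r = r' := by
      intro r r' hr hr' n hn e
      have hcen : ∀ a, (a = z ∨ a = u ∨ a = z * u) → ∀ x ∈ TG P, x * a = a * x := fun a ha x hx =>
        inR_central P C (Or.inr ha) x (TG_le P C hx)
      obtain ⟨m, hm, hmT, hme⟩ := burnside hTN (TG_pGroup P C M D) hSN (hcen r hr) (hcen r' hr') hn e
      have hmT' := cent_z P C M D (hNL hm) (mul_inv_eq_iff_eq_mul.1 (hmove m hm hmT))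
      rw [hcen r hr m hmT', mul_inv_cancel_right] at hme
      exact hme
    obtain ⟨p, hp1, hp2, hp0⟩ := line_facts.2
    set s0 : Pl := (1, 0)
    obtain ⟨a, ha⟩ := HasPar.exists_elt P p
    have haA : a ∈ AS P s0 sgs_mem.1 := ⟨p, ha, hp1, hp2⟩
    have hAT : AS P s0 sgs_mem.1 ≤ TG P := fun g ⟨q, hq, hq1, hq2⟩ => ⟨q, hq, hq1.1, hq2⟩
    have haR : ¬ P.InR a := fun h => hp0 (HasPar.ext_par P ha (HasPar.of_inR P h))
    have ha1 : a ≠ 1 := fun e => haR (Or.inl e)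
    obtain ⟨l, hl, hla⟩ := conj_in_L P C M D (D.T_le (hAT haA))
      (((mem_AS_iff P C).1 haA).2.resolve_left ha1)
    have hA' : (AS P s0 sgs_mem.1).map (MulAut.conj l).toMonoidHom ≤ TG P := by
      rintro _ ⟨g, hg, rfl⟩
      simp only [MulEquiv.coe_toMonoidHom, MulAut.conj_apply]
      refine cent_z P C M D (mul_mem (mul_mem hl (D.T_le (hAT hg))) (inv_mem hl)) ?_
      rw [← hla]
      calc l * g * l⁻¹ * (l * a * l⁻¹) = l * (g * a) * l⁻¹ := by group
        _ = l * a * l⁻¹ * (l * g * l⁻¹) := by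
          rw [FS_comm P C ((mem_AS_iff P C).1 hg).1 ((mem_AS_iff P C).1 haA).1]; group
    obtain ⟨s, hs, hsA⟩ := elementary_in_TG P C M D hA' (by rw [LThreeFour.card_map_conj, card_AS P C])
      (by
        rintro _ ⟨g, hg, rfl⟩
        rw [← map_mul, FS_sq P C ((mem_AS_iff P C).1 hg).1, map_one])
    -- a member of `N` normalising the group of order 16 and moving `z`
    obtain ⟨m, hm, hmA, hmz⟩ : ∃ m ∈ N, (∀ g ∈ AS P s0 sgs_mem.1, m * g * m⁻¹ ∈ AS P s0 sgs_mem.1) ∧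
        m ∉ TG P := by
      by_contra hno
      push Not at hno
      have hsub : (TG P).map (MulAut.conj l⁻¹).toMonoidHom ≤ TG P := by
        rintro _ ⟨x, hx, rfl⟩
        simp only [MulEquiv.coe_toMonoidHom, MulAut.conj_apply, inv_inv]
        refine hno _ (by
          have := hN l⁻¹ (inv_mem hl) x (hTN hx)
          rwa [inv_inv] at this) fun g hg => ?_
        have hg' : l * g * l⁻¹ ∈ AS P s hs := hsA ▸ ⟨g, hg, by simp⟩
        have hx' := conj_AS P C M.half (X0_le_normalizer_FS P C M.half s hs (TG_le P C hx)) hg'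
        rw [← hsA] at hx'
        obtain ⟨w, hw, hwe⟩ := hx'
        simp only [MulEquiv.coe_toMonoidHom, MulAut.conj_apply] at hwe
        rw [show l⁻¹ * x * l * g * (l⁻¹ * x * l)⁻¹ = w by
          rw [show w = l⁻¹ * (l * w * l⁻¹) * l by group, hwe]; group]
        exact hw
      have heq := eq_of_le_of_card_ge hsub (LThreeFour.card_map_conj (TG P) l⁻¹).ge
      refine haR (TG_central P C M D (hAT haA) fun x hx => ?_)
      rw [← heq] at hx
      obtain ⟨y, hy, rfl⟩ := hx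
      simp only [MulEquiv.coe_toMonoidHom, MulAut.conj_apply, inv_inv]
      calc l⁻¹ * y * l * a = l⁻¹ * (y * (l * a * l⁻¹)) * l := by group
        _ = a * (l⁻¹ * y * l) := by rw [hla, cent_TG P C M D hy, ← hla]; group
    have hmN : ∀ r, (r = z ∨ r = u ∨ r = z * u) → ∃ q : W × W, HasPar P (m * r * m⁻¹) q ∧
        FP s0 q ∧ TP q ∧ q ≠ 0 := by
      intro r hr
      obtain ⟨q, hq, hq1, hq2⟩ := hmA r (inR_mem_AS P C M.half (Or.inr hr) s0 sgs_mem.1)
      refine ⟨q, hq, hq1, hq2, fun h0 => hmz (cent_R P C M D hr (hNL hm) ?_)⟩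
      rw [h0] at hq
      have hr1 : r ≠ 1 := by
        rcases hr with e | e | e <;> rw [e]
        exacts [P.S.zne, P.T.zne, P.zu_ne]
      have h3 := (HasPar.inR_of_zero P hq).resolve_left (fun e => hr1 (conj_eq_one_iff.1 e))
      rw [← mul_inv_eq_iff_eq_mul]
      exact (hfix r _ hr h3 m hm rfl).symm
    obtain ⟨qz, hqz, hqz1, hqz2, hqz0⟩ := hmN z (Or.inl rfl)
    obtain ⟨qu, hqu, hqu1, hqu2, hqu0⟩ := hmN u (Or.inr (Or.inl rfl))
    obtain ⟨qw, hqw, hqw1, hqw2, hqw0⟩ := hmN (z * u) (Or.inr (Or.inr rfl))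
    -- conjugates with equal parameters are conjugate
    have hcos : ∀ r r' : G, (r = z ∨ r = u ∨ r = z * u) → (r' = z ∨ r' = u ∨ r' = z * u) →
        ∀ n ∈ N, ∀ n' ∈ N, ∀ q, HasPar P (n * r * n⁻¹) q → HasPar P (n' * r' * n'⁻¹) q →
        FP s0 q → TP q → q ≠ 0 → r = r' := by
      intro r r' hr hr' n hn n' hn' q h h' hq1 hq2 hq0
      obtain ⟨i, j, hij⟩ := eq_mul_cz P h h'
      have hnr : n * r * n⁻¹ ∈ L := mul_mem (mul_mem (hNL hn)
        (D.T_le ⟨0, HasPar.of_inR P (Or.inr hr), zero_inC, tp_facts'.2.2.1⟩)) (inv_mem (hNL hn))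
      obtain ⟨y, hy, hy2⟩ := exists_move P C M D sgs_mem.1 hnr h hq1 hq2 hq0 i j
      refine hfix r r' hr hr' (n'⁻¹ * (y⁻¹ * n)) (mul_mem (inv_mem hn') (mul_mem (inv_mem (hTN hy)) hn)) ?_
      rw [show n'⁻¹ * (y⁻¹ * n) * r * (n'⁻¹ * (y⁻¹ * n))⁻¹ =
        n'⁻¹ * (y⁻¹ * (n * r * n⁻¹) * y) * n' by group, hy2, ← hij]
      group
    have hd1 : qz ≠ qu := fun e => P.une (hcos u z (Or.inr (Or.inl rfl)) (Or.inl rfl) m hm m hm qu hqu
      (e ▸ hqz) hqu1 hqu2 hqu0)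
    have hd2 : qz ≠ qw := fun e => P.T.zne (mul_eq_left.1 (hcos z (z * u) (Or.inl rfl) (Or.inr (Or.inr rfl))
      m hm m hm qz hqz (e ▸ hqw) hqz1 hqz2 hqz0).symm)
    have hd3 : qu ≠ qw := fun e => P.S.zne (mul_eq_right.1 (hcos u (z * u) (Or.inr (Or.inl rfl))
      (Or.inr (Or.inr rfl)) m hm m hm qu hqu (e ▸ hqw) hqu1 hqu2 hqu0).symm)
    -- the orbit of `z`
    have horb : ∀ n ∈ N, n * z * n⁻¹ ∈ AS P s0 sgs_mem.1 →
        n * z * n⁻¹ = z ∨ HasPar P (n * z * n⁻¹) qz := by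
      intro n hn hnA
      obtain ⟨q, hq, hq1, hq2⟩ := hnA
      rcases line_facts.1 s0 sgs_mem.1 qz hqz1 hqz2 hqz0 qu hqu1 hqu2 hqu0 hd1 qw hqw1 hqw2 hqw0 hd2
        hd3 q hq1 hq2 with e | e | e | e
      · rw [e] at hq
        have h3 := (HasPar.inR_of_zero P hq).resolve_left (fun e => P.S.zne (conj_eq_one_iff.1 e))
        exact Or.inl (hfix z _ (Or.inl rfl) h3 n hn rfl).symm
      · exact Or.inr (e ▸ hq)
      · rw [e] at hq
        exact absurd (hcos z u (Or.inl rfl) (Or.inr (Or.inl rfl)) n hn m hm qu hq hqu hqu1 hqu2 hqu0)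
          P.une.symm
      · rw [e] at hq
        exact absurd (hcos z (z * u) (Or.inl rfl) (Or.inr (Or.inr rfl)) n hn m hm qw hq hqw hqw1 hqw2
          hqw0).symm fun h => P.T.zne (mul_eq_left.1 h)
    have hmA' : ∀ g ∈ AS P s0 sgs_mem.1, m⁻¹ * g * m ∈ AS P s0 sgs_mem.1 := by
      intro g hg
      have := (mem_normalizer_iff.1 (inv_mem (mem_normalizer_of_le hmA)) g).1 hg
      rwa [inv_inv] at this
    have hf : ∀ i j, P.cz i j ≠ 1 → HasPar P (m⁻¹ * P.cz i j * m) qz := by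
      intro i j hne
      obtain ⟨y, hy, hya⟩ := exists_move P C M D sgs_mem.1
        (mul_mem (mul_mem (hNL hm) (z_mem_L P C M D)) (inv_mem (hNL hm))) hqz hqz1 hqz2 hqz0 i j
      have hcA : P.cz i j * (m * z * m⁻¹) ∈ AS P s0 sgs_mem.1 :=
        mul_mem (inR_mem_AS P C M.half (P.inR_cz i j) s0 sgs_mem.1) ⟨qz, hqz, hqz1, hqz2⟩
      have key : m⁻¹ * (P.cz i j * (m * z * m⁻¹)) * m = m⁻¹ * P.cz i j * m * z := by group
      rcases horb (m⁻¹ * (y⁻¹ * m)) (mul_mem (inv_mem hm) (mul_mem (inv_mem (hTN hy)) hm)) (by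
        rw [show m⁻¹ * (y⁻¹ * m) * z * (m⁻¹ * (y⁻¹ * m))⁻¹ = m⁻¹ * (y⁻¹ * (m * z * m⁻¹) * y) * m by group, hya]
        exact hmA' _ hcA) with h | h <;>
        rw [show m⁻¹ * (y⁻¹ * m) * z * (m⁻¹ * (y⁻¹ * m))⁻¹ = m⁻¹ * (y⁻¹ * (m * z * m⁻¹) * y) * m by group,
          hya, key] at h
      · exact absurd (conj_eq_one_iff (a := m⁻¹) |>.1 (by rw [inv_inv]; exact mul_eq_right.1 h)) hne
      · have h' := HasPar.mul P h (HasPar.of_inR P (Or.inr (Or.inl rfl) : P.InR z))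
        rwa [add_zero, mul_assoc _ z z, P.S.zz, mul_one] at h'
    have h12 := HasPar.mul P (hf 1 0 fun h => absurd (P.cz_eq_one h).1 one_ne_zero)
      (hf 0 1 fun h => absurd (P.cz_eq_one h).2 one_ne_zero)
    rw [show m⁻¹ * P.cz 1 0 * m * (m⁻¹ * P.cz 0 1 * m) = m⁻¹ * (P.cz 1 0 * P.cz 0 1) * m by group,
      ← P.cz_add, par_self] at h12
    exact hqz0 (HasPar.ext_par P (hf (1 + 0) (0 + 1) fun h => absurd (P.cz_eq_one h).1 (by simp)) h12)

theorem simple_L : IsSimpleGroup L := by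
  have : Nontrivial L := ⟨⟨z, z_mem_L P C M D⟩, 1, fun e => P.S.zne (congrArg Subtype.val e)⟩
  refine ⟨fun N hN => ?_⟩
  by_cases h : N.map L.subtype = ⊥
  · exact Or.inl ((map_eq_bot_iff_of_injective _ L.subtype_injective).1 h)
  right
  have heq : N.map L.subtype = L := normal_cases P C M D (N := N.map L.subtype) (map_subtype_le N) (by
    rintro l hl _ ⟨n, hn, rfl⟩
    exact ⟨⟨l, hl⟩ * n * ⟨l, hl⟩⁻¹, hN.conj_mem n hn _, rfl⟩) h
  rw [eq_top_iff]
  intro x _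
  obtain ⟨y, hy, hyx⟩ : (x : G) ∈ N.map L.subtype := by rw [heq]; exact x.2
  exact (Subtype.ext hyx : y = x) ▸ hy

/-- `L` is normal in `C(t)`. -/
theorem L_normal {g : G} (hg : g * t = t * g) : ∀ l ∈ L, g * l * g⁻¹ ∈ L := by
  set N := closure {a : G | IsConj a z ∧ a ∈ centralizer (E : Set G)}
  have hNL : N ≤ L := (closure_le L).2 fun a ha => D.zclass a ha.1 ha.2
  have hE : ∀ {k a : G}, k * t = t * k → a ∈ centralizer (E : Set G) →
      k * a * k⁻¹ ∈ centralizer (E : Set G) := by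
    intro k a hk ha
    refine mem_centralizer_iff.2 fun e he => ?_
    have := mem_centralizer_iff.1 ha (k⁻¹ * e * k) (by
      simpa using M.normal k⁻¹ ((show Commute k t from hk).inv_left).eq e he)
    calc e * (k * a * k⁻¹) = k * (k⁻¹ * e * k * a) * k⁻¹ := by group
      _ = k * a * k⁻¹ * e := by rw [this]; group
  have hconj : ∀ k, k * t = t * k → ∀ n ∈ N, k * n * k⁻¹ ∈ N := by
    intro k hk n hn
    have : N ≤ N.comap (MulAut.conj k).toMonoidHom := (closure_le _).2 fun a ha => subset_closure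
      ⟨(isConj_iff.2 ⟨k, rfl⟩ : IsConj a _).symm.trans ha.1, hE hk ha.2⟩
    exact this hn
  have heq := normal_cases P C M D hNL (fun l hl => hconj l (L_comm_t P C M D hl)) (fun h => P.S.zne (by
    have : z ∈ N := subset_closure ⟨IsConj.refl z, D.L_le (z_mem_L P C M D)⟩
    rwa [h, mem_bot] at this))
  intro l hl
  rw [← heq] at hl ⊢
  exact hconj g hg l hl

end CfsgLib.InvChar.SuzT
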