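import Cfsg.Agent.Lib.InvChar.SuzT.ZT
import Mathlib.Algebra.Group.Subgroup.Finite
import Mathlib.GroupTheory.Commutator.Basic

/-!
# Involutions of `C(z, t)` outside `C(u)`

Their centralisers in `C(z, u, t)` have order at most 16, all squares in `⟨z⟩`, contain no conjugate of
`z` but `z`, and `z` is a commutator there.
-/

set_option autoImplicit false
set_option linter.unusedSectionVars false

namespace CfsgLib.InvChar.SuzT

open Subgroup SuzType

set_option synthInstance.maxSize 1000 in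
theorem mv_fix_image : ∀ p : W × W, InC p → mv p = p → ∃ q : W × W, InC q ∧ q + mv q + p = 0 := by
  unfold InC mv fW bW
  decide +kernel

set_option synthInstance.maxSize 1000 in
theorem mv_fix_facts : ∀ p : W × W, InC p → mv p = p → qW p.2 + bW p.1 p.2 = 0 ∧
    (qW p.1 + bW p.1 p.2 = 0 → p = 0 ∨ bW p.1 p.2 = 1) := by
  unfold InC mv fW qW bW
  decide +kernel

/-- Parameters of two non-commuting fixed elements. -/
def cp1 : W × W := ((code 12).2, 0)

/-- Parameters of two non-commuting fixed elements. -/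
def cp2 : W × W := ((code 4).2, (code 12).2)

theorem cp_facts : InC cp1 ∧ mv cp1 = cp1 ∧ InC cp2 ∧ mv cp2 = cp2 ∧
    bW cp1.1 cp2.1 + bW cp1.1 cp2.2 + bW cp2.1 cp1.2 = 1 ∧
    bW cp1.2 cp2.2 + bW cp1.1 cp2.2 + bW cp2.1 cp1.2 = 0 := by
  unfold cp1 cp2 InC mv fW bW
  decide +kernel

theorem card_fixed : Fintype.card {p : W × W // InC p ∧ mv p = p} = 8 := by decide +kernel

theorem bW_add_left (x y w : W) : bW (x + y) w = bW x w + bW y w := by
  rw [bW, bW, bW, ← bf_add_left]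
  simp

theorem bW_add_right (w x y : W) : bW w (x + y) = bW w x + bW w y := by
  rw [bW, bW, bW, ← bf_add_right]
  simp

variable {G : Type*} [Group G] [Finite G] {z u : G} {Q Q' : Subgroup G} {φ φ' : G → V}
  (P : Pair z u Q Q' φ φ') {t : G} (C : Ctx P t)
include P C

theorem X0_conj_par {x g : G} {p : W × W} (hx : x ∈ X0g z u t) (hg : HasPar P g p) :
    HasPar P (x * g * x⁻¹) p := by
  obtain ⟨q, hq, -⟩ := (mem_X0_iff P C).1 hx
  have := HasPar.mul P (HasPar.mul P hq hg) (HasPar.inv P hq)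
  rwa [show q + p + q = p by
    have h2 : ∀ q : W × W, q + q = 0 := by decide +kernel
    rw [add_comm q p, add_assoc, h2, add_zero]] at this

/-- Every element of `C(z, t)` outside `C(u)` acts as `mv`. -/
theorem outer_act {h g : G} {p : W × W} (hh : h ∈ Xg z t) (hh0 : h ∉ X0g z u t)
    (hg : HasPar P g p) : HasPar P (h * g * h⁻¹) (mv p) := by
  obtain ⟨w, hwz, hwt, hwu, hwp⟩ := exists_outer P C
  have hw : w ∈ Xg z t := mem_Xg.2 ⟨hwz, hwt⟩
  have hu' : h * u * h⁻¹ = u * z := (move_u P C hh).resolve_left fun e =>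
    hh0 (mem_X0g.2 ⟨(mem_Xg.1 hh).1, (mem_Xg.1 hh).2, e⟩)
  have hx : h * w⁻¹ ∈ X0g z u t := by
    obtain ⟨h1, h2⟩ := mem_Xg.1 (mul_mem hh (inv_mem hw))
    refine mem_X0g.2 ⟨h1, h2, ?_⟩
    rw [← mul_inv_eq_iff_eq_mul]
    have e : w⁻¹ * u * w = u * z := by
      have h3 : w⁻¹ * z * w = z := by rw [mul_assoc, ← hwz, inv_mul_cancel_left]
      calc w⁻¹ * u * w = w⁻¹ * (u * z * z) * w := by rw [mul_assoc u, P.S.zz, mul_one]
        _ = w⁻¹ * (w * u * w⁻¹ * z) * w := by rw [hwu]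
        _ = u * (w⁻¹ * z * w) := by group
        _ = u * z := by rw [h3]
    calc h * w⁻¹ * u * (h * w⁻¹)⁻¹ = h * (w⁻¹ * u * w) * h⁻¹ := by group
      _ = h * u * h⁻¹ * (h * z * h⁻¹) := by rw [e]; group
      _ = u := by rw [hu', P.S.conjZ (mem_Xg.1 hh).1, mul_assoc, P.S.zz, mul_one]
  have := X0_conj_par P C hx (hwp g p hg)
  rwa [show h * w⁻¹ * (w * g * w⁻¹) * (h * w⁻¹)⁻¹ = h * g * h⁻¹ by group] at this

theorem exists_outer_invol : ∃ s : G, s ∈ Xg z t ∧ s ∉ X0g z u t ∧ s * s = 1 := by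
  obtain ⟨w, hwz, hwt, hwu, hwp⟩ := exists_outer P C
  have hw : w ∈ Xg z t := mem_Xg.2 ⟨hwz, hwt⟩
  have huz : u * z ≠ u := fun e => P.S.zne (mul_eq_left.1 e)
  have hout : ∀ h ∈ Xg z t, h * u * h⁻¹ = u * z → h ∉ X0g z u t := fun h _ e h0 => huz (by
    rw [← e, (mem_X0g.1 h0).2.2, mul_inv_cancel_right])
  have hw2 : w * w ∈ X0g z u t := by
    obtain ⟨h1, h2⟩ := mem_Xg.1 (mul_mem hw hw)
    refine mem_X0g.2 ⟨h1, h2, ?_⟩
    rw [← mul_inv_eq_iff_eq_mul]
    calc w * w * u * (w * w)⁻¹ = w * (w * u * w⁻¹) * w⁻¹ := by group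
      _ = w * (u * z) * w⁻¹ := by rw [hwu]
      _ = w * u * w⁻¹ * (w * z * w⁻¹) := by group
      _ = u := by rw [hwu, P.S.conjZ hwz, mul_assoc, P.S.zz, mul_one]
  obtain ⟨p0, hp0, hC0⟩ := (mem_X0_iff P C).1 hw2
  have hfix : mv p0 = p0 := HasPar.ext_par P (hwp _ _ hp0)
    (by rw [show w * (w * w) * w⁻¹ = w * w by group]; exact hp0)
  obtain ⟨q, hqC, hq⟩ := mv_fix_image p0 hC0 hfix
  obtain ⟨m, hm⟩ := HasPar.exists_elt P q
  have hm0 : m ∈ X0g z u t := (mem_X0_iff P C).2 ⟨q, hm, hqC⟩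
  have hmw : m * w ∈ Xg z t := mul_mem hm0.1 hw
  have hmz : m * z * m⁻¹ = z := P.S.conjZ (mem_X0g.1 hm0).1
  have hmu : m * u * m⁻¹ = u := by rw [(mem_X0g.1 hm0).2.2, mul_inv_cancel_right]
  have hmwu : m * w * u * (m * w)⁻¹ = u * z := by
    calc m * w * u * (m * w)⁻¹ = m * (w * u * w⁻¹) * m⁻¹ := by group
      _ = m * u * m⁻¹ * (m * z * m⁻¹) := by rw [hwu]; group
      _ = u * z := by rw [hmu, hmz]
  have hsq : HasPar P (m * w * (m * w)) 0 := by
    have := HasPar.mul P (HasPar.mul P hm (hwp m q hm)) hp0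
    rwa [hq, show m * (w * m * w⁻¹) * (w * w) = m * w * (m * w) by group] at this
  have hcom : m * w * (m * w * (m * w)) * (m * w)⁻¹ = m * w * (m * w) := by group
  rcases HasPar.inR_of_zero P hsq with e | e | e | e
  · exact ⟨m * w, hmw, hout _ hmw hmwu, e⟩
  · have huX : u ∈ Xg z t := mem_Xg.2 ⟨P.zu.symm, (comm_tu P C).symm⟩
    have hu2 : u * (m * w) * u * (u * (m * w))⁻¹ = u * z := by
      calc u * (m * w) * u * (u * (m * w))⁻¹ = u * (m * w * u * (m * w)⁻¹) * u⁻¹ := by group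
        _ = u * (u * z) * u⁻¹ := by rw [hmwu]
        _ = u * z := by rw [← mul_assoc, P.T.zz, one_mul, P.T.zinv, P.zu]
    refine ⟨u * (m * w), mul_mem huX hmw, hout _ (mul_mem huX hmw) hu2, ?_⟩
    calc u * (m * w) * (u * (m * w)) = u * (m * w * u * (m * w)⁻¹) * (m * w * (m * w)) := by group
      _ = u * u * (z * z) := by rw [hmwu, e]; group
      _ = 1 := by rw [P.S.zz, P.T.zz, mul_one]
  · rw [e, hmwu] at hcom
    exact absurd hcom huz
  · rw [e, show m * w * (z * u) * (m * w)⁻¹ = m * w * z * (m * w)⁻¹ * (m * w * u * (m * w)⁻¹) by group,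
      hmwu, P.S.conjZ (mem_Xg.1 hmw).1] at hcom
    exact absurd (mul_left_cancel hcom) huz

section Invol

variable {s : G} (hs : s ∈ Xg z t) (hs0 : s ∉ X0g z u t) (hss : s * s = 1)
include hs hs0 hss

theorem invol_move : s * u * s⁻¹ = u * z :=
  (move_u P C hs).resolve_left fun e => hs0 (mem_X0g.2 ⟨(mem_Xg.1 hs).1, (mem_Xg.1 hs).2, e⟩)

theorem fixed_par {g : G} (hg : g ∈ X0g z u t) (hgs : g * s = s * g) :
    ∃ p, HasPar P g p ∧ InC p ∧ mv p = p := by
  obtain ⟨p, hp, hpC⟩ := (mem_X0_iff P C).1 hg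
  refine ⟨p, hp, hpC, HasPar.ext_par P (outer_act P C hs hs0 hp) ?_⟩
  rwa [← hgs, mul_inv_cancel_right]

theorem fixed_sq {g : G} (hg : g ∈ X0g z u t) (hgs : g * s = s * g) : g * g = 1 ∨ g * g = z := by
  obtain ⟨p, hp, hpC, hfix⟩ := fixed_par P C hs hs0 hss hg hgs
  rw [HasPar.sq P hp, (mv_fix_facts p hpC hfix).1]
  rcases z2_cases' (qW p.1 + bW p.1 p.2) with e | e <;> rw [e]
  · exact Or.inl P.cz_zero
  · right; simp [Pair.cz, zp_one, zp_zero]

theorem fixed_zclass {g : G} (hg : g ∈ X0g z u t) (hgs : g * s = s * g) (hz : IsConj g z) : g = z := by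
  obtain ⟨p, hp, hpC, hfix⟩ := fixed_par P C hs hs0 hss hg hgs
  have hgg : g * g = 1 := by
    obtain ⟨k, hk⟩ := isConj_iff.1 hz.symm
    rw [← hk, show k * z * k⁻¹ * (k * z * k⁻¹) = k * (z * z) * k⁻¹ by group, P.S.zz]; group
  have hg1 : g ≠ 1 := fun e => P.S.zne (by
    obtain ⟨k, hk⟩ := isConj_iff.1 hz
    rw [e] at hk; simpa using hk.symm)
  have hB := (conj_z_iff P C hp hgg hg1).1 hz
  have hs' := HasPar.sq P hp
  rw [hgg] at hs'
  rcases (mv_fix_facts p hpC hfix).2 (P.cz_eq_one hs'.symm).1 with rfl | h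
  · rcases HasPar.inR_of_zero P hp with e | e | e | e
    · exact absurd e hg1
    · exact e
    · rw [e, eq_comm, ← mul_inv_eq_iff_eq_mul, invol_move P C hs hs0 hss] at hgs
      exact absurd (mul_eq_left.1 hgs) P.S.zne
    · rw [e, eq_comm, ← mul_inv_eq_iff_eq_mul,
        show s * (z * u) * s⁻¹ = s * z * s⁻¹ * (s * u * s⁻¹) by group, invol_move P C hs hs0 hss,
        P.S.conjZ (mem_Xg.1 hs).1, ← mul_assoc] at hgs
      exact absurd (mul_eq_left.1 hgs) P.S.zne
  · rw [hB] at h; exact absurd h (by decide)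

theorem exists_fixed {p : W × W} (hpC : InC p) (hfix : mv p = p) :
    ∃ g ∈ X0g z u t, g * s = s * g ∧ HasPar P g p := by
  obtain ⟨g, hg⟩ := HasPar.exists_elt P p
  have hg0 : g ∈ X0g z u t := (mem_X0_iff P C).2 ⟨p, hg, hpC⟩
  have h' := outer_act P C hs hs0 hg
  rw [hfix] at h'
  obtain ⟨i, j, hij⟩ := eq_mul_cz P hg h'
  have hsu := invol_move P C hs hs0 hss
  have hsz : s * z * s⁻¹ = z := P.S.conjZ (mem_Xg.1 hs).1
  have hsc : ∀ i j : ZMod 2, s * P.cz i j * s⁻¹ = P.cz (i + j) j := by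
    intro i j
    rw [show s * P.cz i j * s⁻¹ = s * zp z i * s⁻¹ * (s * zp u j * s⁻¹) by rw [show P.cz i j = zp z i * zp u j from rfl]; group,
      zp_conj, zp_conj, hsu, hsz]
    rcases z2_cases' i with rfl | rfl <;> rcases z2_cases' j with rfl | rfl <;>
      simp [Pair.cz, zp_zero, zp_one, show (1 : ZMod 2) + 1 = 0 from rfl, P.zu]
    rw [← P.zu, ← mul_assoc, P.S.zz, one_mul]
  have hj : j = 0 := by
    have e : s * (s * g * s⁻¹) * s⁻¹ = g := by
      rw [show s * (s * g * s⁻¹) * s⁻¹ = (s * s) * g * (s * s)⁻¹ by group, hss]; group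
    rw [hij, show s * (P.cz i j * g) * s⁻¹ = s * P.cz i j * s⁻¹ * (s * g * s⁻¹) by group, hsc, hij,
      ← mul_assoc, ← P.cz_add] at e
    have h0 := P.cz_eq_one (mul_eq_right.1 e)
    rcases z2_cases' j with r | r
    · exact r
    · exfalso
      rw [add_right_comm, z2_self, zero_add] at h0
      rw [r] at h0
      exact absurd h0.1 (by decide)
  subst hj
  rcases z2_cases' i with rfl | rfl
  · exact ⟨g, hg0, by rw [eq_comm, ← mul_inv_eq_iff_eq_mul, hij, P.cz_zero, one_mul], hg⟩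
  · refine ⟨P.cz 0 1 * g, mul_mem ((mem_X0_iff P C).2 ⟨0, HasPar.of_inR P (P.inR_cz 0 1),
      by decide +kernel⟩) hg0, ?_, by simpa using HasPar.mul P (HasPar.of_inR P (P.inR_cz 0 1)) hg⟩
    rw [eq_comm, ← mul_inv_eq_iff_eq_mul,
      show s * (P.cz 0 1 * g) * s⁻¹ = s * P.cz 0 1 * s⁻¹ * (s * g * s⁻¹) by group, hsc, hij,
      ← mul_assoc, ← P.cz_add]
    simp [show (1 : ZMod 2) + 1 = 0 from rfl]

/-- `z` is a commutator in `C(z, u, t, s)`. -/
theorem z_commutator : ∃ g h : G, g ∈ X0g z u t ∧ g * s = s * g ∧ h ∈ X0g z u t ∧ h * s = s * h ∧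
    g * h * g⁻¹ * h⁻¹ = z := by
  obtain ⟨f1, f2, f3, f4, f5, f6⟩ := cp_facts
  obtain ⟨g, hg, hgs, hgp⟩ := exists_fixed P C hs hs0 hss f1 f2
  obtain ⟨h, hh, hhs, hhp⟩ := exists_fixed P C hs hs0 hss f3 f4
  refine ⟨g, h, hg, hgs, hh, hhs, ?_⟩
  have hr := HasPar.rel P hgp hhp
  rw [Pair.Rel, f5, f6, show P.cz 1 0 = z by simp [Pair.cz, zp_one, zp_zero]] at hr
  rw [hr]; group

theorem card_fixed_le : Nat.card (X0g z u t ⊓ centralizer ({s} : Set G) : Subgroup G) ≤ 16 := by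
  classical
  set H := X0g z u t ⊓ centralizer ({s} : Set G)
  have hH : ∀ g : H, (g : G) * s = s * g := fun g => (mem_centralizer_singleton_iff.1 g.2.2)
  choose par hpar hparC hparf using fun g : H => fixed_par P C hs hs0 hss g.2.1 (hH g)
  choose rep hrep using fun p : {p : W × W // InC p ∧ mv p = p} => exists_fixed P C hs hs0 hss p.2.1 p.2.2
  let F : H → {p : W × W // InC p ∧ mv p = p} × Bool := fun g =>
    (⟨par g, hparC g, hparf g⟩, decide ((g : G) = rep ⟨par g, hparC g, hparf g⟩))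
  have hval : ∀ g : H, (g : G) = rep ⟨par g, hparC g, hparf g⟩ ∨
      (g : G) = z * rep ⟨par g, hparC g, hparf g⟩ := by
    intro g
    obtain ⟨hr0, hrs, hrp⟩ := hrep ⟨par g, hparC g, hparf g⟩
    obtain ⟨i, j, hij⟩ := eq_mul_cz P hrp (hpar g)
    have hd : (g : G) * (rep ⟨par g, hparC g, hparf g⟩)⁻¹ * s =
        s * ((g : G) * (rep ⟨par g, hparC g, hparf g⟩)⁻¹) :=
      ((show Commute (g : G) s from hH g).mul_left (show Commute _ s from hrs).inv_left).eq
    rw [hij, mul_inv_cancel_right, eq_comm, ← mul_inv_eq_iff_eq_mul] at hd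
    rcases z2_cases' j with rfl | rfl
    · rcases z2_cases' i with rfl | rfl
      · left; rw [hij, P.cz_zero, one_mul]
      · right; rw [hij]; simp [Pair.cz, zp_one, zp_zero]
    · exfalso
      have hm : s * P.cz i 1 * s⁻¹ = P.cz i 1 * z := by
        rw [show s * P.cz i 1 * s⁻¹ = s * zp z i * s⁻¹ * (s * u * s⁻¹) by rw [show P.cz i 1 = zp z i * u by simp [Pair.cz, zp_one]]; group,
          zp_conj, P.S.conjZ (mem_Xg.1 hs).1, invol_move P C hs hs0 hss]
        simp [Pair.cz, zp_one, mul_assoc]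
      rw [hm] at hd
      exact P.S.zne (mul_eq_left.1 hd)
  have hF : Function.Injective F := by
    intro g g' e
    have e1 := congrArg Prod.fst e
    have e2 := congrArg Prod.snd e
    simp only [F, decide_eq_decide] at e1 e2
    refine Subtype.ext ?_
    obtain ⟨a, ha⟩ : ∃ a, a = rep ⟨par g, hparC g, hparf g⟩ := ⟨_, rfl⟩
    have ha' : a = rep ⟨par g', hparC g', hparf g'⟩ := by rw [ha, e1]
    rw [← ha, ← ha'] at e2
    have hg := hval g
    have hg' := hval g'
    rw [← ha] at hg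
    rw [← ha'] at hg'
    rcases hg with h | h
    · rw [h, e2.1 h]
    · rcases hg' with h' | h'
      · rw [h', e2.2 h']
      · rw [h, h']
  have := Nat.card_le_card_of_injective F hF
  rwa [Nat.card_prod, Nat.card_eq_fintype_card (α := {p : W × W // InC p ∧ mv p = p}), card_fixed,
    Nat.card_eq_fintype_card (α := Bool), Fintype.card_bool] at this

end Invol

/-- The centraliser in `C(z, u, t)` of any of its elements has order at least 64. -/
theorem card_centralizer_ge {g : G} (hg : g ∈ X0g z u t) :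
    64 ≤ Nat.card (X0g z u t ⊓ centralizer ({g} : Set G) : Subgroup G) := by
  classical
  obtain ⟨p, hp, hpC⟩ := (mem_X0_iff P C).1 hg
  set H := X0g z u t
  choose q hq hqC using fun h : H => (mem_X0_iff P C).1 h.2
  let χ : H →* Multiplicative (ZMod 2 × ZMod 2) :=
    { toFun := fun h => Multiplicative.ofAdd
        (bW (q h).1 p.1 + bW (q h).1 p.2 + bW p.1 (q h).2, bW (q h).2 p.2 + bW (q h).1 p.2 + bW p.1 (q h).2)
      map_one' := by
        rw [HasPar.ext_par P (hq 1) (HasPar.one P)]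
        have h0 : ∀ p : W × W, bW (0 : W × W).1 p.1 + bW (0 : W × W).1 p.2 + bW p.1 (0 : W × W).2 = 0 ∧
            bW (0 : W × W).2 p.2 + bW (0 : W × W).1 p.2 + bW p.1 (0 : W × W).2 = 0 := by
          unfold bW; decide +kernel
        rw [(h0 p).1, (h0 p).2]; rfl
      map_mul' := fun a b => by
        rw [HasPar.ext_par P (hq (a * b)) (HasPar.mul P (hq a) (hq b)), ← ofAdd_add]
        congr 1
        simp only [Prod.fst_add, Prod.snd_add, bW_add_left, bW_add_right]
        ext <;> simp only [Prod.fst_add, Prod.snd_add] <;> abel }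
  have hle : χ.ker.map H.subtype ≤ H ⊓ centralizer ({g} : Set G) := by
    rintro _ ⟨h, hh, rfl⟩
    refine ⟨h.2, mem_centralizer_singleton_iff.2 ?_⟩
    have hr := HasPar.rel P (hq h) hp
    obtain ⟨e1, e2⟩ := Prod.ext_iff.1 (congrArg Multiplicative.toAdd (MonoidHom.mem_ker.1 hh))
    simp only [χ, MonoidHom.coe_mk, OneHom.coe_mk, toAdd_ofAdd, toAdd_one, Prod.fst_zero, Prod.snd_zero] at e1 e2
    rw [Pair.Rel, e1, e2, P.cz_zero, one_mul] at hr
    exact hr
  refine le_trans ?_ (Nat.le_of_dvd Nat.card_pos (card_dvd_of_le hle))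
  rw [Subgroup.card_map_of_injective H.subtype_injective]
  have e := χ.ker.card_mul_index
  rw [card_X0 P C, Subgroup.index_ker] at e
  have h4 : Nat.card χ.range ≤ 4 := by
    refine le_trans (Nat.card_le_card_of_injective _ χ.range.subtype_injective) ?_
    simp [Nat.card_eq_fintype_card]
  nlinarith

end CfsgLib.InvChar.SuzT
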