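import Cfsg.Agent.Lib.InvChar.SuzT.LFields

/-!
# Outside `C(E)` nothing in `C(t)` centralises an element of order five or seven of `L`

An involution outside would have a centraliser in `C(E)` in which `z` is isolated; Glauberman's
theorem makes `z` invert that element, but `z` is a commutator there.
-/

set_option autoImplicit false
set_option linter.unusedSectionVars false

namespace CfsgLib.InvChar.SuzT

open Subgroup SuzType

variable {G : Type*} [Group G] [Finite G] {z u : G} {Q Q' : Subgroup G} {φ φ' : G → V}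
  (P : Pair z u Q Q' φ φ') {t : G} (C : Ctx P t) {E L : Subgroup G} {σ o : G} (M : Mid P t E σ o)
  (D : Comp P t E L)
include P C M D

theorem cent_odd {x y : G} (hx : x ∈ L) (ho : orderOf x = 5 ∨ orderOf x = 7)
    (hy : y ∈ centralizer (E : Set G)) (hyx : y * x = x * y) :
    ∃ e ∈ E, ∃ i : ℤ, y = e * x ^ i := by
  obtain ⟨e, he, l, hl, rfl⟩ := (D.cent_E y).1 hy
  have hlx : l * x = x * l := by
    have hex : e * x = x * e := D.comm e he x hx
    refine mul_left_cancel (a := e) ?_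
    rw [← mul_assoc, hyx, ← mul_assoc, ← hex, mul_assoc]
  obtain ⟨i, hi⟩ := mem_zpowers_iff.1 (L_self P C M D hx ho hl hlx)
  exact ⟨e, he, i, by rw [hi]⟩

/-- No involution of `C(t)` outside `C(E)` centralises an element of order five or seven of `L`. -/
theorem no_outer_invol {s x : G} (hs : s ∈ Xg z t) (hs0 : s ∉ X0g z u t) (hss : s * s = 1)
    (hx : x ∈ L) (ho : orderOf x = 5 ∨ orderOf x = 7) (hsx : s * x = x * s) : False := by
  classical
  have : Fact (Nat.Prime 2) := ⟨Nat.prime_two⟩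
  set H := centralizer (E : Set G) ⊓ centralizer ({s} : Set G) with hH
  set S := X0g z u t ⊓ centralizer ({s} : Set G) with hS
  have hSH : S ≤ H := inf_le_inf_right _ M.half.X0_le
  have hzH : z ∈ H := mem_inf.2 ⟨M.half.X0_le (mem_X0_z P C),
    mem_centralizer_singleton_iff.2 (mem_Xg.1 hs).1.symm⟩
  have hxH : x ∈ H := mem_inf.2 ⟨D.L_le hx, mem_centralizer_singleton_iff.2 hsx.symm⟩
  have hodd : Odd (orderOf x) := by rcases ho with h | h <;> rw [h] <;> decide
  -- `z` is isolated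
  obtain ⟨PS, hPS⟩ : ∃ PS : Sylow 2 H, (PS : Subgroup H) = S.subgroupOf H := by
    obtain ⟨PS, hle⟩ := (((X0_pGroup P C M.half).to_le inf_le_left : IsPGroup 2 S).comap_of_injective
      H.subtype (subtype_injective _)).exists_le_sylow
    refine ⟨PS, le_antisymm ?_ hle⟩
    by_contra hlt
    set T := S.subgroupOf H
    have hTS : T.subgroupOf (PS : Subgroup H) < ⊤ := lt_top_iff_ne_top.2 fun e => hlt fun y hy => by
      have : (⟨y, hy⟩ : (PS : Subgroup H)) ∈ T.subgroupOf (PS : Subgroup H) := e ▸ mem_top _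
      exact this
    have := PS.2.isNilpotent
    obtain ⟨n, hn, hnT⟩ := SetLike.exists_of_lt (Group.normalizerCondition_of_isNilpotent _ hTS)
    refine hnT ?_
    obtain ⟨nt, hnt⟩ : ∃ y : G, y = ((n : H) : G) := ⟨_, rfl⟩
    have hzS : z ∈ S := mem_inf.2 ⟨mem_X0_z P C, hzH.2⟩
    have hzP : (⟨z, hzH⟩ : H) ∈ (PS : Subgroup H) := hle hzS
    have hnz : nt * z * nt⁻¹ ∈ S := by
      have := (mem_normalizer_iff.1 hn ⟨_, hzP⟩).1 (show (⟨z, hzH⟩ : H) ∈ T from hzS)
      simpa [hnt, T, mem_subgroupOf] using this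
    have e := fixed_zclass P C hs hs0 hss hnz.1 (mem_centralizer_singleton_iff.1 hnz.2)
      (isConj_iff.2 ⟨nt, rfl⟩ : IsConj z _).symm
    show ((n : H) : G) ∈ S
    rw [← hnt]
    have hntH : nt ∈ H := hnt ▸ (n : H).2
    exact mem_inf.2 ⟨M.half.inter nt (mem_Xg.2 ⟨mul_inv_eq_iff_eq_mul.1 e,
      mem_centralizer_singleton_iff.1 (M.half.le hntH.1)⟩) hntH.1, hntH.2⟩
  have hmem : ∀ y : H, y ∈ PS ↔ (y : G) ∈ S := fun y => by
    show y ∈ (PS : Subgroup H) ↔ _
    rw [hPS, mem_subgroupOf]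
  have hz2 : orderOf (⟨z, hzH⟩ : H) = 2 := by
    rw [Subgroup.orderOf_mk]
    exact orderOf_eq_prime (by rw [pow_two, P.S.zz]) P.S.zne
  have hiso : Cfsg.IsIsolatedInvolution (⟨z, hzH⟩ : H) :=
    Invol.isolated_of_sylow PS hz2 ((hmem _).2 (mem_inf.2 ⟨mem_X0_z P C, hzH.2⟩)) fun k hk => by
      obtain ⟨h1, h2⟩ := (hmem _).1 hk
      exact Subtype.ext (fixed_zclass P C hs hs0 hss h1 (mem_centralizer_singleton_iff.1 h2)
        (isConj_iff.2 ⟨(k : G), rfl⟩ : IsConj z _).symm)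
  set O := Cfsg.oddCore H with hO
  have hOn : O.Normal := CfsgLib.Solvable.pPrimeCore_normal 2 H
  have hOodd : ∀ n : O, Odd (orderOf ((n : H) : G)) := fun n => by
    rw [← H.subtype_apply, orderOf_injective H.subtype H.subtype_injective, orderOf_submonoid]
    exact (Invol.odd_card_oddCore H).of_dvd_nat (orderOf_dvd_natCard n)
  -- `z` inverts the core
  have hinv : ∀ n : O, z * ((n : H) : G) * z⁻¹ = ((n : H) : G)⁻¹ := by
    intro n
    let ψ : O →* O :=
      { toFun := fun m => ⟨⟨z, hzH⟩ * m * ⟨z, hzH⟩⁻¹, hOn.conj_mem _ m.2 _⟩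
        map_one' := Subtype.ext (by simp)
        map_mul' := fun a b => Subtype.ext (by simp [mul_assoc]) }
    have hψ : MonoidHom.FixedPointFree ψ := by
      intro m hm
      have hm' : z * ((m : H) : G) * z⁻¹ = ((m : H) : G) := congrArg (fun y : O => ((y : H) : G)) hm
      exact Subtype.ext (Subtype.ext (odd_cent P C M.half (m : H).2.1 (hOodd m) (IsConj.refl z)
        (z_commute_t P C M.half) (mul_inv_eq_iff_eq_mul.1 hm').symm))
    have hi : Function.Involutive ψ := fun m => Subtype.ext (Subtype.ext (by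
      show z * (z * ((m : H) : G) * z⁻¹) * z⁻¹ = _
      rw [show z * (z * ((m : H) : G) * z⁻¹) * z⁻¹ = (z * z) * ((m : H) : G) * (z * z)⁻¹ by group, P.S.zz]
      group))
    exact congrArg (fun y : O => ((y : H) : G)) (congrFun (hψ.coe_eq_inv_of_involutive hi) n)
  have hcomm : ∀ a b : O, ((a : H) : G) * ((b : H) : G) = ((b : H) : G) * ((a : H) : G) := by
    intro a b
    have h := hinv (a * b)
    simp only [Subgroup.coe_mul] at h
    rw [show z * (((a : H) : G) * ((b : H) : G)) * z⁻¹ = z * ((a : H) : G) * z⁻¹ * (z * ((b : H) : G) * z⁻¹) by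
      group, hinv, hinv, ← mul_inv_rev, inv_inj] at h
    exact h.symm
  -- `x` lies in the core
  obtain ⟨c, hc⟩ : ∃ c : O, ((c : H) : G) = z * x * z⁻¹ * x⁻¹ :=
    ⟨⟨_, Invol.zstar H hiso ⟨x, hxH⟩⟩, rfl⟩
  obtain ⟨d, hd⟩ : ∃ d : O, d * d = c := by
    obtain ⟨m, hm⟩ : Odd (orderOf c) := (Invol.odd_card_oddCore H).of_dvd_nat (orderOf_dvd_natCard c)
    exact ⟨c ^ (m + 1), by rw [← pow_add, show m + 1 + (m + 1) = orderOf c + 1 by omega, pow_succ,
      pow_orderOf_eq_one, one_mul]⟩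
  have hdx : ((d : H) : G) * x ∈ S := by
    refine mem_inf.2 ⟨M.half.inter _ (mem_Xg.2 ⟨?_, ?_⟩) (mul_mem (d : H).2.1 (D.L_le hx)),
      mem_centralizer_singleton_iff.2 ?_⟩
    · have e : z * (((d : H) : G) * x) * z⁻¹ = ((d : H) : G) * x := by
        rw [show z * (((d : H) : G) * x) * z⁻¹ = z * ((d : H) : G) * z⁻¹ * (z * x * z⁻¹ * x⁻¹) * x by group,
          hinv, ← hc, ← hd]
        simp only [Subgroup.coe_mul]
        rw [inv_mul_cancel_left]
      exact (mul_inv_eq_iff_eq_mul.1 e).symm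
    · exact ((show Commute ((d : H) : G) t from
        mem_centralizer_singleton_iff.1 (M.half.le (d : H).2.1)).mul_left (L_comm_t P C M D hx)).eq
    · exact ((show Commute ((d : H) : G) s from mem_centralizer_singleton_iff.1 (d : H).2.2).mul_left
        hsx.symm).eq
  have hxO : (⟨x, hxH⟩ : H) ∈ O := by
    obtain ⟨j, hj⟩ := (X0_pGroup P C M.half) ⟨_, hdx.1⟩
    have hj' : (((d : H) * ⟨x, hxH⟩ : H) : G) ^ (2 ^ j) = 1 := by
      simpa using congrArg Subtype.val hj
    rw [← Subgroup.coe_pow] at hj'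
    have h2 : ((d : H) * ⟨x, hxH⟩) ^ (2 ^ j) = 1 := Subtype.ext hj'
    have h3 := congrArg (QuotientGroup.mk' O) h2
    rw [map_pow, map_mul, (QuotientGroup.eq_one_iff _).2 d.2 |> fun h => (h : QuotientGroup.mk' O (d : H) = 1),
      one_mul, map_one, ← map_pow] at h3
    have hmem' : (⟨x, hxH⟩ : H) ^ (2 ^ j) ∈ O := (QuotientGroup.eq_one_iff _).1 h3
    obtain ⟨k, hk⟩ : ∃ k : ℕ, (⟨x, hxH⟩ : H) = ((⟨x, hxH⟩ : H) ^ (2 ^ j)) ^ k := by
      have hco : Nat.Coprime (2 ^ j) (orderOf (⟨x, hxH⟩ : H)) := by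
        rw [Subgroup.orderOf_mk]; exact (hodd.coprime_two_left).pow_left j
      obtain ⟨k, hk⟩ := exists_pow_eq_self_of_coprime hco
      exact ⟨k, hk.symm⟩
    rw [hk]; exact pow_mem hmem' k
  -- the core is `⟨x⟩`
  have hOx : ∀ n : O, ((n : H) : G) ∈ zpowers x := by
    intro n
    obtain ⟨e, he, i, hei⟩ := cent_odd P C M D hx ho (n : H).2.1 (hcomm n ⟨_, hxO⟩)
    have heO : (⟨e, mem_inf.2 ⟨mem_centralizer_iff.2 fun f hf =>
        LThreeFour.comm_of_sq M.sqE hf he, mem_centralizer_singleton_iff.2 (by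
          have h1 : Commute ((n : H) : G) s := mem_centralizer_singleton_iff.1 (n : H).2.2
          rw [show e = ((n : H) : G) * (x ^ i)⁻¹ by rw [hei, mul_inv_cancel_right]]
          exact (h1.mul_left ((show Commute x s from hsx.symm).zpow_left i).inv_left).eq)⟩⟩ : H) ∈ O := by
      convert mul_mem n.2 (inv_mem (zpow_mem hxO i)) using 1
      refine Subtype.ext ?_
      simp [hei]
    have h2 : orderOf e ∣ 2 := orderOf_dvd_of_pow_eq_one (by rw [pow_two, M.sqE e he])
    have hoo : Odd (orderOf e) := hOodd ⟨_, heO⟩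
    rcases (Nat.dvd_prime Nat.prime_two).1 h2 with h | h
    · rw [hei, orderOf_eq_one_iff.1 h, one_mul]; exact zpow_mem (mem_zpowers x) i
    · rw [h] at hoo; exact absurd hoo (by decide)
  have hact : ∀ g ∈ H, ∃ i : ℤ, g * x * g⁻¹ = x ^ i := fun g hg => by
    obtain ⟨i, hi⟩ := mem_zpowers_iff.1 (hOx ⟨⟨g, hg⟩ * ⟨x, hxH⟩ * ⟨g, hg⟩⁻¹, hOn.conj_mem _ hxO _⟩)
    exact ⟨i, hi.symm⟩
  obtain ⟨g, h, hg, hgs, hh, hhs, hgh⟩ := z_commutator P C hs hs0 hss
  have hgH : g ∈ H := mem_inf.2 ⟨M.half.X0_le hg, mem_centralizer_singleton_iff.2 hgs⟩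
  have hhH : h ∈ H := mem_inf.2 ⟨M.half.X0_le hh, mem_centralizer_singleton_iff.2 hhs⟩
  obtain ⟨a, ha⟩ := hact g hgH
  obtain ⟨b, hb⟩ := hact h hhH
  have e1 : g * h * x * (g * h)⁻¹ = h * g * x * (h * g)⁻¹ := by
    have p1 : ∀ (k : G) (i : ℤ), k * x ^ i * k⁻¹ = (k * x * k⁻¹) ^ i := fun k i => (conj_zpow).symm
    calc g * h * x * (g * h)⁻¹ = g * (h * x * h⁻¹) * g⁻¹ := by group
      _ = (x ^ a) ^ b := by rw [hb, p1, ha]
      _ = (x ^ b) ^ a := by rw [← zpow_mul, ← zpow_mul, mul_comm a b]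
      _ = h * (g * x * g⁻¹) * h⁻¹ := by rw [ha, p1, hb]
      _ = h * g * x * (h * g)⁻¹ := by group
  have hzx : z * x * z⁻¹ = x := by
    rw [← hgh]
    calc g * h * g⁻¹ * h⁻¹ * x * (g * h * g⁻¹ * h⁻¹)⁻¹ =
        g * h * ((h * g)⁻¹ * x * (h * g)) * (g * h)⁻¹ := by group
      _ = g * h * ((h * g)⁻¹ * x * (h * g)) * (g * h)⁻¹ := rfl
      _ = x := by
        obtain ⟨y, hy⟩ : ∃ y, y = (h * g)⁻¹ * x * (h * g) := ⟨_, rfl⟩
        have hy2 : y ∈ zpowers x := by
          obtain ⟨i, hi⟩ := hact (h * g)⁻¹ (inv_mem (mul_mem hhH hgH))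
          exact mem_zpowers_iff.2 ⟨i, by rw [hy, ← hi, inv_inv]⟩
        obtain ⟨i, hi⟩ := mem_zpowers_iff.1 hy2
        rw [← hy, ← hi, ← conj_zpow, e1, conj_zpow, hi, hy]
        group
  have hxinv := hinv ⟨_, hxO⟩
  change z * x * z⁻¹ = x⁻¹ at hxinv
  rw [hzx] at hxinv
  have h2 : orderOf x ∣ 2 := orderOf_dvd_of_pow_eq_one (by
    rw [pow_two]; conv_lhs => arg 2; rw [hxinv]
    exact mul_inv_cancel x)
  rcases ho with h | h <;> rw [h] at h2 <;> norm_num at h2

theorem outer_cent {g x : G} (hg : g * t = t * g) (hgE : g ∉ centralizer (E : Set G))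
    (hx : x ∈ L) (ho : orderOf x = 5 ∨ orderOf x = 7) : g * x ≠ x * g := by
  intro hgx
  have hidx : (centralizer (E : Set G)).relIndex (centralizer ({t} : Set G)) = 2 := M.half.idx
  -- the odd power of `g` squares into `E`
  have hgg : g * g ∈ centralizer (E : Set G) := mul_mem_half P C M.half hg hg hgE hgE
  obtain ⟨e, he, i, hei⟩ := cent_odd P C M D hx ho hgg
    ((show Commute g x from hgx).mul_left hgx).eq
  obtain ⟨k, hk⟩ : Odd (orderOf x) := by rcases ho with h | h <;> rw [h] <;> decide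
  set g1 := g ^ orderOf x with hg1
  have hg1x : g1 * x = x * g1 := ((show Commute g x from hgx).pow_left _).eq
  have hg1t : g1 * t = t * g1 := ((show Commute g t from hg).pow_left _).eq
  have hg1E : g1 ∉ centralizer (E : Set G) := by
    intro h
    refine hgE ?_
    have h2 : g ^ (2 * k) ∈ centralizer (E : Set G) := by rw [pow_mul, pow_two]; exact pow_mem hgg k
    have := mul_mem (inv_mem h2) h
    rwa [hg1, hk, pow_succ, inv_mul_cancel_left] at this
  have hg1sq : g1 * g1 = e := by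
    have hc : Commute e (x ^ i) := D.comm e he _ (zpow_mem hx i)
    rw [hg1, ← pow_two, pow_right_comm, pow_two, hei, hc.mul_pow, ← zpow_natCast (x ^ i), ← zpow_mul,
      mul_comm i, zpow_mul, zpow_natCast, pow_orderOf_eq_one, one_zpow, mul_one, hk, pow_succ, pow_mul,
      pow_two, M.sqE e he, one_pow, one_mul]
  obtain ⟨s0, hs0⟩ : ∃ s0, s0 = σ * g1 := ⟨_, rfl⟩
  have hσt := (mem_Xg.1 M.σ_X).2
  have hσE : σ ∉ centralizer (E : Set G) := fun h => M.σ_out (M.half.inter σ M.σ_X h)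
  have hσg : σ * g1 ∈ centralizer (E : Set G) := mul_mem_half P C M.half hσt hg1t hσE hg1E
  -- `g1` moves `E` as `σ` does
  have hmove : ∀ f ∈ E, f ≠ 1 → f ≠ t → g1 * f * g1⁻¹ = f * t := by
    intro f hf h1 h2
    have hinv : σ⁻¹ = σ := inv_eq_of_mul_eq_one_right M.σ_sq
    have hfix : σ * g1 * f * (σ * g1)⁻¹ = f := by
      rw [← mem_centralizer_iff.1 hσg f hf, mul_inv_cancel_right]
    calc g1 * f * g1⁻¹ = σ⁻¹ * (σ * g1 * f * (σ * g1)⁻¹) * σ := by group
      _ = σ * f * σ⁻¹ := by rw [hfix, hinv]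
      _ = f * t := M.σ_move f hf h1 h2
  have het : e = 1 ∨ e = t := by
    by_contra hno
    push Not at hno
    have hm := hmove e he hno.1 hno.2
    rw [← hg1sq] at hm
    rw [show g1 * (g1 * g1) * g1⁻¹ = g1 * g1 by group, hg1sq] at hm
    exact t_ne P C (mul_eq_left.1 hm.symm)
  -- an involution
  obtain ⟨e1, he1, he11, he1t⟩ : ∃ e1 ∈ E, e1 ≠ 1 ∧ e1 ≠ t := by
    by_contra hno
    push Not at hno
    classical
    have hsub : (E : Set G) ⊆ {1, t} := fun f hf => by
      by_cases h : f = 1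
      · exact Or.inl h
      · exact Or.inr (hno f hf h)
    have := Set.ncard_le_ncard hsub (Set.toFinite _)
    rw [← Nat.card_coe_set_eq, show Nat.card (E : Set G) = 4 from M.cardE] at this
    have := this.trans (Set.ncard_insert_le _ _)
    rw [Set.ncard_singleton] at this
    omega
  obtain ⟨s, hs, hst, hsE, hsx⟩ : ∃ s : G, s * s = 1 ∧ s * t = t * s ∧ s ∉ centralizer (E : Set G) ∧
      s * x = x * s := by
    rcases het with e' | e'
    · exact ⟨g1, by rw [hg1sq, e'], hg1t, hg1E, hg1x⟩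
    · have he1t' : e1 * t = t * e1 := LThreeFour.comm_of_sq M.sqE he1 M.t_mem
      have he1K : e1 ∈ centralizer (E : Set G) :=
        mem_centralizer_iff.2 fun f hf => LThreeFour.comm_of_sq M.sqE hf he1
      refine ⟨g1 * e1, ?_, ((show Commute g1 t from hg1t).mul_left he1t').eq, fun h => hg1E ?_,
        ((show Commute g1 x from hg1x).mul_left (D.comm e1 he1 x hx)).eq⟩
      · rw [show g1 * e1 * (g1 * e1) = g1 * e1 * g1⁻¹ * (g1 * g1) * e1 by group, hg1sq, e',
          hmove e1 he1 he11 he1t, mul_assoc e1 t t, C.sq, mul_one, M.sqE e1 he1]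
      · simpa using mul_mem h (inv_mem he1K)
  -- into the Sylow subgroup
  have : Fact (Nat.Prime 2) := ⟨Nat.prime_two⟩
  obtain ⟨k', hk', hk'R⟩ := exists_conj_le (K := centralizer ({t} : Set G)) inf_le_right
    (isSylow_X P C).1 (isSylow_X P C).2 (R := zpowers s)
    (zpowers_le.2 (mem_centralizer_singleton_iff.2 hst))
    (IsPGroup.of_card (n := 1) (by
      rw [Nat.card_zpowers, orderOf_eq_prime (by rw [pow_two, hs]) fun e => hsE (by rw [e]; exact one_mem _), pow_one]))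
  have hk't := mem_centralizer_singleton_iff.1 hk'
  refine no_outer_invol P C M D (hk'R s (mem_zpowers s)) (fun h => hsE ?_) ?_
    (L_normal P C M D hk't x hx) ?_ ?_
  · refine mem_centralizer_iff.2 fun f hf => ?_
    have hf' := M.normal k' hk't f hf
    have := mem_centralizer_iff.1 (M.half.X0_le h) _ hf'
    calc f * s = k'⁻¹ * (k' * f * k'⁻¹ * (k' * s * k'⁻¹)) * k' := by group
      _ = s * f := by rw [this]; group
  · rw [show k' * s * k'⁻¹ * (k' * s * k'⁻¹) = k' * (s * s) * k'⁻¹ by group, hs]; group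
  · rwa [Invol.orderOf_conj_eq]
  · calc k' * s * k'⁻¹ * (k' * x * k'⁻¹) = k' * (s * x) * k'⁻¹ := by group
      _ = k' * x * k'⁻¹ * (k' * s * k'⁻¹) := by rw [hsx]; group

end CfsgLib.InvChar.SuzT
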