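import Cfsg.Agent.Lib.InvChar.SuzType.Main

/-!
# Parameters in `C_Q(u) C_{Q'}(z)`

An element `a * b` of this group has as parameters the images of `φ a` and `ww b` in `e1⊥/e1`; they
determine it up to the four group `R`. An involution is conjugate to `z` exactly when the two images
are orthogonal.
-/

set_option autoImplicit false
set_option linter.unusedSectionVars false

namespace CfsgLib.InvChar.SuzT

open Subgroup SuzType

/-- The space `e1⊥/e1`. -/
abbrev W : Type := Pl × Pl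

/-- The form on `W`. -/
def qW (x : W) : ZMod 2 := qf ((0, 0), x)

/-- The bilinear form on `W`. -/
def bW (x y : W) : ZMod 2 := bf ((0, 0), x) ((0, 0), y)

theorem emb_perp : ∀ x : W, bf (((0, 0), x) : V) e1 = 0 := by decide +kernel

set_option synthInstance.maxSize 1000 in
set_option synthInstance.maxHeartbeats 400000 in
theorem par_sing : ∀ x y : W, qW x = 0 → qW y = 0 → bW x y = 0 → x = 0 ∨ y = 0 ∨ x = y := by
  unfold qW bW
  decide +kernel

variable {G : Type*} [Group G] [Finite G] {z u : G} {Q Q' : Subgroup G} {φ φ' : G → V}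

/-- `g = a * b` with the given parameters. -/
def HasPar (P : Pair z u Q Q' φ φ') (g : G) (p : W × W) : Prop :=
  ∃ a ∈ Q, ∃ b ∈ Q', a * u = u * a ∧ b * z = z * b ∧ g = a * b ∧ (φ a).2 = p.1 ∧ (P.ww b).2 = p.2

variable (P : Pair z u Q Q' φ φ')
include P

theorem qf_par {a : V} (ha : bf a e1 = 0) : qf a = qW a.2 :=
  qf_congr ha (emb_perp _) rfl

theorem bf_par {a b : V} (ha : bf a e1 = 0) (hb : bf b e1 = 0) : bf a b = bW a.2 b.2 := by
  rw [bW, bf_congr ha hb (emb_perp b.2) (show b.2 = ((((0, 0), b.2) : V)).2 from rfl),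
    bf_symm, bf_congr (emb_perp _) ha (emb_perp a.2) (show a.2 = ((((0, 0), a.2) : V)).2 from rfl),
    bf_symm]

namespace HasPar

theorem comm_z {g : G} {p : W × W} (h : HasPar P g p) : g * z = z * g := by
  obtain ⟨a, ha, b, hb, hau, hbz, rfl, -, -⟩ := h
  exact mul_comm_z (P.S.commQ ha) hbz

theorem comm_u {g : G} {p : W × W} (h : HasPar P g p) : g * u = u * g := by
  obtain ⟨a, ha, b, hb, hau, hbz, rfl, -, -⟩ := h
  exact mul_comm_z hau (P.T.commQ hb)

theorem exists_elt (p : W × W) : ∃ g, HasPar P g p := by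
  obtain ⟨a, ha, e⟩ := P.S.hsurj ((0, 0), p.1)
  obtain ⟨b, hb, hbz, e'⟩ := P.exists_ww (emb_perp p.2)
  exact ⟨a * b, a, ha, b, hb, (P.comm_u ha).2 (e ▸ emb_perp _), hbz, rfl, by rw [e], e'⟩

theorem of_inR {r : G} (h : P.InR r) : HasPar P r 0 :=
  ⟨r, (Pair.InR.mem P h).1, 1, one_mem _, by
    rcases h with h | h | h | h <;> subst h
    · simp
    · exact P.zu
    · rfl
    · rw [← mul_assoc u z u, ← P.zu], by simp, by simp,
    (Pair.InR.phi_snd P h).1, by rw [P.ww_one]; rfl⟩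

theorem one : HasPar P 1 0 := of_inR P (Or.inl rfl)

theorem ext_par {g : G} {p q : W × W} (h : HasPar P g p) (h' : HasPar P g q) : p = q := by
  obtain ⟨a, ha, b, hb, hau, hbz, rfl, e1', e2'⟩ := h
  obtain ⟨a', ha', b', hb', hau', hbz', e, e1'', e2''⟩ := h'
  have hk : a'⁻¹ * a = b' * b⁻¹ := by
    calc a'⁻¹ * a = a'⁻¹ * (a * b) * b⁻¹ := by group
      _ = b' * b⁻¹ := by rw [e]; group
  have hR : P.InR (a'⁻¹ * a) := P.inter (mul_mem (inv_mem ha') ha) (hk ▸ mul_mem hb' (inv_mem hb))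
  have h1 := (Pair.InR.phi_snd P hR).1
  have h2 := P.ww_of_inR (hk ▸ hR)
  rw [P.S.hadd _ (inv_mem ha') _ ha, P.S.phi_inv ha', Prod.snd_add, e1', e1''] at h1
  have hinv : (P.ww b⁻¹).2 = (P.ww b).2 := by
    have h0 := P.ww_mul (inv_mem hb) (inv_comm_z hbz) hb hbz
    rw [inv_mul_cancel, P.ww_one] at h0
    calc (P.ww b⁻¹).2 = (P.ww b⁻¹).2 + ((P.ww b).2 + (P.ww b).2) := by
          rw [← Prod.snd_add, v_self]; simp
      _ = (P.ww b).2 := by rw [← add_assoc, ← h0, zero_add]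
  rw [P.ww_mul hb' hbz' (inv_mem hb) (inv_comm_z hbz), hinv, e2', e2''] at h2
  have key : ∀ x y : W, x + y = 0 → x = y := by decide +kernel
  exact Prod.ext (key _ _ h1).symm (key _ _ h2).symm

theorem inR_of_zero {g : G} (h : HasPar P g 0) : P.InR g := by
  obtain ⟨a, ha, b, hb, hau, hbz, rfl, e1', e2'⟩ := h
  obtain ⟨i, j, hij⟩ := Pair.InR.exists_zp P (P.inR_of_phi ha hau e1')
  obtain ⟨k, l, hkl⟩ := Pair.InR.exists_zp P (P.mem_of_ww hb hbz e2')
  rw [hij, hkl]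
  show P.InR (P.cz i j * P.cz k l)
  rw [← P.cz_add]
  exact P.inR_cz _ _

theorem mul {g g' : G} {p p' : W × W} (h : HasPar P g p) (h' : HasPar P g' p') :
    HasPar P (g * g') (p + p') := by
  obtain ⟨a, ha, b, hb, hau, hbz, rfl, e1', e2'⟩ := h
  obtain ⟨a', ha', b', hb', hau', hbz', rfl, e1'', e2''⟩ := h'
  obtain ⟨e, he⟩ : ∃ e, e = bf (φ a') (P.ww b) := ⟨_, rfl⟩
  have hc : b * a' = P.cz e e * (a' * b) := by
    rw [he, P.comm ha' hau' hb hbz, P.zp_zu, ← mul_assoc, ← P.cz_add, z2_self, P.cz_zero, one_mul]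
  have hr := P.inR_cz e e
  obtain ⟨hrQ, -⟩ := Pair.InR.mem P hr
  have hru : P.cz e e * u = u * P.cz e e := by
    rw [← P.cz_comm (m := u) P.zu.symm rfl]
  refine ⟨a * P.cz e e * a', mul_mem (mul_mem ha hrQ) ha', b * b', mul_mem hb hb', ?_,
    mul_comm_z hbz hbz', ?_, ?_, ?_⟩
  · exact mul_comm_z (mul_comm_z hau hru) hau'
  · calc a * b * (a' * b') = a * (b * a') * b' := by group
      _ = a * P.cz e e * a' * (b * b') := by rw [hc]; group
  · rw [P.S.hadd _ (mul_mem ha hrQ) _ ha', P.S.hadd _ ha _ hrQ, Prod.snd_add, Prod.snd_add,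
      (Pair.InR.phi_snd P hr).1, add_zero, e1', e1'']
    rfl
  · rw [P.ww_mul hb hbz hb' hbz', e2', e2'']; rfl

theorem rel {g g' : G} {p p' : W × W} (h : HasPar P g p) (h' : HasPar P g' p') :
    P.Rel g g' (bW p.1 p'.1 + bW p.1 p'.2 + bW p'.1 p.2)
      (bW p.2 p'.2 + bW p.1 p'.2 + bW p'.1 p.2) := by
  obtain ⟨a, ha, b, hb, hau, hbz, rfl, e1', e2'⟩ := h
  obtain ⟨a', ha', b', hb', hau', hbz', rfl, e1'', e2''⟩ := h'
  have := P.rel ha hau hb hbz ha' hau' hb' hbz'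
  rwa [bf_par P ((P.comm_u ha).1 hau) ((P.comm_u ha').1 hau'),
    bf_par P ((P.comm_u ha).1 hau) (P.ww_perp hb' hbz'),
    bf_par P ((P.comm_u ha').1 hau') (P.ww_perp hb hbz),
    bf_par P (P.ww_perp hb hbz) (P.ww_perp hb' hbz'), e1', e2', e1'', e2''] at this

theorem sq {g : G} {p : W × W} (h : HasPar P g p) :
    g * g = P.cz (qW p.1 + bW p.1 p.2) (qW p.2 + bW p.1 p.2) := by
  obtain ⟨a, ha, b, hb, hau, hbz, rfl, e1', e2'⟩ := h
  rw [← e1', ← e2', ← qf_par P ((P.comm_u ha).1 hau), ← qf_par P (P.ww_perp hb hbz),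
    ← bf_par P ((P.comm_u ha).1 hau) (P.ww_perp hb hbz)]
  have e : b * a = P.cz (bf (φ a) (P.ww b)) (bf (φ a) (P.ww b)) * (a * b) := by
    rw [P.comm ha hau hb hbz, P.zp_zu, ← mul_assoc, ← P.cz_add, z2_self, P.cz_zero, one_mul]
  calc a * b * (a * b) = a * (b * a) * b := by group
    _ = a * P.cz (bf (φ a) (P.ww b)) (bf (φ a) (P.ww b)) * a * (b * b) := by rw [e]; group
    _ = P.cz (bf (φ a) (P.ww b)) (bf (φ a) (P.ww b)) * (a * a) * (b * b) := by
      rw [P.cz_comm (P.S.commQ ha) hau]; group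
    _ = P.cz (bf (φ a) (P.ww b)) (bf (φ a) (P.ww b)) * P.cz (qf (φ a)) 0 *
        P.cz 0 (qf (P.ww b)) := by
      rw [P.S.hsq a ha, P.sq hb hbz]; simp [Pair.cz, zp_zero, mul_assoc]
    _ = _ := by rw [← P.cz_add, ← P.cz_add]; congr 1 <;> abel

theorem inv {g : G} {p : W × W} (h : HasPar P g p) : HasPar P g⁻¹ p := by
  have hs := sq P h
  have h' := mul P (of_inR P (P.inR_cz (qW p.1 + bW p.1 p.2) (qW p.2 + bW p.1 p.2))) h
  rw [zero_add, ← hs] at h'
  have e : g⁻¹ = g * (g * g)⁻¹ := by group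
  have hr : (g * g)⁻¹ = g * g := by
    rw [hs, inv_eq_iff_mul_eq_one, ← P.cz_add, z2_self, z2_self, P.cz_zero]
  rw [e, hr, ← mul_assoc]
  exact h'

end HasPar

/-- A conjugate in `Q` of an involution orthogonal to itself. -/
theorem isConj_z_of_par {g : G} {p : W × W} (h : HasPar P g p) (hgg : g * g = 1) (hg1 : g ≠ 1)
    (hp : bW p.1 p.2 = 0) : IsConj g z := by
  have hs := HasPar.sq P h
  rw [hgg, hp, add_zero, add_zero] at hs
  obtain ⟨hq1, hq2⟩ := P.cz_eq_one hs.symm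
  obtain ⟨a, ha, b, hb, hau, hbz, rfl, e1', e2'⟩ := h
  obtain ⟨g₀, hg₀, hQ'⟩ := P.conj
  have hu : IsConj u z := (isConj_iff.2 ⟨g₀, hg₀⟩).symm
  have hpp : p.1 = 0 ∨ p.2 = 0 ∨ p.1 = p.2 := by
    have key : ∀ x y : W, qW x = 0 → qW y = 0 → bW x y = 0 → x = 0 ∨ y = 0 ∨ x = y := par_sing
    exact key _ _ hq1 hq2 hp
  have inQ' : ∀ x ∈ Q', x * x = 1 → x ≠ 1 → IsConj x z := fun x hx h1 h2 =>
    (P.symm.isConj_of_mem hx h1 h2).trans hu
  rcases hpp with h0 | h0 | h0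
  · exact inQ' _ (mul_mem (Pair.InR.mem P (P.inR_of_phi ha hau (e1'.trans h0))).2 hb) hgg hg1
  · exact P.isConj_of_mem (mul_mem ha (Pair.InR.mem P (P.mem_of_ww hb hbz (e2'.trans h0))).1) hgg hg1
  · set c := P.yv * b * P.yv⁻¹ * b⁻¹
    have hc : c ∈ Q := P.cc_mem hbz
    have hcu : c * u = u * c := P.cc_u hb hbz
    have hr : P.InR (a * c⁻¹) := by
      refine P.inR_of_phi (mul_mem ha (inv_mem hc)) (mul_comm_z hau (inv_comm_z hcu)) ?_
      rw [P.S.hadd a ha _ (inv_mem hc), P.S.phi_inv hc, P.cc_phi hbz, Prod.snd_add, e1', h0, e2',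
        show p.2 + p.2 = 0 from (by decide +kernel : ∀ x : W, x + x = 0) _]
    have hmem : a * b ∈ Q'.map (MulAut.conj P.yv).toMonoidHom := by
      rw [show a * b = a * c⁻¹ * (P.yv * b * P.yv⁻¹) by simp only [c]; group]
      refine mul_mem ?_ ⟨b, hb, rfl⟩
      have hu' : u ∈ Q'.map (MulAut.conj P.yv).toMonoidHom := P.third.mem'
      have hz' : z ∈ Q'.map (MulAut.conj P.yv).toMonoidHom :=
        ⟨z, P.mem', by simp [P.S.conjZ (P.S.commQ P.yv_mem)]⟩
      rcases hr with h | h | h | h <;> rw [h]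
      exacts [one_mem _, hz', hu', mul_mem hz' hu']
    refine (P.third.symm.isConj_of_mem hmem hgg hg1).trans ?_
    exact ((isConj_iff.2 ⟨P.yv, rfl⟩ : IsConj u (P.yv * u * P.yv⁻¹)).symm).trans hu

end CfsgLib.InvChar.SuzT
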