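import Cfsg.Agent.Lib.InvChar.SuzT.SevenSmall
import Cfsg.Agent.Lib.Geom.FourGroupNormalizer
import Mathlib.GroupTheory.SpecificGroups.Cyclic
import Mathlib.GroupTheory.NoncommCoprod

/-!
# The Sylow seven-subgroup of a group of Suzuki type

From a `TFrame`: the centraliser of a Sylow 7-subgroup is `Z₇ × A₄` and its normaliser has order 504.
-/

set_option autoImplicit false

namespace CfsgLib.InvChar.SuzT

open Subgroup CfsgLib.Invol

universe u

variable {G : Type u} [Group G] [Finite G] {z : G}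

theorem mem_normalizer_zpowers {g y : G} (h : g * y * g⁻¹ ∈ zpowers y) :
    g ∈ normalizer (zpowers y : Set G) := by
  have e : (zpowers y).map (MulAut.conj g).toMonoidHom = zpowers y := by
    rw [MonoidHom.map_zpowers]
    refine eq_of_le_of_card_ge (zpowers_le.2 h) ?_
    rw [Nat.card_zpowers, Nat.card_zpowers]
    show orderOf y ≤ orderOf (g * y * g⁻¹)
    rw [orderOf_conj_eq]
  refine mem_normalizer_iff.2 fun d => ⟨fun hd => e ▸ (⟨d, hd, rfl⟩ : g * d * g⁻¹ ∈
    (zpowers y).map (MulAut.conj g).toMonoidHom), fun hd => ?_⟩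
  rw [← e] at hd
  obtain ⟨d', hd', e'⟩ := hd
  change g * d' * g⁻¹ = g * d * g⁻¹ at e'
  rwa [← mul_left_cancel (mul_right_cancel e')]

namespace TFrame

variable (F : TFrame z)
include F

theorem exists_seven : ∃ y ∈ F.L, orderOf y = 7 := by
  haveI : Fact (Nat.Prime 7) := ⟨by norm_num⟩
  obtain ⟨y, hy⟩ := exists_prime_orderOf_dvd_card' (G := ↥F.L) 7 (by rw [F.cardL]; norm_num)
  exact ⟨y, y.2, by rw [orderOf_coe]; exact hy⟩

/-- An element of `C(t)` outside `C(E)` normalising `⟨y⟩`. -/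
theorem exists_outer_normalizing {y : G} (hy : y ∈ F.L) (hy7 : orderOf y = 7) :
    ∃ g, g * F.t = F.t * g ∧ g ∉ centralizer (F.E : Set G) ∧ g * y * g⁻¹ ∈ zpowers y := by
  haveI : Fact (Nat.Prime 7) := ⟨by norm_num⟩
  set e₁ := F.d * F.t * F.d⁻¹ with he₁
  have he₁E : e₁ ∈ F.E := F.d_norm _ F.t_mem
  have he₁1 : e₁ ≠ 1 := fun h => F.t_ne (conj_eq_one_iff.1 h)
  have hσt : F.σ * F.t * F.σ⁻¹ = F.t := by rw [F.σ_mem, mul_inv_cancel_right]
  have hσE : F.σ ∉ centralizer (F.E : Set G) := fun h => F.t_ne (by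
    have h1 := F.σ_move _ he₁E he₁1 F.d_move
    rw [← mem_centralizer_iff.1 h _ he₁E, mul_inv_cancel_right] at h1
    exact mul_eq_left.1 h1.symm)
  have hσ : ∀ e ∈ F.E, F.σ * e * F.σ⁻¹ ∈ F.E := by
    intro e he
    by_cases h1 : e = 1
    · rw [h1]; simp
    by_cases h2 : e = F.t
    · rw [h2, hσt]; exact F.t_mem
    rw [F.σ_move e he h1 h2]; exact mul_mem he F.t_mem
  have hσy : F.σ * y * F.σ⁻¹ ∈ centralizer (F.E : Set G) := by
    refine mem_centralizer_iff.2 fun e he => ?_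
    obtain ⟨e', he', rfl⟩ : ∃ e' ∈ F.E, F.σ * e' * F.σ⁻¹ = e := by
      haveI : Finite ↥F.E := inferInstance
      obtain ⟨⟨e', he'⟩, h⟩ := (Finite.injective_iff_surjective.1 (fun a b h =>
        Subtype.ext (mul_left_cancel (mul_right_cancel (congrArg Subtype.val h :)))) :
        Function.Surjective fun a : ↥F.E => (⟨F.σ * a * F.σ⁻¹, hσ _ a.2⟩ : ↥F.E)) ⟨e, he⟩
      exact ⟨e', he', congrArg Subtype.val h⟩
    calc F.σ * e' * F.σ⁻¹ * (F.σ * y * F.σ⁻¹) = F.σ * (e' * y) * F.σ⁻¹ := by group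
      _ = F.σ * (y * e') * F.σ⁻¹ := by rw [F.comm e' he' y hy]
      _ = _ := by group
  obtain ⟨e, he, l, hl, hel⟩ := (F.cent_E _).1 hσy
  have h7 : (F.σ * y * F.σ⁻¹) ^ 7 = 1 := by
    rw [conj_pow, show y ^ 7 = 1 by rw [← hy7, pow_orderOf_eq_one]]; group
  rw [hel, (show Commute e l from F.comm e he l hl).mul_pow,
    show e ^ 7 = e by rw [show 7 = 2 * 3 + 1 from rfl, pow_succ, pow_mul, pow_two, F.sqE e he, one_pow,
      one_mul]] at h7
  have he1 : e = 1 := F.disj e he (by
    rw [eq_inv_of_mul_eq_one_left h7]; exact inv_mem (pow_mem hl 7))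
  rw [he1, one_mul] at hel
  have hl7 : orderOf l = 7 := by rw [← hel, orderOf_conj_eq]; exact hy7
  -- Sylow subgroups of the component
  have hsyl : ∀ v (hv : v ∈ F.L), orderOf v = 7 → ∃ P : Sylow 7 ↥F.L, (P : Subgroup ↥F.L) = zpowers ⟨v, hv⟩ := by
    intro v hv hv7
    have hc : Nat.card ↥(zpowers (⟨v, hv⟩ : ↥F.L)) = 7 := by rw [Nat.card_zpowers, ← orderOf_coe]; exact hv7
    refine ⟨(IsPGroup.of_card (n := 1) (hc.trans (pow_one 7).symm)).toSylow ?_, rfl⟩
    intro h
    have h' : 7 ∣ (zpowers (⟨v, hv⟩ : ↥F.L)).index := h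
    have h2 := (zpowers (⟨v, hv⟩ : ↥F.L)).card_mul_index
    rw [hc, F.cardL] at h2
    omega
  obtain ⟨P, hP⟩ := hsyl y hy hy7
  obtain ⟨P', hP'⟩ := hsyl l hl hl7
  obtain ⟨h, hh⟩ := MulAction.exists_smul_eq ↥F.L P P'
  have hmem : (⟨l, hl⟩ : ↥F.L) ∈ (P : Subgroup ↥F.L).map (MulAut.conj h).toMonoidHom := by
    have h1 : (⟨l, hl⟩ : ↥F.L) ∈ (P' : Subgroup ↥F.L) := hP'.symm ▸ mem_zpowers _
    rw [← hh, Sylow.coe_subgroup_smul] at h1
    obtain ⟨v, hv, hv'⟩ := h1
    exact ⟨v, hv, hv'⟩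
  obtain ⟨v, hv, hv'⟩ := hmem
  rw [hP] at hv
  have hv'' : (h : G) * v * (h : G)⁻¹ = l := congrArg Subtype.val hv'
  refine ⟨(h : G)⁻¹ * F.σ, ?_, ?_, ?_⟩
  · have h1 : (h : G)⁻¹ * F.t = F.t * (h : G)⁻¹ := ((show Commute F.t (h : G) from F.comm _ F.t_mem _ h.2).inv_right).eq.symm
    rw [mul_assoc, F.σ_mem, ← mul_assoc, h1, mul_assoc]
  · intro hc
    refine hσE ?_
    have := mul_mem (F.L_le h.2) hc
    rwa [mul_inv_cancel_left] at this
  · rw [show (h : G)⁻¹ * F.σ * y * ((h : G)⁻¹ * F.σ)⁻¹ = (h : G)⁻¹ * (F.σ * y * F.σ⁻¹) * h by group, hel, ← hv'',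
      show (h : G)⁻¹ * ((h : G) * v * (h : G)⁻¹) * h = v by group]
    obtain ⟨i, hi⟩ := mem_zpowers_iff.1 hv
    exact mem_zpowers_iff.2 ⟨i, congrArg Subtype.val hi⟩

end TFrame

namespace Split

variable {F : TFrame z} {y : G} {D : Subgroup G} (S : Split F y D)
include S

theorem card_D : Nat.card ↥D = 12 := S.card_cases.resolve_right fun h => S.false_of_sixty h

theorem card_C : Nat.card ↥(centralizer ({y} : Set G)) = 84 := by rw [S.card_cent, S.card_D]

theorem equiv_altFour : Nonempty (↥D ≃* alternatingGroup (Fin 4)) := by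
  have hbig : 4 < Nat.card ↥D := by rw [S.card_D]; norm_num
  obtain ⟨-, hn⟩ := (S.cent.cases hbig).resolve_right (by rw [S.card_D]; norm_num)
  haveI := hn
  set W := F.E.subgroupOf D with hW
  haveI : Nontrivial ↥W := Finite.one_lt_card_iff_nontrivial.1 (by rw [S.cent.1]; norm_num)
  haveI : IsKleinFour ↥W := ⟨S.cent.1, (Monoid.exponent_eq_prime_iff Nat.prime_two).2 fun g hg =>
    orderOf_eq_prime (by rw [pow_two]; exact Subtype.ext (S.cent.2.1 g g.2)) hg⟩
  refine CfsgLib.Geom.FourGroup.equiv_altFour W (le_antisymm (fun c hc => ?_) fun c hc => ?_) S.card_D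
  · obtain ⟨w, hw⟩ := exists_ne (1 : ↥W)
    exact S.cent.2.2 w w.2 (fun e => hw (Subtype.ext e)) c (mem_centralizer_iff.1 hc w w.2).symm
  · exact mem_centralizer_iff.2 fun w hw => S.cent.comm w hw c hc

theorem equiv_cent :
    Nonempty (↥(centralizer ({y} : Set G)) ≃* Multiplicative (ZMod 7) × alternatingGroup (Fin 4)) := by
  obtain ⟨eA⟩ := S.equiv_altFour
  let ψ : ↥(zpowers y) × ↥D →* G := MonoidHom.noncommCoprod (zpowers y).subtype D.subtype fun a h => by
    obtain ⟨i, hi⟩ := mem_zpowers_iff.1 a.2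
    show Commute (a : G) (h : G)
    rw [← hi]
    exact ((show Commute (h : G) y from S.comm h h.2).zpow_right i).symm
  have hψ : ∀ a h, ψ (a, h) = (a : G) * h := fun a h => MonoidHom.noncommCoprod_apply _ _ _ _
  have hinj : Function.Injective ψ := by
    rw [injective_iff_map_eq_one]
    rintro ⟨a, h⟩ e
    rw [hψ] at e
    have haD : (a : G) ∈ D := by rw [eq_inv_of_mul_eq_one_left e]; exact inv_mem h.2
    have ha := S.disj _ a.2 haD
    rw [ha, one_mul] at e
    exact Prod.ext (Subtype.ext ha) (Subtype.ext e)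
  have hrange : ψ.range = centralizer ({y} : Set G) := by
    refine le_antisymm ?_ fun g hg => ?_
    · rintro _ ⟨⟨a, h⟩, rfl⟩
      rw [hψ]
      exact mul_mem (zpowers_le.2 (mem_centralizer_singleton_iff.2 rfl) a.2)
        (mem_centralizer_singleton_iff.2 (S.comm h h.2))
    · obtain ⟨a, ha, h, hh, rfl⟩ := S.cover g (mem_centralizer_singleton_iff.1 hg)
      exact ⟨(⟨a, ha⟩, ⟨h, hh⟩), hψ _ _⟩
  haveI : IsCyclic ↥(zpowers y) := (zpowers y).isCyclic_iff_exists_zpowers_eq_top.2 ⟨y, rfl⟩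
  let e7 : ↥(zpowers y) ≃* Multiplicative (ZMod 7) := mulEquivOfCyclicCardEq (by
    rw [Nat.card_zpowers, S.hy7, Nat.card_congr (Multiplicative.toAdd), Nat.card_zmod])
  exact ⟨((MulEquiv.subgroupCongr hrange.symm).trans (MonoidHom.ofInjective hinj).symm).trans
    (e7.prodCongr eA)⟩

theorem card_normalizer : Nat.card ↥(normalizer (zpowers y : Set G)) = 504 := by
  classical
  haveI : Fact (Nat.Prime 3) := ⟨Nat.prime_three⟩
  set N := normalizer (zpowers y : Set G) with hN
  set Cy := centralizer ((zpowers y : Subgroup G) : Set G) with hCy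
  have hCy' : Cy = centralizer ({y} : Set G) := by rw [hCy, zpowers_eq_closure, centralizer_closure]
  have hCN : Cy ≤ N := by
    rw [hCy']
    intro c hc
    refine mem_normalizer_zpowers ?_
    rw [mem_centralizer_singleton_iff.1 hc, mul_inv_cancel_right]
    exact mem_zpowers y
  let φ := (zpowers y).normalizerMonoidHom
  have hker : φ.ker = Cy.subgroupOf N := normalizerMonoidHom_ker _
  have hk : Nat.card ↥φ.ker = 84 := by
    rw [hker, Nat.card_congr (subgroupOfEquivOfLe hCN).toEquiv, hCy', S.card_C]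
  haveI : IsCyclic ↥(zpowers y) := (zpowers y).isCyclic_iff_exists_zpowers_eq_top.2 ⟨y, rfl⟩
  have hr6 : Nat.card ↥φ.range ∣ 6 := by
    have h := φ.range.card_subgroup_dvd_card
    rwa [IsCyclic.card_mulAut, Nat.card_zpowers, S.hy7, Nat.totient_prime (by norm_num : Nat.Prime 7)] at h
  have key : ∀ v (hv : v ∈ N), φ ⟨v, hv⟩ = 1 → v * y = y * v := by
    intro v hv h
    have h1 : (⟨v, hv⟩ : ↥N) ∈ φ.ker := MonoidHom.mem_ker.2 h
    rw [hker, mem_subgroupOf, hCy'] at h1
    exact mem_centralizer_singleton_iff.1 h1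
  have h3 : 3 ∣ Nat.card ↥φ.range := by
    obtain ⟨n, hn⟩ := exists_prime_orderOf_dvd_card' (G := ↥(N ⊓ F.L)) 3 (by
      rw [F.L_norm _ (zpowers_le.2 S.hy) (by rw [Nat.card_zpowers, S.hy7])]; norm_num)
    rw [← orderOf_coe] at hn
    have ho : orderOf (φ ⟨(n : G), n.2.1⟩) = 3 := by
      refine orderOf_eq_prime ?_ fun h => ?_
      · rw [← map_pow]
        have : (⟨(n : G), n.2.1⟩ : ↥N) ^ 3 = 1 := Subtype.ext (by
          have h := pow_orderOf_eq_one (n : G)
          rwa [hn] at h)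
        rw [this, map_one]
      · have := orderOf_dvd_of_mem_zpowers (F.L_self y S.hy (Or.inr S.hy7) n n.2.2 (key _ _ h))
        rw [hn, S.hy7] at this
        norm_num at this
    exact ho ▸ φ.range.orderOf_dvd_natCard ⟨_, rfl⟩
  have h2 : 2 ∣ Nat.card ↥φ.range := by
    obtain ⟨g, hgt, hgE, hgy⟩ := F.exists_outer_normalizing S.hy S.hy7
    set a := φ ⟨g, mem_normalizer_zpowers hgy⟩ with ha
    have hd : orderOf a ∣ Nat.card ↥φ.range := φ.range.orderOf_dvd_natCard ⟨_, rfl⟩
    refine dvd_trans ?_ hd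
    by_contra hodd
    have h6 : orderOf a ∣ 6 := hd.trans hr6
    have h3' : orderOf a ∣ 3 := (Nat.Coprime.dvd_of_dvd_mul_left
      ((Nat.prime_two.coprime_iff_not_dvd).2 hodd).symm (show orderOf a ∣ 2 * 3 from h6))
    -- an odd power of `g` is outside `C(E)` and centralises `y`
    have ha3 : a ^ 3 = 1 := orderOf_dvd_iff_pow_eq_one.1 h3'
    rw [ha, ← map_pow] at ha3
    have hgy3 : g ^ 3 * y = y * g ^ 3 := key _ ((⟨g, mem_normalizer_zpowers hgy⟩ : ↥N) ^ 3).2 ha3
    have hsq : g * g ∈ centralizer (F.E : Set G) := by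
      rcases F.cent_t g hgt with h | h
      · exact absurd h hgE
      rcases F.cent_t (g * g) (by rw [mul_assoc, hgt, ← mul_assoc, hgt, mul_assoc]) with h' | h'
      · exact h'
      · refine absurd ?_ hgE
        -- `g = (g g σ⁻¹) (g σ⁻¹)⁻¹` up to conjugation
        have h1 : g ∈ normalizer (centralizer (F.E : Set G) : Set G) := by
          refine mem_normalizer_iff.2 fun v => ?_
          have hgE' : ∀ e ∈ F.E, g * e * g⁻¹ ∈ F.E := by
            intro e he
            have hge : g = g * F.σ⁻¹ * F.σ := by group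
            obtain ⟨e', he', l, hl, hel⟩ := (F.cent_E _).1 h
            by_cases hs1 : e = 1
            · rw [hs1]; simp
            have hmv : F.σ * e * F.σ⁻¹ ∈ F.E := by
              by_cases hs2 : e = F.t
              · rw [hs2, F.σ_mem, mul_inv_cancel_right]; exact F.t_mem
              · rw [F.σ_move e he hs1 hs2]; exact mul_mem he F.t_mem
            rw [hge, show g * F.σ⁻¹ * F.σ * e * (g * F.σ⁻¹ * F.σ)⁻¹ =
              (g * F.σ⁻¹) * (F.σ * e * F.σ⁻¹) * (g * F.σ⁻¹)⁻¹ by group,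
              ← mem_centralizer_iff.1 h _ hmv, mul_inv_cancel_right]
            exact hmv
          have hsurj : ∀ e ∈ F.E, ∃ e' ∈ F.E, g * e' * g⁻¹ = e := by
            intro e he
            obtain ⟨⟨e', he'⟩, h⟩ := (Finite.injective_iff_surjective.1 (fun a b h =>
              Subtype.ext (mul_left_cancel (mul_right_cancel (congrArg Subtype.val h :)))) :
              Function.Surjective fun a : ↥F.E => (⟨g * a * g⁻¹, hgE' _ a.2⟩ : ↥F.E)) ⟨e, he⟩
            exact ⟨e', he', congrArg Subtype.val h⟩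
          constructor
          · intro hv
            refine mem_centralizer_iff.2 fun e he => ?_
            obtain ⟨e', he', rfl⟩ := hsurj e he
            calc g * e' * g⁻¹ * (g * v * g⁻¹) = g * (e' * v) * g⁻¹ := by group
              _ = g * (v * e') * g⁻¹ := by rw [mem_centralizer_iff.1 hv e' he']
              _ = _ := by group
          · intro hv
            refine mem_centralizer_iff.2 fun e he => ?_
            have := mem_centralizer_iff.1 hv _ (hgE' e he)
            rw [show g * e * g⁻¹ * (g * v * g⁻¹) = g * (e * v) * g⁻¹ by group,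
              show g * v * g⁻¹ * (g * e * g⁻¹) = g * (v * e) * g⁻¹ by group] at this
            exact mul_left_cancel (mul_right_cancel this)
        have h2 := mul_mem h' (inv_mem h)
        rw [show g * g * F.σ⁻¹ * (g * F.σ⁻¹)⁻¹ = g * g * g⁻¹ by group] at h2
        exact ((mem_normalizer_iff.1 h1 g).2 h2)
    have hg3 : g ^ 3 ∉ centralizer (F.E : Set G) := fun h => hgE (by
      have := mul_mem (inv_mem hsq) h
      rwa [show (g * g)⁻¹ * g ^ 3 = g by group] at this)
    exact F.outer _ ((show Commute g F.t from hgt).pow_left 3).eq hg3 y S.hy (Or.inr S.hy7) hgy3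
  have h6 : Nat.card ↥φ.range = 6 := Nat.dvd_antisymm hr6
    (Nat.Coprime.mul_dvd_of_dvd_of_dvd (by norm_num : Nat.Coprime 2 3) h2 h3)
  have hmul := φ.ker.card_mul_index
  rw [Subgroup.index_ker, hk, h6] at hmul
  rw [← hmul]

/-- `⟨y⟩` is a Sylow subgroup of the whole group. -/
theorem exists_sylow : ∃ P : Sylow 7 G, (P : Subgroup G) = zpowers y := by
  haveI : Fact (Nat.Prime 7) := ⟨by norm_num⟩
  have hY7 : Nat.card ↥(zpowers y) = 7 := by rw [Nat.card_zpowers, S.hy7]
  obtain ⟨P, hP⟩ := (IsPGroup.of_card (p := 7) (n := 1) (hY7.trans (pow_one 7).symm) :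
    IsPGroup 7 ↥(zpowers y)).exists_le_sylow
  refine ⟨P, ?_⟩
  have small : ∀ Q : Subgroup G, IsPGroup 7 ↥Q → Q ≤ centralizer ({y} : Set G) → zpowers y ≤ Q → Q = zpowers y := by
    intro Q hQ hQC hyQ
    obtain ⟨n, hn⟩ := IsPGroup.iff_card.1 hQ
    refine (eq_of_le_of_card_ge hyQ ?_).symm
    rw [hY7, hn]
    have h1 := card_dvd_of_le hQC
    rw [hn, S.card_C] at h1
    by_contra h2
    have h3 : 2 ≤ n := by
      by_contra h3
      interval_cases n <;> norm_num at h2
    exact absurd ((pow_dvd_pow 7 h3).trans h1) (by norm_num)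
  haveI : Nontrivial ↥(P : Subgroup G) := ⟨⟨⟨y, hP (mem_zpowers y)⟩, 1, fun e => by
    have h := S.hy7
    rw [show y = 1 from congrArg Subtype.val e, orderOf_one] at h; norm_num at h⟩⟩
  haveI := P.2.center_nontrivial
  obtain ⟨c, hc⟩ := exists_ne (1 : ↥(center ↥(P : Subgroup G)))
  set cG : G := ((c : ↥(P : Subgroup G)) : G) with hcG
  have hcomm : ∀ v ∈ (P : Subgroup G), v * cG = cG * v := fun v hv =>
    congrArg (fun w : ↥(P : Subgroup G) => (w : G)) (mem_center_iff.1 c.2 ⟨v, hv⟩)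
  have hcy : cG ∈ zpowers y :=
    (small _ (P.2.to_le inf_le_left) inf_le_right (le_inf hP (zpowers_le.2 (mem_centralizer_singleton_iff.2 rfl)))) ▸
      (⟨(c : ↥(P : Subgroup G)).2, mem_centralizer_singleton_iff.2 (hcomm y (hP (mem_zpowers y))).symm⟩ :
        cG ∈ (P : Subgroup G) ⊓ centralizer ({y} : Set G))
  have hc1 : cG ≠ 1 := fun e => hc (Subtype.ext (Subtype.ext e))
  have h3 : zpowers cG = zpowers y := eq_of_le_of_card_ge (zpowers_le.2 hcy) (by
    rw [hY7, Nat.card_zpowers]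
    rcases (Nat.dvd_prime (by norm_num : Nat.Prime 7)).1 (S.hy7 ▸ orderOf_dvd_of_mem_zpowers hcy) with e | e
    · exact absurd (orderOf_eq_one_iff.1 e) hc1
    · rw [e])
  obtain ⟨j, hj⟩ := mem_zpowers_iff.1 (h3.symm ▸ mem_zpowers y : y ∈ zpowers cG)
  refine small _ P.2 (fun v hv => mem_centralizer_singleton_iff.2 ?_) hP
  rw [← hj]
  exact ((show Commute v cG from hcomm v hv).zpow_right j).eq

end Split

/-- The centraliser and the normaliser of a Sylow 7-subgroup. -/
theorem seven_of_tframe (F : TFrame z) (B : Sylow 7 G) :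
    Nonempty (↥(centralizer ((B : Subgroup G) : Set G)) ≃* Multiplicative (ZMod 7) × alternatingGroup (Fin 4)) ∧
      Nat.card ↥(normalizer ((B : Subgroup G) : Set G)) = 504 := by
  haveI : Fact (Nat.Prime 7) := ⟨by norm_num⟩
  obtain ⟨y, hy, hy7⟩ := F.exists_seven
  obtain ⟨D, S⟩ := exists_split F hy hy7
  obtain ⟨P, hP⟩ := S.exists_sylow
  obtain ⟨g, hg⟩ := MulAction.exists_smul_eq G P B
  have hB : (B : Subgroup G) = (zpowers y).map (MulAut.conj g).toMonoidHom := by
    rw [← hg, Sylow.coe_subgroup_smul, hP]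
    rfl
  refine ⟨?_, ?_⟩
  · have hC : centralizer ((B : Subgroup G) : Set G) =
        (centralizer ({y} : Set G)).map (MulAut.conj g).toMonoidHom := by
      rw [hB]
      ext v
      simp only [mem_map_equiv, MulAut.conj_symm_apply, mem_centralizer_singleton_iff]
      constructor
      · intro hv
        have h1 := mem_centralizer_iff.1 hv (g * y * g⁻¹) ⟨y, mem_zpowers y, rfl⟩
        calc g⁻¹ * v * g * y = g⁻¹ * (v * (g * y * g⁻¹)) * g := by group
          _ = g⁻¹ * (g * y * g⁻¹ * v) * g := by rw [h1]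
          _ = _ := by group
      · intro hv
        refine mem_centralizer_iff.2 ?_
        rintro _ ⟨a, ha, rfl⟩
        obtain ⟨i, rfl⟩ := mem_zpowers_iff.1 ha
        show g * y ^ i * g⁻¹ * v = v * (g * y ^ i * g⁻¹)
        have h1 := ((show Commute (g⁻¹ * v * g) y from hv).zpow_right i).eq
        calc g * y ^ i * g⁻¹ * v = g * (y ^ i * (g⁻¹ * v * g)) * g⁻¹ := by group
          _ = g * ((g⁻¹ * v * g) * y ^ i) * g⁻¹ := by rw [h1]
          _ = _ := by group
    obtain ⟨e⟩ := S.equiv_cent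
    rw [hC]
    exact ⟨(equivMapOfInjective _ _ (MulEquiv.injective _)).symm.trans e⟩
  · rw [hB, ← map_equiv_normalizer_eq, card_map_of_injective (MulEquiv.injective _), S.card_normalizer]

end CfsgLib.InvChar.SuzT
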