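import Cfsg.Agent.Lib.InvChar.SuzT.TFrame
import Cfsg.Agent.Lib.InvChar.HallJankoKlein
import Cfsg.Agent.Lib.Invol.Basic

/-!
# Centralisers of elements of order five and seven of the component

In a `TFrame` the four group `E` is a Sylow 2-subgroup of the centraliser of such an element, and the centraliser
of an element `y` of order seven is `⟨y⟩ × D` where `D` has a self-centralising four group and order 12 or 60.
-/

set_option autoImplicit false

namespace CfsgLib.InvChar.SuzT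

open Subgroup CfsgLib.Invol

universe u

variable {G : Type u} [Group G] {z : G}

theorem two_power_one {e k : G} (he : e * e = 1) (hek : e * k = k * e) {n : ℕ} (h : (e * k) ^ 2 ^ n = 1)
    (hodd : Odd (orderOf k)) : k = 1 := by
  have h1 : k ^ 2 ^ (n + 1) = 1 := by
    have h2 : ((e * k) * (e * k)) ^ 2 ^ n = 1 := by
      rw [← pow_two, ← pow_mul, mul_comm, pow_mul, h, one_pow]
    rwa [show e * k * (e * k) = e * e * (k * k) by
      rw [mul_assoc, ← mul_assoc k e k, ← hek, mul_assoc, mul_assoc], he, one_mul, ← pow_two, ← pow_mul,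
      ← pow_succ'] at h2
  have h2 := orderOf_dvd_of_pow_eq_one h1
  have h3 : orderOf k = 1 := Nat.Coprime.eq_one_of_dvd ((Nat.coprime_two_right.2 hodd).pow_right _) h2
  exact orderOf_eq_one_iff.1 h3

namespace TFrame

variable (F : TFrame z)
include F

theorem E_comm {a b : G} (ha : a ∈ F.E) (hb : b ∈ F.E) : a * b = b * a := by
  have h := inv_eq_of_mul_eq_one_right (F.sqE _ (mul_mem ha hb))
  rw [mul_inv_rev, inv_eq_of_mul_eq_one_right (F.sqE a ha), inv_eq_of_mul_eq_one_right (F.sqE b hb)] at h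
  exact h.symm

theorem t_invol : orderOf F.t = 2 := invol_of_mul_self (F.sqE _ F.t_mem) F.t_ne

theorem L_le : F.L ≤ centralizer (F.E : Set G) := fun l hl =>
  mem_centralizer_iff.2 fun e he => F.comm e he l hl

theorem d_pow_norm : ∀ k : ℕ, ∀ e ∈ F.E, F.d ^ k * e * (F.d ^ k)⁻¹ ∈ F.E := by
  intro k
  induction k with
  | zero => intro e he; simpa using he
  | succ n ih =>
    intro e he
    rw [pow_succ, show F.d ^ n * F.d * e * (F.d ^ n * F.d)⁻¹ = F.d ^ n * (F.d * e * F.d⁻¹) * (F.d ^ n)⁻¹ by group]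
    exact ih _ (F.d_norm e he)

theorem d_pow_comm (k : ℕ) {l : G} (hl : l ∈ F.L) : F.d ^ k * l = l * F.d ^ k :=
  (Commute.pow_left (F.d_comm l hl) k).eq

theorem d_cycle {e : G} (he : e ∈ F.E) (he1 : e ≠ 1) : ∃ k : ℕ, F.d ^ k * F.t * (F.d ^ k)⁻¹ = e := by
  classical
  haveI : Finite ↥F.E := Nat.finite_of_card_ne_zero (by rw [F.cardE]; norm_num)
  haveI : Fintype ↥F.E := Fintype.ofFinite _
  set a := F.d * F.t * F.d⁻¹ with ha
  set b := F.d ^ 2 * F.t * (F.d ^ 2)⁻¹ with hb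
  have hat : a ≠ F.t := F.d_move
  have hbt : b ≠ F.t := fun h => F.d_move (by
    have h3 : F.d * F.d ^ 2 = 1 := by rw [← pow_succ']; exact F.d_three
    calc F.d * F.t * F.d⁻¹ = F.d * b * F.d⁻¹ := by rw [h]
      _ = (F.d * F.d ^ 2) * F.t * (F.d * F.d ^ 2)⁻¹ := by rw [hb]; group
      _ = F.t := by rw [h3]; group)
  have hab : a ≠ b := fun h => hat (by
    have : F.t = F.d * F.t * F.d⁻¹ := by
      calc F.t = F.d⁻¹ * a * F.d := by rw [ha]; group
        _ = F.d⁻¹ * b * F.d := by rw [h]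
        _ = F.d * F.t * F.d⁻¹ := by rw [hb, pow_two]; group
    exact this.symm)
  have ha1 : a ≠ 1 := fun h => F.t_ne (conj_eq_one_iff.1 h)
  have hb1 : b ≠ 1 := fun h => F.t_ne (conj_eq_one_iff.1 h)
  have haE : a ∈ F.E := F.d_norm _ F.t_mem
  have hbE : b ∈ F.E := F.d_pow_norm 2 _ F.t_mem
  have hsub : ({1, F.t, a, b} : Finset G) ⊆ (Finset.univ : Finset ↥F.E).image Subtype.val := by
    intro v hv
    simp only [Finset.mem_insert, Finset.mem_singleton] at hv
    refine Finset.mem_image.2 ⟨⟨v, ?_⟩, Finset.mem_univ _, rfl⟩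
    rcases hv with rfl | rfl | rfl | rfl
    exacts [one_mem _, F.t_mem, haE, hbE]
  have hcard : ({1, F.t, a, b} : Finset G).card = 4 := by
    simp [F.t_ne.symm, ha1.symm, hb1.symm, hat.symm, hbt.symm, hab]
  have heq := Finset.eq_of_subset_of_card_le hsub (Finset.card_image_le.trans (by
    rw [hcard, Finset.card_univ, ← Nat.card_eq_fintype_card, F.cardE]))
  have hem : e ∈ ({1, F.t, a, b} : Finset G) := heq ▸ Finset.mem_image.2 ⟨⟨e, he⟩, Finset.mem_univ _, rfl⟩
  simp only [Finset.mem_insert, Finset.mem_singleton] at hem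
  rcases hem with h | h | h | h
  · exact absurd h he1
  · exact ⟨0, by rw [h]; simp⟩
  · exact ⟨1, by rw [h, ha, pow_one]⟩
  · exact ⟨2, h.symm⟩

section Cent

variable {x : G} (hx : x ∈ F.L) (hx' : orderOf x = 5 ∨ orderOf x = 7)
include hx hx'

theorem odd_x : Odd (orderOf x) := by rcases hx' with h | h <;> rw [h] <;> decide

theorem odd_mem {k : G} (hk : k ∈ zpowers x) : Odd (orderOf k) := by
  obtain ⟨i, rfl⟩ := mem_zpowers_iff.1 hk
  exact (F.odd_x hx hx').of_dvd_nat (orderOf_dvd_of_mem_zpowers ⟨i, rfl⟩)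

/-- The centraliser of `x` in the centraliser of an involution of `E`. -/
theorem cent_e {e g : G} (he : e ∈ F.E) (he1 : e ≠ 1) (hge : g * e = e * g) (hgx : g * x = x * g) :
    ∃ e' ∈ F.E, ∃ k ∈ zpowers x, g = e' * k := by
  obtain ⟨j, hj⟩ := F.d_cycle he he1
  set c := F.d ^ j with hc
  have hcx : c * x = x * c := F.d_pow_comm j hx
  set g' := c⁻¹ * g * c with hg'
  have hgt : g' * F.t = F.t * g' := by
    have : F.t = c⁻¹ * e * c := by rw [← hj]; group
    rw [this, hg', show c⁻¹ * g * c * (c⁻¹ * e * c) = c⁻¹ * (g * e) * c by group, hge]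
    group
  have hg'x : g' * x = x * g' := by
    have h1 : c⁻¹ * x = x * c⁻¹ := (show Commute c x from hcx).inv_left.eq
    exact (((show Commute c⁻¹ x from h1).mul_left hgx).mul_left hcx).eq
  have hgE : g' ∈ centralizer (F.E : Set G) := by
    by_contra h
    exact F.outer g' hgt h x hx hx' hg'x
  obtain ⟨e', he', l, hl, hel⟩ := (F.cent_E g').1 hgE
  have hlx : l * x = x * l := by
    rw [hel] at hg'x
    have h1 : e' * x = x * e' := F.comm e' he' x hx
    apply mul_left_cancel (a := e')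
    rw [← mul_assoc, hg'x, ← mul_assoc, ← h1, mul_assoc]
  have hlk := F.L_self x hx hx' l hl hlx
  refine ⟨c * e' * c⁻¹, F.d_pow_norm j _ he', l, hlk, ?_⟩
  calc g = c * g' * c⁻¹ := by rw [hg']; group
    _ = c * e' * (l * c⁻¹) := by rw [hel]; group
    _ = c * e' * (c⁻¹ * l) := by rw [(show Commute c l from F.d_pow_comm j hl).inv_left.eq]
    _ = c * e' * c⁻¹ * l := by group

variable [Finite G]

theorem E_sylow : ∃ T : Sylow 2 ↥(centralizer ({x} : Set G)),
    (T : Subgroup ↥(centralizer ({x} : Set G))) = F.E.subgroupOf (centralizer ({x} : Set G)) := by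
  haveI : Fact (Nat.Prime 2) := ⟨Nat.prime_two⟩
  set C := centralizer ({x} : Set G) with hC
  have hEC : F.E ≤ C := fun e he => mem_centralizer_singleton_iff.2 (F.comm e he x hx)
  have hW : Nat.card ↥(F.E.subgroupOf C) = 4 := by
    rw [Nat.card_congr (subgroupOfEquivOfLe hEC).toEquiv, F.cardE]
  obtain ⟨T, hT⟩ := (IsPGroup.of_card (p := 2) (n := 2) (by rw [hW]; norm_num) :
    IsPGroup 2 ↥(F.E.subgroupOf C)).exists_le_sylow
  refine ⟨T, le_antisymm (fun s hs => ?_) hT⟩
  have two_el : ∀ a ∈ (T : Subgroup ↥C), ∀ e ∈ F.E, ∀ k ∈ zpowers x, (a : G) = e * k → k = 1 := by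
    intro a ha e he k hk hek
    obtain ⟨n, hn⟩ := T.2 ⟨a, ha⟩
    have hn' := congrArg (fun v : ↥(T : Subgroup ↥C) => ((v : ↥C) : G)) hn
    simp only [SubmonoidClass.coe_pow, OneMemClass.coe_one] at hn'
    rw [hek] at hn'
    refine two_power_one (F.sqE e he) ?_ hn' (F.odd_mem hx hx' hk)
    obtain ⟨i, rfl⟩ := mem_zpowers_iff.1 hk
    exact ((show Commute e x from F.comm e he x hx).zpow_right i).eq
  have htC : F.t ∈ C := hEC F.t_mem
  have htT : (⟨F.t, htC⟩ : ↥C) ∈ (T : Subgroup ↥C) := hT (mem_subgroupOf.2 F.t_mem)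
  haveI : Nontrivial ↥(T : Subgroup ↥C) :=
    ⟨⟨⟨_, htT⟩, 1, fun e => F.t_ne (congrArg (fun v : ↥(T : Subgroup ↥C) => ((v : ↥C) : G)) e)⟩⟩
  haveI := T.2.center_nontrivial
  obtain ⟨c, hc⟩ := exists_ne (1 : ↥(center ↥(T : Subgroup ↥C)))
  set cG : G := (((c : ↥(T : Subgroup ↥C)) : ↥C) : G) with hcG
  have hc1 : cG ≠ 1 := fun e => hc (Subtype.ext (Subtype.ext (Subtype.ext e)))
  have hcomm : ∀ v ∈ (T : Subgroup ↥C), (v : G) * cG = cG * v := fun v hv =>
    congrArg (fun w : ↥(T : Subgroup ↥C) => ((w : ↥C) : G)) (mem_center_iff.1 c.2 ⟨v, hv⟩)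
  have hcx : cG * x = x * cG := mem_centralizer_singleton_iff.1 ((c : ↥(T : Subgroup ↥C)) : ↥C).2
  obtain ⟨e, he, k, hk, hek⟩ := F.cent_e hx hx' F.t_mem F.t_ne (hcomm _ htT).symm hcx
  have hk1 := two_el _ (c : ↥(T : Subgroup ↥C)).2 e he k hk hek
  rw [hk1, mul_one] at hek
  obtain ⟨e', he', k', hk', hek'⟩ := F.cent_e hx hx' he (fun h => hc1 (hek.trans h))
    (hek ▸ hcomm s hs) (mem_centralizer_singleton_iff.1 s.2)
  have hk1' := two_el s hs e' he' k' hk' hek'
  rw [hk1', mul_one] at hek'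
  exact mem_subgroupOf.2 (hek' ▸ he')

/-- Involutions of the centraliser of `x` are conjugate in it into `E`. -/
theorem invol_conj {v : G} (hv : orderOf v = 2) (hvx : v * x = x * v) :
    ∃ g, g * x = x * g ∧ g * v * g⁻¹ ∈ F.E := by
  haveI : Fact (Nat.Prime 2) := ⟨Nat.prime_two⟩
  obtain ⟨T, hT⟩ := F.E_sylow hx hx'
  obtain ⟨g, hg⟩ := exists_conj_invol_mem_sylow T
    (x := (⟨v, mem_centralizer_singleton_iff.2 hvx⟩ : ↥(centralizer ({x} : Set G))))
    (by rw [← orderOf_coe]; exact hv)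
  have hg' : g * ⟨v, mem_centralizer_singleton_iff.2 hvx⟩ * g⁻¹ ∈
      (T : Subgroup ↥(centralizer ({x} : Set G))) := hg
  rw [hT] at hg'
  exact ⟨g, mem_centralizer_singleton_iff.1 g.2, mem_subgroupOf.1 hg'⟩

/-- No involution of the class of `z` centralises `x`. -/
theorem not_z_class {v : G} (hv : orderOf v = 2) (hvx : v * x = x * v) : ¬ IsConj z v := by
  intro h
  obtain ⟨g, -, hg⟩ := F.invol_conj hx hx' hv hvx
  have hne : g * v * g⁻¹ ≠ 1 := fun e => invol_ne_one hv (conj_eq_one_iff.1 e)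
  exact F.not_conj ((h.trans (isConj_iff.2 ⟨g, rfl⟩)).trans (F.E_class _ hg hne))

end Cent

end TFrame

end CfsgLib.InvChar.SuzT
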