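import Cfsg.Agent.Lib.Invol.Basic
import Cfsg.Agent.Lib.Transfer.Thompson
import Mathlib.Combinatorics.Pigeonhole

/-!
# Two counting lemmas

One class of involutions in a group of order 168 without subgroup of index two; an involution outside a subgroup
that contains the centraliser of its involutions inverts many of its elements.
-/

set_option autoImplicit false

namespace CfsgLib.InvChar.SuzT

open Subgroup CfsgLib.Invol

universe u

theorem fano : ∀ col : Fin 7 → Bool,
    (∀ l ∈ ([![0, 1, 2], ![0, 3, 4], ![0, 5, 6], ![1, 3, 5], ![1, 4, 6], ![2, 3, 6], ![2, 4, 5]] :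
      List (Fin 3 → Fin 7)), (∃ i, col (l i) = true) ∧ ∃ i, col (l i) = false) → False := by
  decide +kernel

variable {H : Type u} [Group H] [Finite H]

theorem invol_conj_into {T U : Subgroup H} (hT : Nat.card ↥T = 8) (hU : Nat.card ↥U = 4) (hUT : U ≤ T)
    (h168 : Nat.card H = 168) (hno : ∀ K : Subgroup H, K.Normal → K.index ≠ 2) {v : H} (hv : orderOf v = 2) :
    ∃ g : H, g * v * g⁻¹ ∈ U := by
  haveI : Fact (Nat.Prime 2) := ⟨Nat.prime_two⟩
  have hidx : T.index = 21 := by
    have := T.card_mul_index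
    rw [hT, h168] at this
    omega
  obtain ⟨P, hP⟩ : ∃ P : Sylow 2 H, (P : Subgroup H) = T :=
    ⟨(IsPGroup.of_card (n := 3) (hT.trans (by norm_num))).toSylow (by
      intro h
      have h' : 2 ∣ T.index := h
      rw [hidx] at h'
      omega), rfl⟩
  obtain ⟨g, hg⟩ := exists_conj_invol_mem_sylow P hv
  have hrel : U.relIndex (P : Subgroup H) = 2 := by
    rw [hP]
    have := (U.subgroupOf T).card_mul_index
    rw [Nat.card_congr (subgroupOfEquivOfLe hUT).toEquiv, hU, hT] at this
    show (U.subgroupOf T).index = 2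
    omega
  rcases CfsgLib.Transfer.thompson_transfer_involution P (hP.symm ▸ hUT) hrel (u := g * v * g⁻¹)
    (by rw [pow_two, show g * v * g⁻¹ * (g * v * g⁻¹) = g * (v * v) * g⁻¹ by group, invol_mul_self hv]; group)
    hg with ⟨M, hM, hMi, -⟩ | ⟨k, hk⟩
  · exact absurd hMi (hno M hM)
  · exact ⟨k * g, by rwa [show k * g * v * (k * g)⁻¹ = k * (g * v * g⁻¹) * k⁻¹ by group]⟩

/-- One class of involutions, with centralisers of order eight. -/
theorem one_class (h168 : Nat.card H = 168) (hno : ∀ K : Subgroup H, K.Normal → K.index ≠ 2)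
    (hc : ∀ v : H, orderOf v = 2 → Nat.card ↥(centralizer ({v} : Set H)) ∣ 8) :
    ∀ v w : H, orderOf v = 2 → orderOf w = 2 → IsConj v w ∧ Nat.card ↥(centralizer ({v} : Set H)) = 8 := by
  classical
  haveI : Fact (Nat.Prime 2) := ⟨Nat.prime_two⟩
  obtain ⟨T, hT⟩ := Sylow.exists_subgroup_card_pow_prime (G := H) 2 (n := 3) (by rw [h168]; norm_num)
  norm_num at hT
  have hpow : ∀ a ∈ T, a ^ 8 = 1 := fun a ha => by
    have := pow_card_eq_one' (x := (⟨a, ha⟩ : ↥T))
    rw [hT] at this
    exact congrArg Subtype.val this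
  haveI : Nontrivial ↥T := Finite.one_lt_card_iff_nontrivial.1 (by rw [hT]; norm_num)
  haveI := (IsPGroup.of_card (p := 2) (n := 3) (hT.trans (by norm_num)) : IsPGroup 2 ↥T).center_nontrivial
  obtain ⟨n, hn, hn'⟩ := ((IsPGroup.of_card (p := 2) (n := 3) (hT.trans (by norm_num)) :
    IsPGroup 2 ↥T).to_subgroup (center ↥T)).nontrivial_iff_card.1 inferInstance
  obtain ⟨c₀, hc₀⟩ := exists_prime_orderOf_dvd_card' (G := ↥(center ↥T)) 2 (hn' ▸ dvd_pow_self 2 hn.ne')
  set c : H := ((c₀ : ↥T) : H) with hcdef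
  have hc2 : orderOf c = 2 := by rw [hcdef, orderOf_coe, orderOf_coe]; exact hc₀
  have hcT : ∀ a ∈ T, a * c = c * a := fun a ha => congrArg Subtype.val (mem_center_iff.1 c₀.2 ⟨a, ha⟩)
  have hC8 : Nat.card ↥(centralizer ({c} : Set H)) = 8 := by
    refine Nat.dvd_antisymm (hc c hc2) ?_
    rw [← hT]
    exact card_dvd_of_le fun a ha => mem_centralizer_singleton_iff.2 (hcT a ha)
  suffices hall : ∀ v : H, orderOf v = 2 → IsConj c v by
    intro v w hv hw
    refine ⟨(hall v hv).symm.trans (hall w hw), ?_⟩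
    have h1 := card_class_mul_card_centralizer c
    have h2 := card_class_mul_card_centralizer v
    have he : Nat.card {t : H // IsConj c t} = Nat.card {t : H // IsConj v t} :=
      Nat.card_congr (Equiv.subtypeEquivRight fun t => ⟨fun h => (hall v hv).symm.trans h,
        fun h => (hall v hv).trans h⟩)
    rw [he, ← h2] at h1
    rw [← hC8]
    refine (Nat.eq_of_mul_eq_mul_left ?_ h1).symm
    haveI : Nonempty {t : H // IsConj v t} := ⟨⟨v, IsConj.refl v⟩⟩
    exact Nat.card_pos
  by_cases hcyc : ∃ a ∈ T, a ^ 2 ≠ 1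
  · obtain ⟨a, ha, ha2⟩ := hcyc
    obtain ⟨b, hb, hb4⟩ : ∃ b ∈ T, orderOf b = 4 := by
      have h8 := orderOf_dvd_of_pow_eq_one (hpow a ha)
      have hne : ¬ orderOf a ∣ 2 := fun h => ha2 (orderOf_dvd_iff_pow_eq_one.1 h)
      obtain ⟨k, hk3, hk⟩ := (Nat.dvd_prime_pow Nat.prime_two (m := 3)).1 h8
      rw [hk] at hne
      interval_cases k
      · exact absurd (by norm_num) hne
      · exact absurd (by norm_num) hne
      · exact ⟨a, ha, hk⟩
      · exact ⟨a ^ 2, pow_mem ha 2, by rw [orderOf_pow a, hk]; norm_num⟩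
    have key : ∀ u : H, orderOf u = 2 → u ∈ zpowers b → u = b ^ 2 := by
      intro u hu hu'
      obtain ⟨i, rfl⟩ := mem_zpowers_iff.1 hu'
      have hi : ∀ j : ℕ, j < 4 → orderOf (b ^ j) = 2 → j = 2 := by
        intro j hj hj2
        rw [orderOf_pow b, hb4] at hj2
        interval_cases j <;> simp_all
      have e : b ^ i = b ^ ((i % 4).toNat) := by
        rw [← zpow_natCast, Int.toNat_of_nonneg (Int.emod_nonneg _ (by norm_num))]
        have := zpow_mod_orderOf b i
        rw [hb4] at this
        exact_mod_cast this.symm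
      rw [e] at hu ⊢
      rw [hi _ (by have := Int.emod_lt_of_pos i (show (0 : ℤ) < 4 by norm_num); omega) hu]
    intro v hv
    obtain ⟨g, hg⟩ := invol_conj_into hT (by rw [Nat.card_zpowers, hb4]) (zpowers_le.2 hb) h168 hno hv
    obtain ⟨g', hg'⟩ := invol_conj_into hT (by rw [Nat.card_zpowers, hb4]) (zpowers_le.2 hb) h168 hno hc2
    have e1 := key _ (by rw [orderOf_conj_eq]; exact hv) hg
    have e2 := key _ (by rw [orderOf_conj_eq]; exact hc2) hg'
    exact (isConj_iff.2 ⟨g', e2⟩).trans (isConj_iff.2 ⟨g, e1⟩).symm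
  · push Not at hcyc
    have hsq : ∀ a ∈ T, a * a = 1 := fun a ha => by rw [← pow_two]; exact hcyc a ha
    have hcm : ∀ a ∈ T, ∀ b ∈ T, a * b = b * a := by
      intro a ha b hb
      have h := inv_eq_of_mul_eq_one_right (hsq _ (mul_mem ha hb))
      rw [_root_.mul_inv_rev, inv_eq_of_mul_eq_one_right (hsq a ha), inv_eq_of_mul_eq_one_right (hsq b hb)] at h
      exact h.symm
    haveI : Fintype ↥T := Fintype.ofFinite _
    have hex : ∀ s : Finset H, s.card < 8 → ∃ a ∈ T, a ∉ s := by
      intro s hs
      by_contra h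
      push Not at h
      have : (Finset.univ : Finset ↥T).card ≤ s.card :=
        Finset.card_le_card_of_injOn Subtype.val (fun a _ => h _ a.2) (fun a _ b _ e => Subtype.ext e)
      rw [Finset.card_univ, ← Nat.card_eq_fintype_card, hT] at this
      omega
    have hcT' : c ∈ T := (c₀ : ↥T).2
    have hc1 : c ≠ 1 := invol_ne_one hc2
    obtain ⟨p, hp, hp'⟩ := hex {1, c} (Finset.card_le_two.trans_lt (by norm_num))
    obtain ⟨q, hq, hq'⟩ := hex {1, c, p, c * p} (Finset.card_le_four.trans_lt (by norm_num))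
    simp only [Finset.mem_insert, Finset.mem_singleton, not_or] at hp' hq'
    have inv_self : ∀ a ∈ T, a⁻¹ = a := fun a ha => inv_eq_of_mul_eq_one_right (hsq a ha)
    -- the seven involutions
    let f : Fin 7 → H := ![c, p, c * p, q, c * q, p * q, c * p * q]
    have hfT : ∀ i, f i ∈ T := by
      intro i
      fin_cases i
      exacts [hcT', hp, mul_mem hcT' hp, hq, mul_mem hcT' hq, mul_mem hp hq, mul_mem (mul_mem hcT' hp) hq]
    have cancel : ∀ {a b : H}, a ∈ T → b ∈ T → a * b = 1 → b = a := fun {a b} ha _ h => by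
      rw [← inv_eq_of_mul_eq_one_right h, inv_self a ha]
    have hf1 : ∀ i, f i ≠ 1 := by
      intro i
      fin_cases i
      · exact hc1
      · exact hp'.1
      · exact fun h => hp'.2 (cancel hcT' hp h)
      · exact hq'.1
      · exact fun h => hq'.2.1 (cancel hcT' hq h)
      · exact fun h => hq'.2.2.1 (cancel hp hq h)
      · exact fun h => hq'.2.2.2 (cancel (mul_mem hcT' hp) hq h)
    have hfc : ∀ i j, f i * f j = f j * f i := fun i j => hcm _ (hfT i) _ (hfT j)
    -- every involution is conjugate into every line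
    have hline : ∀ v : H, orderOf v = 2 → ∀ i j k : Fin 7, f i * f j = f k → i ≠ k → j ≠ k → i ≠ j →
        IsConj v (f i) ∨ IsConj v (f j) ∨ IsConj v (f k) := by
      intro v hv i j k hk _ _ _
      let U : Subgroup H :=
        { carrier := {1, f i, f j, f k}
          one_mem' := Or.inl rfl
          inv_mem' := by
            rintro a (rfl | rfl | rfl | rfl)
            · exact Or.inl inv_one
            · exact Or.inr (Or.inl (inv_self _ (hfT i)))
            · exact Or.inr (Or.inr (Or.inl (inv_self _ (hfT j))))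
            · exact Or.inr (Or.inr (Or.inr (inv_self _ (hfT k))))
          mul_mem' := by
            have e1 : f i * f k = f j := by rw [← hk, ← mul_assoc, hsq _ (hfT i), one_mul]
            have e2 : f j * f k = f i := by rw [← hk, hfc i j, ← mul_assoc, hsq _ (hfT j), one_mul]
            rintro a b (rfl | rfl | rfl | rfl) (rfl | rfl | rfl | rfl) <;>
              simp only [one_mul, mul_one, hsq _ (hfT _), hk, e1, e2, hfc j i, hfc k i, hfc k j] <;>
              simp }
      have hUT : U ≤ T := by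
        rintro a (rfl | rfl | rfl | rfl)
        exacts [one_mem _, hfT i, hfT j, hfT k]
      have hij : f i ≠ f j := fun h => hf1 k (by rw [← hk, h, hsq _ (hfT j)])
      have hik : f i ≠ f k := fun h => hf1 j (mul_left_cancel (a := f i) (by rw [hk, mul_one, h]))
      have hjk : f j ≠ f k := fun h => hf1 i (mul_right_cancel (b := f j) (by rw [hk, one_mul, h]))
      have hU4 : Nat.card ↥U = 4 := by
        haveI : Fintype ↥U := Fintype.ofFinite _
        rw [Nat.card_eq_fintype_card, Fintype.card_of_subtype ({1, f i, f j, f k} : Finset H) (fun a => by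
          simp only [Finset.mem_insert, Finset.mem_singleton]; rfl)]
        simp [(hf1 i).symm, (hf1 j).symm, (hf1 k).symm, hij, hik, hjk]
      obtain ⟨g, hg⟩ := invol_conj_into hT hU4 hUT h168 hno hv
      rcases hg with h | h | h | h
      · exact absurd (conj_eq_one_iff.1 h) (invol_ne_one hv)
      · exact Or.inl (isConj_iff.2 ⟨g, h⟩)
      · exact Or.inr (Or.inl (isConj_iff.2 ⟨g, h⟩))
      · exact Or.inr (Or.inr (isConj_iff.2 ⟨g, h⟩))
    intro v hv
    by_contra hne
    refine fano (fun i => decide (IsConj c (f i))) fun l hl => ?_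
    have hlk : f (l 0) * f (l 1) = f (l 2) ∧ l 0 ≠ l 2 ∧ l 1 ≠ l 2 ∧ l 0 ≠ l 1 := by
      have hcp : p * c = c * p := hcm p hp c hcT'
      simp only [List.mem_cons, List.not_mem_nil, or_false] at hl
      rcases hl with rfl | rfl | rfl | rfl | rfl | rfl | rfl
      · exact ⟨rfl, by decide, by decide, by decide⟩
      · exact ⟨rfl, by decide, by decide, by decide⟩
      · exact ⟨(mul_assoc c p q).symm, by decide, by decide, by decide⟩
      · exact ⟨rfl, by decide, by decide, by decide⟩
      · refine ⟨?_, by decide, by decide, by decide⟩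
        show p * (c * q) = c * p * q
        rw [← mul_assoc, hcp]
      · refine ⟨?_, by decide, by decide, by decide⟩
        show c * p * q = c * p * q
        rfl
      · refine ⟨?_, by decide, by decide, by decide⟩
        show c * p * (c * q) = p * q
        rw [← mul_assoc, show c * p * c = p by rw [mul_assoc, hcp, ← mul_assoc, hsq c hcT', one_mul]]
    refine ⟨?_, ?_⟩
    · rcases hline c hc2 _ _ _ hlk.1 hlk.2.1 hlk.2.2.1 hlk.2.2.2 with h | h | h
      exacts [⟨0, decide_eq_true h⟩, ⟨1, decide_eq_true h⟩, ⟨2, decide_eq_true h⟩]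
    · rcases hline v hv _ _ _ hlk.1 hlk.2.1 hlk.2.2.1 hlk.2.2.2 with h | h | h
      exacts [⟨0, decide_eq_false fun h' => hne (h'.trans h.symm)⟩,
        ⟨1, decide_eq_false fun h' => hne (h'.trans h.symm)⟩, ⟨2, decide_eq_false fun h' => hne (h'.trans h.symm)⟩]

/-- An involution outside a subgroup containing centralisers of its involutions inverts many elements of it. -/
theorem exists_inverting {X : Subgroup H} (hX : X ≠ ⊤) {w : H}
    (hcard : Nat.card ↥(centralizer ({w} : Set H)) * Nat.card {v : H // IsConj w v ∧ v ∈ X} = Nat.card ↥X)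
    (hw : orderOf w = 2) :
    ∃ i : H, i ∉ X ∧ orderOf i = 2 ∧
      Nat.card {v : H // IsConj w v ∧ v ∈ X} ≤ Nat.card {r : H // r ∈ X ∧ i * r * i⁻¹ = r⁻¹} := by
  classical
  haveI : Fintype H := Fintype.ofFinite H
  haveI : Fintype (H ⧸ X) := Fintype.ofFinite _
  set k := Nat.card {v : H // IsConj w v ∧ v ∈ X} with hk
  have hcl := card_class_mul_card_centralizer w
  rw [← X.card_mul_index, ← hcard] at hcl
  have hclass : Nat.card {t : H // IsConj w t} = k * X.index :=
    Nat.eq_of_mul_eq_mul_right (Nat.card_pos (α := ↥(centralizer ({w} : Set H))))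
      (by rw [hcl]; ring)
  set A := Finset.univ.filter fun v : H => IsConj w v ∧ v ∉ X with hA
  have hAcard : A.card + k = k * X.index := by
    rw [← hclass, hk, Nat.card_eq_fintype_card, Nat.card_eq_fintype_card, Fintype.card_subtype,
      Fintype.card_subtype, ← Finset.card_union_of_disjoint]
    · congr 1
      ext v
      simp [hA]
      tauto
    · rw [Finset.disjoint_left]
      intro v hv hv'
      simp [hA] at hv hv'
      exact hv.2 hv'.2
  have hidx : 2 ≤ X.index := by
    have h1 : X.index ≠ 1 := fun h => hX (index_eq_one.1 h)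
    have h2 : X.index ≠ 0 := index_ne_zero_of_finite
    omega
  set B := (Finset.univ : Finset (H ⧸ X)).erase (QuotientGroup.mk 1) with hB
  have hBcard : B.card = X.index - 1 := by
    rw [hB, Finset.card_erase_of_mem (Finset.mem_univ _), Finset.card_univ, ← Nat.card_eq_fintype_card]; rfl
  have hmaps : ∀ v ∈ A, (QuotientGroup.mk v : H ⧸ X) ∈ B := by
    intro v hv
    simp [hA] at hv
    refine Finset.mem_erase.2 ⟨fun e => hv.2 ?_, Finset.mem_univ _⟩
    have h := QuotientGroup.eq.1 e
    rw [mul_one] at h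
    simpa using inv_mem h
  have hBne : B.Nonempty := Finset.card_pos.1 (by omega)
  obtain ⟨b, -, hb⟩ := Finset.exists_le_card_fiber_of_mul_le_card_of_maps_to hmaps hBne (n := k) (by
    rw [hBcard]
    obtain ⟨j, hj⟩ : ∃ j, X.index = j + 1 := ⟨X.index - 1, by omega⟩
    rw [hj] at hAcard ⊢
    rw [Nat.add_sub_cancel]
    nlinarith)
  have hkpos : 0 < k := by
    haveI : Nonempty {v : H // IsConj w v ∧ v ∈ X} := by
      by_contra h
      rw [not_nonempty_iff] at h
      rw [hk.trans (Nat.card_eq_zero.2 (Or.inl ‹IsEmpty {v : H // IsConj w v ∧ v ∈ X}›)), mul_zero] at hcard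
      exact absurd hcard.symm Nat.card_pos.ne'
    exact Nat.card_pos
  obtain ⟨i, hi⟩ := Finset.card_pos.1 (hkpos.trans_le hb)
  have hprop : ∀ v, v ∈ A.filter (fun a => (QuotientGroup.mk a : H ⧸ X) = b) →
      orderOf v = 2 ∧ v ∉ X ∧ i⁻¹ * v ∈ X := by
    intro v hv
    simp [hA] at hv hi
    exact ⟨(orderOf_eq_of_isConj (isConj_iff.2 hv.1.1)).trans hw, hv.1.2, QuotientGroup.eq.1 (hi.2.trans hv.2.symm)⟩
  obtain ⟨hio, hiX, -⟩ := hprop i hi
  refine ⟨i, hiX, hio, hb.trans ?_⟩
  rw [Nat.card_eq_fintype_card, Fintype.card_subtype]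
  refine Finset.card_le_card_of_injOn (fun v => i * v) (fun v hv => ?_) (fun a _ c _ e => mul_left_cancel e)
  obtain ⟨hvo, -, hvX⟩ := hprop v hv
  rw [invol_inv hio] at hvX
  refine Finset.mem_filter.2 ⟨Finset.mem_univ _, hvX, ?_⟩
  rw [_root_.mul_inv_rev, invol_inv hvo, invol_inv hio, ← mul_assoc, invol_mul_self hio, one_mul]

end CfsgLib.InvChar.SuzT
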