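import Cfsg.Agent.Lib.InvChar.SuzT.SevenSplit
import Mathlib.GroupTheory.Index

/-!
# The large case: `D` of order sixty

If the complement `D` of `⟨y⟩` in the centraliser of `y` had order 60, the centraliser `R` of `D` in the
component would be a proper subgroup of order at least 42 containing the normaliser of `⟨y⟩`.
-/

set_option autoImplicit false

namespace CfsgLib.InvChar.SuzT

open Subgroup CfsgLib.Invol

universe u

variable {G : Type u} [Group G] [Finite G] {z : G} {F : TFrame z} {y : G} {D : Subgroup G}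

namespace Split

variable (S : Split F y D)
include S

theorem cent' {e c : G} (he : e ∈ F.E) (he1 : e ≠ 1) (hc : c ∈ D) (hce : c * e = e * c) : c ∈ F.E :=
  mem_subgroupOf.1 (S.cent.2.2 ⟨e, S.E_le he⟩ (mem_subgroupOf.2 he) (fun h => he1 (congrArg Subtype.val h))
    ⟨c, hc⟩ (Subtype.ext hce))

theorem d_order : orderOf F.d = 3 := by
  refine orderOf_eq_prime F.d_three fun h => F.d_move ?_
  rw [h]; simp

theorem exists_inverter (h60 : Nat.card ↥D = 60) :
    ∃ u ∈ D, orderOf u = 2 ∧ u * F.d * u⁻¹ = F.d⁻¹ ∧ u ∉ F.E := by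
  obtain ⟨-, u, hu, hud⟩ := S.cent.three h60 (y := (⟨F.d, S.d_mem⟩ : ↥D)) (by rw [← orderOf_coe]; exact S.d_order)
  have hud' : (u : G) * F.d * (u : G)⁻¹ = F.d⁻¹ := congrArg Subtype.val hud
  refine ⟨u, u.2, by rw [orderOf_coe]; exact hu, hud', fun huE => ?_⟩
  have h1 : (u : G) * (F.d * (u : G)⁻¹ * F.d⁻¹) ∈ F.E := mul_mem huE (F.d_norm _ (inv_mem huE))
  rw [show (u : G) * (F.d * (u : G)⁻¹ * F.d⁻¹) = ((u : G) * F.d * (u : G)⁻¹) * F.d⁻¹ by group, hud'] at h1
  have h2 := F.sqE _ h1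
  have h3 : F.d⁻¹ * F.d⁻¹ * (F.d⁻¹ * F.d⁻¹) * F.d ^ 3 = 1 := by rw [h2, one_mul, F.d_three]
  have h4 : F.d⁻¹ = 1 := by
    rw [← h3]; group
  exact F.d_move (by rw [inv_eq_one.1 h4]; simp)

/-- An involution of `D` outside `E` does not normalise `E`. -/
theorem not_norm {v : G} (hvD : v ∈ D) (hv : orderOf v = 2) (hvE : v ∉ F.E) :
    v ∉ normalizer (F.E : Set G) := by
  intro hvN
  have hc : ∀ e ∈ F.E, e ≠ 1 → v * e ≠ e * v := fun e he he1 h => hvE (S.cent' he he1 hvD h)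
  obtain ⟨a, b, ha, hb, hab⟩ : ∃ a b, a ∈ F.E ∧ a ≠ 1 ∧ b = v * a * v⁻¹ :=
    ⟨F.t, _, F.t_mem, F.t_ne, rfl⟩
  have hbE : b ∈ F.E := hab ▸ (mem_normalizer_iff.1 hvN a).1 ha
  have hb1 : b ≠ 1 := fun h => hb (conj_eq_one_iff.1 (hab ▸ h))
  have hne : a * b ≠ 1 := fun h => hc a ha hb (by
    have : b = a := by rw [← inv_eq_of_mul_eq_one_right (F.sqE a ha), inv_eq_of_mul_eq_one_right h]
    rw [this] at hab
    exact (mul_inv_eq_iff_eq_mul.1 hab.symm))
  refine hc _ (mul_mem ha hbE) hne ?_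
  have hba : v * b * v⁻¹ = a := by
    rw [hab, show v * (v * a * v⁻¹) * v⁻¹ = (v * v) * a * (v * v)⁻¹ by group, invol_mul_self hv]; group
  calc v * (a * b) = (v * a * v⁻¹) * (v * b * v⁻¹) * v := by group
    _ = b * a * v := by rw [hba, ← hab]
    _ = a * b * v := by rw [F.E_comm hbE ha]

theorem dvd_of_contains {K : Subgroup G} (hE : F.E ≤ K) (hd : F.d ∈ K) : 12 ∣ Nat.card ↥K :=
  Nat.Coprime.mul_dvd_of_dvd_of_dvd (by norm_num : Nat.Coprime 4 3) (F.cardE ▸ card_dvd_of_le hE)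
    (S.d_order ▸ K.orderOf_dvd_natCard hd)

theorem card_cases_sub (h60 : Nat.card ↥D = 60) {K : Subgroup G} (hK : K ≤ D) (hE : F.E ≤ K) (hd : F.d ∈ K) :
    Nat.card ↥K = 12 ∨ K = D := by
  obtain ⟨j, hj⟩ := S.dvd_of_contains hE hd
  have h1 := card_dvd_of_le hK
  rw [h60, hj] at h1
  have h2 : j ∣ 5 := Nat.dvd_of_mul_dvd_mul_left (by norm_num) (show 12 * j ∣ 12 * 5 from h1)
  rcases (Nat.dvd_prime (by norm_num)).1 h2 with h | h
  · left; rw [hj, h]
  · exact Or.inr (eq_of_le_of_card_ge hK (by rw [h60, hj, h]))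

theorem d_norm' : F.d ∈ normalizer (F.E : Set G) := by
  refine mem_normalizer_iff.2 fun e => ⟨F.d_norm e, fun he => ?_⟩
  have := F.d_pow_norm 2 _ he
  rwa [show F.d ^ 2 * (F.d * e * F.d⁻¹) * (F.d ^ 2)⁻¹ = F.d ^ 3 * e * (F.d ^ 3)⁻¹ by group, F.d_three, one_mul,
    inv_one, mul_one] at this

/-- A subgroup of `D` containing `E`, `d` and another involution is everything. -/
theorem eq_D (h60 : Nat.card ↥D = 60) {K : Subgroup G} (hK : K ≤ D) (hE : F.E ≤ K) (hd : F.d ∈ K) {v : G}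
    (hvK : v ∈ K) (hv : orderOf v = 2) (hvE : v ∉ F.E) : K = D := by
  refine (S.card_cases_sub h60 hK hE hd).resolve_left fun h12 => S.not_norm (hK hvK) hv hvE ?_
  have hle : K ⊓ normalizer (F.E : Set G) = K := eq_of_le_of_card_ge inf_le_left (h12 ▸ Nat.le_of_dvd
    Nat.card_pos (S.dvd_of_contains (le_inf hE le_normalizer) ⟨hd, S.d_norm'⟩))
  exact (hle.symm ▸ hvK : v ∈ K ⊓ normalizer (F.E : Set G)).2

/-- An element of order three of `L` normalising `⟨y⟩` centralises `D`. -/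
theorem three_comm (h60 : Nat.card ↥D = 60) {n : G} (hn : n ∈ F.L) (hn3 : n ^ 3 = 1)
    (hny : n * y * n⁻¹ ∈ zpowers y) : ∀ h ∈ D, n * h = h * n := by
  classical
  obtain ⟨u, huD, hu, hud, huE⟩ := S.exists_inverter h60
  have hnD : ∀ h ∈ D, n * h * n⁻¹ ∈ D := by
    intro h hh
    refine S.char _ ?_ ?_
    · obtain ⟨i, hi⟩ := mem_zpowers_iff.1 hny
      -- `n⁻¹ y n` is a power of `y`
      have hY : ∀ k : ℕ, n ^ k * y * (n ^ k)⁻¹ ∈ zpowers y := by
        intro k
        induction k with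
        | zero => simp
        | succ k ih =>
          obtain ⟨j, hj⟩ := mem_zpowers_iff.1 ih
          refine mem_zpowers_iff.2 ⟨i * j, ?_⟩
          rw [zpow_mul, hi, conj_zpow, hj, pow_succ']; group
      obtain ⟨j, hj⟩ := mem_zpowers_iff.1 (hY 2)
      have hinv : n⁻¹ * y * n = y ^ j := by
        rw [hj]
        have : n⁻¹ = n ^ 2 := inv_eq_of_mul_eq_one_right (by rw [← pow_succ']; exact hn3)
        rw [← this, inv_inv]
      have hh' : h * (n⁻¹ * y * n) = (n⁻¹ * y * n) * h := by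
        rw [hinv]; exact ((show Commute h y from S.comm h hh).zpow_right j).eq
      calc n * h * n⁻¹ * y = n * (h * (n⁻¹ * y * n)) * n⁻¹ := by group
        _ = n * ((n⁻¹ * y * n) * h) * n⁻¹ := by rw [hh']
        _ = y * (n * h * n⁻¹) := by group
    · rw [conj_pow, ← D.coe_mk h hh, ← SubmonoidClass.coe_pow, pow_card_eq_one', OneMemClass.coe_one]
      group
  have hnE : ∀ e ∈ F.E, n * e = e * n := fun e he => (F.comm e he n hn).symm
  have hnd : n * F.d = F.d * n := (F.d_comm n hn).symm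
  -- the normaliser of `E`
  set N := D ⊓ normalizer (F.E : Set G) with hN
  have hEN : F.E ≤ N := le_inf S.E_le le_normalizer
  have hdN : F.d ∈ N := ⟨S.d_mem, S.d_norm'⟩
  have hN12 : Nat.card ↥N = 12 := (S.card_cases_sub h60 inf_le_left hEN hdN).resolve_right fun h =>
    S.not_norm huD hu huE (show u ∈ D ⊓ normalizer (F.E : Set G) by rw [h]; exact huD).2
  have hNn : ∀ m ∈ N, n * m = m * n := by
    have hle : N ⊓ centralizer ({n} : Set G) = N := eq_of_le_of_card_ge inf_le_left (hN12 ▸ Nat.le_of_dvd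
      Nat.card_pos (S.dvd_of_contains (le_inf hEN fun e he => mem_centralizer_singleton_iff.2 (hnE e he).symm)
        ⟨hdN, mem_centralizer_singleton_iff.2 hnd.symm⟩))
    exact fun m hm => (mem_centralizer_singleton_iff.1 ((hle.symm ▸ hm : m ∈ N ⊓ _)).2).symm
  -- `u` is conjugate into `E`
  obtain ⟨g₀, hg₀⟩ := S.cent.conj_mem (u := (⟨u, huD⟩ : ↥D)) (by rw [← orderOf_coe]; exact hu)
  have he₀ : (g₀ : G) * u * (g₀ : G)⁻¹ ∈ F.E := mem_subgroupOf.1 hg₀
  set g := (g₀ : G)⁻¹ with hg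
  set e₀ := (g₀ : G) * u * (g₀ : G)⁻¹ with he₀def
  have hue : u = g * e₀ * g⁻¹ := by rw [he₀def, hg]; group
  have hgD : g ∈ D := inv_mem g₀.2
  have hgN : g ∉ N := fun h => huE (hue ▸ (mem_normalizer_iff.1 h.2 e₀).1 he₀)
  -- `E` is regular on the other four cosets
  let q : G → ↥D ⧸ N.subgroupOf D := fun v => if hv : v ∈ D then QuotientGroup.mk ⟨v, hv⟩ else QuotientGroup.mk 1
  have hq : ∀ v w, v ∈ D → w ∈ D → (q v = q w ↔ v⁻¹ * w ∈ N) := by
    intro v w hv hw
    simp only [q, dif_pos hv, dif_pos hw]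
    exact QuotientGroup.eq.trans mem_subgroupOf
  have hfree : ∀ e ∈ F.E, g⁻¹ * e * g ∈ N → e = 1 := by
    intro e he h
    by_contra he1
    have hi : orderOf (g⁻¹ * e * g) = 2 := by
      rw [orderOf_conj_inv_eq]; exact invol_of_mul_self (F.sqE e he) he1
    have h' : g⁻¹ * e * g ∈ F.E := by
      by_contra h'
      exact S.not_norm h.1 hi h' h.2
    obtain ⟨j, hj⟩ := F.d_cycle he he1
    obtain ⟨j', hj'⟩ := F.d_cycle h' (invol_ne_one hi)
    set c := g * (F.d ^ j' * (F.d ^ j)⁻¹) with hc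
    have hcD : c ∈ D := mul_mem hgD (mul_mem (pow_mem S.d_mem _) (inv_mem (pow_mem S.d_mem _)))
    have hce : c * e = e * c := by
      refine mul_inv_eq_iff_eq_mul.1 ?_
      calc c * e * c⁻¹ = g * (F.d ^ j' * ((F.d ^ j)⁻¹ * e * F.d ^ j) * (F.d ^ j')⁻¹) * g⁻¹ := by
            rw [hc]; group
        _ = g * (F.d ^ j' * F.t * (F.d ^ j')⁻¹) * g⁻¹ := by rw [← hj]; group
        _ = e := by rw [hj']; group
    refine hgN ?_
    have hcE := hEN (S.cent' he he1 hcD hce)
    have := mul_mem hcE (inv_mem (mul_mem (pow_mem hdN j') (inv_mem (pow_mem hdN j))))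
    rwa [hc, mul_inv_cancel_right] at this
  have hinj : Function.Injective fun e : ↥F.E => q (e * g) := by
    intro a b hab
    rw [hq _ _ (mul_mem (S.E_le a.2) hgD) (mul_mem (S.E_le b.2) hgD)] at hab
    rw [show ((a : G) * g)⁻¹ * (b * g) = g⁻¹ * ((a : G)⁻¹ * b) * g by group] at hab
    exact Subtype.ext (inv_mul_eq_one.1 (hfree _ (mul_mem (inv_mem a.2) b.2) hab))
  have h5 : Nat.card (↥D ⧸ N.subgroupOf D) = 5 := by
    have := card_eq_card_quotient_mul_card_subgroup (N.subgroupOf D)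
    rw [h60, Nat.card_congr (subgroupOfEquivOfLe (inf_le_left : N ≤ D)).toEquiv, hN12] at this
    omega
  have hmiss : ∀ e : ↥F.E, q (e * g) ≠ q 1 := fun e he => by
    rw [hq _ _ (mul_mem (S.E_le e.2) hgD) (one_mem D), mul_one] at he
    exact hgN ((Subgroup.mul_mem_cancel_left N (hEN e.2)).1 (by simpa using inv_mem he))
  have hgn : n * g * n⁻¹ ∈ D := hnD g hgD
  obtain ⟨e, heq⟩ : ∃ e : ↥F.E, q (e * g) = q (n * g * n⁻¹) := by
    haveI : Fintype ↥F.E := Fintype.ofFinite _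
    haveI : Fintype (↥D ⧸ N.subgroupOf D) := Fintype.ofFinite _
    have hne : q (n * g * n⁻¹) ≠ q 1 := fun h => by
      rw [hq _ _ hgn (one_mem D), mul_one] at h
      have h' := inv_mem h
      rw [inv_inv] at h'
      have hh : n * (n * g * n⁻¹) = (n * g * n⁻¹) * n := hNn _ h'
      refine hgN ?_
      have : g = n * g * n⁻¹ := by
        have h2 : n * g * n⁻¹ = g := by
          apply mul_left_cancel (a := n)
          rw [hh]; group
        exact h2.symm
      rwa [this]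
    have himg : (Finset.univ.image fun e : ↥F.E => q (e * g)) = Finset.univ.erase (q 1) := by
      refine Finset.eq_of_subset_of_card_le (fun v hv => ?_) ?_
      · obtain ⟨e, -, rfl⟩ := Finset.mem_image.1 hv
        exact Finset.mem_erase.2 ⟨hmiss e, Finset.mem_univ _⟩
      · rw [Finset.card_image_of_injective _ hinj, Finset.card_erase_of_mem (Finset.mem_univ _),
          Finset.card_univ, Finset.card_univ, ← Nat.card_eq_fintype_card, ← Nat.card_eq_fintype_card, h5, F.cardE]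
    obtain ⟨e, -, he⟩ := Finset.mem_image.1 (himg.symm ▸ Finset.mem_erase.2 ⟨hne, Finset.mem_univ _⟩ :
      q (n * g * n⁻¹) ∈ Finset.univ.image fun e : ↥F.E => q (e * g))
    exact ⟨e, he⟩
  rw [hq _ _ (mul_mem (S.E_le e.2) hgD) hgn] at heq
  obtain ⟨m, hm, hgm⟩ : ∃ m ∈ N, n * g * n⁻¹ = e * g * m := ⟨_, heq, by group⟩
  -- three steps return to `g`
  have hstep : ∀ v, v ∈ N → n * v * n⁻¹ = v := fun v hv => by rw [hNn v hv, mul_inv_cancel_right]
  have hne' : n * (e : G) * n⁻¹ = e := hstep _ (hEN e.2)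
  have h2 : n * (n * g * n⁻¹) * n⁻¹ = (e : G) * (e * g * m) * m := by
    calc n * (n * g * n⁻¹) * n⁻¹ = (n * e * n⁻¹) * (n * g * n⁻¹) * (n * m * n⁻¹) := by
          nth_rewrite 1 [hgm]; group
      _ = _ := by rw [hne', hstep m hm, hgm]
  have h3 : g = (e : G) * (e * (e * g * m) * m) * m := by
    calc g = n ^ 3 * g * (n ^ 3)⁻¹ := by rw [hn3]; group
      _ = n * (n * (n * g * n⁻¹) * n⁻¹) * n⁻¹ := by simp [pow_succ, mul_assoc]
      _ = (n * e * n⁻¹) * (n * ((e : G) * g * m) * n⁻¹) * (n * m * n⁻¹) := by rw [h2]; group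
      _ = (n * e * n⁻¹) * ((n * e * n⁻¹) * (n * g * n⁻¹) * (n * m * n⁻¹)) * (n * m * n⁻¹) := by group
      _ = _ := by rw [hne', hstep m hm, hgm]
  have he1 : (e : G) = 1 := by
    refine hfree _ e.2 ?_
    have h4 : g = e * g * (m * m * m) := by
      conv_lhs => rw [h3]
      rw [show (e : G) * (e * (e * g * m) * m) * m = (e : G) * e * (e * g * (m * m * m)) by group, F.sqE _ e.2,
        one_mul]
    have h5' : g⁻¹ * e * g = (m * m * m)⁻¹ := by
      rw [eq_inv_iff_mul_eq_one, show g⁻¹ * e * g * (m * m * m) = g⁻¹ * (e * g * (m * m * m)) by group, ← h4,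
        inv_mul_cancel]
    rw [h5']; exact inv_mem (mul_mem (mul_mem hm hm) hm)
  rw [he1, one_mul] at hgm
  have hmN := mem_normalizer_iff.1 hm.2
  have hconj : n * u * n⁻¹ = g * (m * e₀ * m⁻¹) * g⁻¹ := by
    calc n * u * n⁻¹ = (n * g * n⁻¹) * (n * e₀ * n⁻¹) * (n * g * n⁻¹)⁻¹ := by rw [hue]; group
      _ = _ := by rw [hgm, hstep _ (hEN he₀)]; group
  have hcomm : n * u * n⁻¹ * u = u * (n * u * n⁻¹) := by
    rw [hconj, hue, show g * (m * e₀ * m⁻¹) * g⁻¹ * (g * e₀ * g⁻¹) = g * ((m * e₀ * m⁻¹) * e₀) * g⁻¹ by group,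
      F.E_comm ((hmN e₀).1 he₀) he₀]
    group
  have hu' : (n * u * n⁻¹) * F.d * (n * u * n⁻¹)⁻¹ = F.d⁻¹ := by
    have : n⁻¹ * F.d * n = F.d := by rw [mul_assoc, ← hnd, inv_mul_cancel_left]
    calc (n * u * n⁻¹) * F.d * (n * u * n⁻¹)⁻¹ = n * (u * (n⁻¹ * F.d * n) * u⁻¹) * n⁻¹ := by group
      _ = n * F.d⁻¹ * n⁻¹ := by rw [this, hud]
      _ = F.d⁻¹ := by
        rw [mul_inv_eq_iff_eq_mul]
        exact ((show Commute n F.d from hnd).inv_right).eq
  have hfix : n * u * n⁻¹ = u := by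
    set w := n * u * n⁻¹ with hw
    have hwo : orderOf w = 2 := by rw [hw, orderOf_conj_eq]; exact hu
    have hwud : (w * u) * F.d = F.d * (w * u) := by
      refine mul_inv_eq_iff_eq_mul.1 ?_
      calc w * u * F.d * (w * u)⁻¹ = w * (u * F.d * u⁻¹) * w⁻¹ := by group
        _ = (w * F.d * w⁻¹)⁻¹ := by rw [hud]; group
        _ = F.d := by rw [hu', inv_inv]
    have hsq : (w * u) * (w * u) = 1 := by
      rw [show w * u * (w * u) = w * (u * w) * u by group, ← hcomm,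
        show w * (w * u) * u = (w * w) * (u * u) by group, invol_mul_self hwo, invol_mul_self hu, one_mul]
    by_contra hne
    have hwu1 : w * u ≠ 1 := fun h => hne (by rw [← inv_eq_of_mul_eq_one_left h, invol_inv hu])
    have hwD : w * u ∈ D := mul_mem (hnD u huD) huD
    have h3c := (S.cent.three h60 (y := (⟨F.d, S.d_mem⟩ : ↥D)) (by rw [← orderOf_coe]; exact S.d_order)).1
    have hdvd := (centralizer ({(⟨F.d, S.d_mem⟩ : ↥D)} : Set ↥D)).orderOf_dvd_natCard
      (x := ⟨w * u, hwD⟩) (mem_centralizer_singleton_iff.2 (Subtype.ext hwud))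
    rw [h3c, ← orderOf_coe, invol_of_mul_self hsq hwu1] at hdvd
    norm_num at hdvd
  intro h hh
  have hK := S.eq_D h60 (K := D ⊓ centralizer ({n} : Set G)) inf_le_left
    (le_inf S.E_le fun e he => mem_centralizer_singleton_iff.2 (hnE e he).symm)
    ⟨S.d_mem, mem_centralizer_singleton_iff.2 hnd.symm⟩
    ⟨huD, mem_centralizer_singleton_iff.2 (mul_inv_eq_iff_eq_mul.1 hfix).symm⟩ hu huE
  exact (mem_centralizer_singleton_iff.1 (hK.symm ▸ hh : h ∈ D ⊓ _).2).symm

/-- The centraliser of `D` in the component is large. -/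
theorem card_R (h60 : Nat.card ↥D = 60) :
    42 ≤ Nat.card ↥(F.L ⊓ centralizer (D : Set G)) := by
  obtain ⟨u, huD, hu, hud, huE⟩ := S.exists_inverter h60
  set L' := F.L.map (MulAut.conj u).toMonoidHom with hL'
  have hCd : ∀ {v : G}, v ∈ centralizer ({F.d} : Set G) ↔ v * F.d = F.d * v := mem_centralizer_singleton_iff
  have h1 : F.L ≤ centralizer ({F.d} : Set G) := fun l hl => hCd.2 (F.d_comm l hl).symm
  have h2 : L' ≤ centralizer ({F.d} : Set G) := by
    rintro _ ⟨l, hl, rfl⟩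
    refine hCd.2 ?_
    show u * l * u⁻¹ * F.d = F.d * (u * l * u⁻¹)
    have hud2 : u⁻¹ * F.d * u = F.d⁻¹ := by
      rw [invol_inv hu]; rw [invol_inv hu] at hud; exact hud
    have hl' : l * F.d⁻¹ = F.d⁻¹ * l := ((show Commute F.d l from F.d_comm l hl).inv_left).eq.symm
    calc u * l * u⁻¹ * F.d = u * (l * (u⁻¹ * F.d * u)) * u⁻¹ := by group
      _ = u * ((u⁻¹ * F.d * u) * l) * u⁻¹ := by rw [hud2, hl']
      _ = F.d * (u * l * u⁻¹) := by group
  have hmul : ∀ {A B : Subgroup G}, A ≤ B → Nat.card ↥A * A.relIndex B = Nat.card ↥B := fun {A B} hAB => by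
    rw [← Nat.card_congr (subgroupOfEquivOfLe hAB).toEquiv]
    exact card_mul_index _
  have hcard' : Nat.card ↥L' = 20160 := by
    rw [hL', card_map_of_injective (MulEquiv.injective _), F.cardL]
  have ha : Nat.card ↥(L' ⊓ F.L) * L'.relIndex F.L = 20160 := by
    rw [← inf_relIndex_right, ← F.cardL]
    exact hmul inf_le_right
  have hb : Nat.card ↥L' * L'.relIndex (centralizer ({F.d} : Set G)) ≤ 9797760 := by
    rw [hmul h2]; exact F.d_card
  have hab : L'.relIndex F.L ≤ L'.relIndex (centralizer ({F.d} : Set G)) :=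
    relIndex_le_of_le_right h1 index_ne_zero_of_finite
  rw [hcard'] at hb
  have h42 : 42 ≤ Nat.card ↥(L' ⊓ F.L) := by
    by_contra h
    have h3 : Nat.card ↥(L' ⊓ F.L) * L'.relIndex F.L ≤ 41 * L'.relIndex F.L := Nat.mul_le_mul_right _ (by omega)
    omega
  refine h42.trans (Nat.le_of_dvd Nat.card_pos (card_dvd_of_le (le_inf inf_le_right fun r hr => ?_)))
  obtain ⟨⟨r', hr', hrr'⟩, hrL⟩ := hr
  have hr1 : u * r' * u⁻¹ = r := hrr'
  set v := u * F.t * u⁻¹ with hv
  have hvD : v ∈ D := mul_mem (mul_mem huD (S.E_le F.t_mem)) (inv_mem huD)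
  have hvE : v ∉ F.E := fun h => by
    obtain ⟨j, hj⟩ := F.d_cycle h (fun e => F.t_ne (conj_eq_one_iff.1 e))
    have hc : (F.d ^ j)⁻¹ * u ∈ F.E := S.cent' F.t_mem F.t_ne
      (mul_mem (inv_mem (pow_mem S.d_mem _)) huD) (mul_inv_eq_iff_eq_mul.1 (by
        rw [show (F.d ^ j)⁻¹ * u * F.t * ((F.d ^ j)⁻¹ * u)⁻¹ = (F.d ^ j)⁻¹ * v * F.d ^ j by rw [hv]; group, ← hj]
        group))
    refine S.not_norm huD hu huE ?_
    have := mul_mem (pow_mem S.d_norm' j) (le_normalizer hc)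
    rwa [mul_inv_cancel_left] at this
  have hvr : v * r = r * v := by
    rw [hv, ← hr1, show u * F.t * u⁻¹ * (u * r' * u⁻¹) = u * (F.t * r') * u⁻¹ by group,
      F.comm _ F.t_mem _ hr']
    group
  have hK := S.eq_D h60 (K := D ⊓ centralizer ({r} : Set G)) inf_le_left
    (le_inf S.E_le fun e he => mem_centralizer_singleton_iff.2 (F.comm e he r hrL))
    ⟨S.d_mem, mem_centralizer_singleton_iff.2 (F.d_comm r hrL)⟩
    ⟨hvD, mem_centralizer_singleton_iff.2 hvr⟩ (by rw [hv, orderOf_conj_eq]; exact F.t_invol) hvE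
  exact mem_centralizer_iff.2 fun h hh =>
    mem_centralizer_singleton_iff.1 (hK.symm ▸ hh : h ∈ D ⊓ _).2

end Split

end CfsgLib.InvChar.SuzT
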