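import Cfsg.Agent.Lib.InvChar.SuzT.SevenLarge
import Cfsg.Agent.Lib.InvChar.SuzT.SevenGroups
import Mathlib.GroupTheory.SpecificGroups.Alternating

/-!
# Exclusion of the large case

If `D` had order 60 then its centraliser `R` in the component would have order 168, the centraliser of an
element `x` of order five of `D` would be `⟨x⟩ × R`, and all elements of order five would be conjugate to `x`.
-/

set_option autoImplicit false

namespace CfsgLib.InvChar.SuzT

open Subgroup CfsgLib.Invol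

universe u

theorem zmod_five_cube : ∀ j : ZMod 5, j ^ 3 = 1 → j = 1 := by decide

theorem perm_eight : ∃ σ : Equiv.Perm (Fin 8), σ ^ 15 = 1 ∧ σ ^ 5 ≠ 1 ∧ σ ^ 3 ≠ 1 :=
  ⟨Equiv.swap 0 1 * Equiv.swap 1 2 * (Equiv.swap 3 4 * Equiv.swap 4 5 * Equiv.swap 5 6 * Equiv.swap 6 7),
    by decide +kernel⟩

theorem divisor_cases : ∀ m ∈ Nat.divisors 960, m % 7 = 1 → ¬ 16 ∣ 21 * m → 42 ≤ 21 * m →
    m = 8 ∨ m = 15 ∨ m = 120 := by decide +kernel

variable {G : Type u} [Group G] [Finite G] {z : G}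

namespace TFrame

variable (F : TFrame z)
include F

theorem five_centralizer {w x : G} (hwz : IsConj z w) (hx : orderOf x = 5) (hxw : x * w = w * x) :
    Nat.card ↥(centralizer ({w} : Set G) ⊓ centralizer ({x} : Set G)) = 40 := by
  obtain ⟨g, hg⟩ := isConj_iff.1 hwz
  set x' := g⁻¹ * x * g with hx'
  have h1 : x' * z = z * x' := by
    have : z = g⁻¹ * w * g := by rw [← hg]; group
    rw [this, hx', show g⁻¹ * x * g * (g⁻¹ * w * g) = g⁻¹ * (x * w) * g by group, hxw]
    group
  have h2 := F.cz_five x' (by rw [hx', orderOf_conj_inv_eq]; exact hx) h1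
  have hmap : (centralizer ({z} : Set G) ⊓ centralizer ({x'} : Set G)).map (MulAut.conj g).toMonoidHom =
      centralizer ({w} : Set G) ⊓ centralizer ({x} : Set G) := by
    ext v
    simp only [mem_map_equiv, MulAut.conj_symm_apply, mem_inf, mem_centralizer_singleton_iff]
    have hw' : w = g * z * g⁻¹ := hg.symm
    have hx'' : x = g * x' * g⁻¹ := by rw [hx']; group
    constructor
    · rintro ⟨a, b⟩
      rw [hw', hx'']
      refine ⟨?_, ?_⟩
      · calc v * (g * z * g⁻¹) = g * (g⁻¹ * v * g * z) * g⁻¹ := by group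
          _ = g * (z * (g⁻¹ * v * g)) * g⁻¹ := by rw [a]
          _ = _ := by group
      · calc v * (g * x' * g⁻¹) = g * (g⁻¹ * v * g * x') * g⁻¹ := by group
          _ = g * (x' * (g⁻¹ * v * g)) * g⁻¹ := by rw [b]
          _ = _ := by group
    · rintro ⟨a, b⟩
      refine ⟨?_, ?_⟩
      · calc g⁻¹ * v * g * z = g⁻¹ * (v * (g * z * g⁻¹)) * g := by group
          _ = g⁻¹ * ((g * z * g⁻¹) * v) * g := by rw [← hw', a]
          _ = _ := by group
      · calc g⁻¹ * v * g * x' = g⁻¹ * (v * (g * x' * g⁻¹)) * g := by group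
          _ = g⁻¹ * ((g * x' * g⁻¹) * v) * g := by rw [← hx'', b]
          _ = _ := by group
  rw [← hmap, card_map_of_injective (MulEquiv.injective _), h2]

end TFrame

namespace Split

variable {F : TFrame z} {y : G} {D : Subgroup G} (S : Split F y D)
include S

theorem y_mem_R : y ∈ F.L ⊓ centralizer (D : Set G) :=
  ⟨S.hy, mem_centralizer_iff.2 fun h hh => S.comm h hh⟩

theorem exists_five (h60 : Nat.card ↥D = 60) : ∃ x ∈ D, orderOf x = 5 ∧ x ∉ F.L := by
  haveI : Fact (Nat.Prime 5) := ⟨by norm_num⟩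
  obtain ⟨x, hx⟩ := exists_prime_orderOf_dvd_card' (G := ↥D) 5 (by rw [h60]; norm_num)
  rw [← orderOf_coe] at hx
  refine ⟨x, x.2, hx, fun hxL => ?_⟩
  have := orderOf_dvd_of_mem_zpowers (F.L_self y S.hy (Or.inr S.hy7) x hxL (S.comm x x.2))
  rw [hx, S.hy7] at this
  norm_num at this

/-- Centralisers in `R` of involutions of `R`. -/
theorem cent_R_dvd (h60 : Nat.card ↥D = 60) {w : G} (hw : w ∈ F.L ⊓ centralizer (D : Set G))
    (hw2 : orderOf w = 2) :
    Nat.card ↥((F.L ⊓ centralizer (D : Set G)) ⊓ centralizer ({w} : Set G)) ∣ 8 := by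
  haveI : Fact (Nat.Prime 5) := ⟨by norm_num⟩
  obtain ⟨x, hxD, hx, hxL⟩ := S.exists_five h60
  set A := (F.L ⊓ centralizer (D : Set G)) ⊓ centralizer ({w} : Set G) with hA
  set J := centralizer ({w} : Set G) ⊓ centralizer ({x} : Set G) with hJ
  have hxw : x * w = w * x := mem_centralizer_iff.1 hw.2 x hxD
  have hJ40 : Nat.card ↥J = 40 := F.five_centralizer (F.L_class w hw.1 hw2).symm hx hxw
  have hxJ : x ∈ J := ⟨mem_centralizer_singleton_iff.2 hxw, mem_centralizer_singleton_iff.2 rfl⟩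
  have hle : zpowers x ≤ J := zpowers_le.2 hxJ
  haveI : ((zpowers x).subgroupOf J).Normal := ⟨fun a ha b => mem_subgroupOf.2 (by
    obtain ⟨i, hi⟩ := mem_zpowers_iff.1 (mem_subgroupOf.1 ha)
    show (b : G) * a * (b : G)⁻¹ ∈ zpowers x
    rw [← hi, ((show Commute (b : G) x from mem_centralizer_singleton_iff.1 b.2.2).zpow_right i).eq,
      mul_inv_cancel_right]
    exact zpow_mem (mem_zpowers x) i)⟩
  have hAJ : A ≤ J := fun a ha =>
    ⟨ha.2, mem_centralizer_singleton_iff.2 (mem_centralizer_iff.1 ha.1.2 x hxD).symm⟩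
  let φ : ↥A →* ↥J ⧸ (zpowers x).subgroupOf J :=
    (QuotientGroup.mk' _).comp (Subgroup.inclusion hAJ)
  have hinj : Function.Injective φ := by
    rw [injective_iff_map_eq_one]
    intro a ha
    have h1 : (a : G) ∈ zpowers x := mem_subgroupOf.1 ((QuotientGroup.eq_one_iff (Subgroup.inclusion hAJ a)).1 ha)
    by_contra hne
    have hne' : (a : G) ≠ 1 := fun e => hne (Subtype.ext e)
    have h2 : orderOf (a : G) = 5 := by
      rcases (Nat.dvd_prime (by norm_num : Nat.Prime 5)).1 (hx ▸ orderOf_dvd_of_mem_zpowers h1) with e | e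
      · exact absurd (orderOf_eq_one_iff.1 e) hne'
      · exact e
    refine hxL ?_
    have h3 : zpowers (a : G) = zpowers x := eq_of_le_of_card_ge (zpowers_le.2 h1) (by
      rw [Nat.card_zpowers, Nat.card_zpowers, h2, hx])
    exact zpowers_le.2 a.2.1.1 (h3.symm ▸ mem_zpowers x : x ∈ zpowers (a : G))
  have h := card_dvd_of_injective φ hinj
  rwa [show Nat.card (↥J ⧸ (zpowers x).subgroupOf J) = 8 by
    have := card_eq_card_quotient_mul_card_subgroup ((zpowers x).subgroupOf J)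
    rw [hJ40, Nat.card_congr (subgroupOfEquivOfLe hle).toEquiv, Nat.card_zpowers, hx] at this
    omega] at h

theorem not_sixteen (h60 : Nat.card ↥D = 60) : ¬ 16 ∣ Nat.card ↥(F.L ⊓ centralizer (D : Set G)) := by
  intro h16
  haveI : Fact (Nat.Prime 2) := ⟨Nat.prime_two⟩
  set R := F.L ⊓ centralizer (D : Set G) with hR
  obtain ⟨P, hP⟩ := Sylow.exists_subgroup_card_pow_prime (G := ↥R) 2 (n := 4) (by norm_num; exact h16)
  norm_num at hP
  haveI : Nontrivial ↥P := Finite.one_lt_card_iff_nontrivial.1 (by rw [hP]; norm_num)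
  have hpg : IsPGroup 2 ↥P := IsPGroup.of_card (n := 4) (hP.trans (by norm_num))
  haveI := hpg.center_nontrivial
  obtain ⟨n, hn, hn'⟩ := (hpg.to_subgroup (center ↥P)).nontrivial_iff_card.1 inferInstance
  obtain ⟨c₀, hc₀⟩ := exists_prime_orderOf_dvd_card' (G := ↥(center ↥P)) 2 (hn' ▸ dvd_pow_self 2 hn.ne')
  set c : G := (((c₀ : ↥P) : ↥R) : G) with hc
  have hc2 : orderOf c = 2 := by rw [hc, orderOf_coe, orderOf_coe, orderOf_coe]; exact hc₀
  have h8 := S.cent_R_dvd h60 ((c₀ : ↥P) : ↥R).2 hc2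
  have hle : P.map R.subtype ≤ R ⊓ centralizer ({c} : Set G) := by
    rintro _ ⟨a, ha, rfl⟩
    exact ⟨a.2, mem_centralizer_singleton_iff.2
      (congrArg (fun v : ↥P => ((v : ↥R) : G)) (mem_center_iff.1 c₀.2 ⟨a, ha⟩))⟩
  have h16' := (card_dvd_of_le hle).trans h8
  rw [card_map_of_injective R.subtype_injective, hP] at h16'
  norm_num at h16'

theorem exists_three (h60 : Nat.card ↥D = 60) :
    Nat.card ↥(normalizer (zpowers y : Set G) ⊓ (F.L ⊓ centralizer (D : Set G))) = 21 := by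
  haveI : Fact (Nat.Prime 3) := ⟨by norm_num⟩
  have hN := F.L_norm (zpowers y) (zpowers_le.2 S.hy) (by rw [Nat.card_zpowers, S.hy7])
  obtain ⟨n, hn⟩ := exists_prime_orderOf_dvd_card'
    (G := ↥(normalizer (zpowers y : Set G) ⊓ F.L)) 3 (by rw [hN]; norm_num)
  rw [← orderOf_coe] at hn
  have hn3 : (n : G) ^ 3 = 1 := by
    have h := pow_orderOf_eq_one (n : G)
    rwa [hn] at h
  have hcomm := S.three_comm h60 n.2.2 hn3 ((mem_normalizer_iff.1 n.2.1 y).1 (mem_zpowers y))
  set A := normalizer (zpowers y : Set G) ⊓ (F.L ⊓ centralizer (D : Set G)) with hA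
  have hAle : A ≤ normalizer (zpowers y : Set G) ⊓ F.L := fun a ha => ⟨ha.1, ha.2.1⟩
  have h7 : 7 ∣ Nat.card ↥A := S.hy7 ▸ A.orderOf_dvd_natCard ⟨le_normalizer (mem_zpowers y), S.y_mem_R⟩
  have h3 : 3 ∣ Nat.card ↥A := hn ▸ A.orderOf_dvd_natCard
    ⟨n.2.1, n.2.2, mem_centralizer_iff.2 fun h hh => (hcomm h hh).symm⟩
  exact Nat.dvd_antisymm (hN ▸ card_dvd_of_le hAle)
    (Nat.Coprime.mul_dvd_of_dvd_of_dvd (by norm_num : Nat.Coprime 7 3) h7 h3)

theorem card_R_eq (h60 : Nat.card ↥D = 60) : Nat.card ↥(F.L ⊓ centralizer (D : Set G)) = 168 := by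
  classical
  set R := F.L ⊓ centralizer (D : Set G) with hR
  have hRL : R ≤ F.L := inf_le_left
  have hdvd : Nat.card ↥R ∣ 20160 := F.cardL ▸ card_dvd_of_le hRL
  haveI : Fact (Nat.Prime 7) := ⟨by norm_num⟩
  have hY : Nat.card ↥((zpowers y).subgroupOf R) = 7 := by
    rw [Nat.card_congr (subgroupOfEquivOfLe (zpowers_le.2 S.y_mem_R)).toEquiv, Nat.card_zpowers, S.hy7]
  obtain ⟨P, hP⟩ : ∃ P : Sylow 7 ↥R, (P : Subgroup ↥R) = (zpowers y).subgroupOf R :=
    ⟨(IsPGroup.of_card (n := 1) (hY.trans (pow_one 7).symm)).toSylow (by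
      intro h
      have h' : 7 ∣ ((zpowers y).subgroupOf R).index := h
      have h2 := ((zpowers y).subgroupOf R).card_mul_index
      rw [hY] at h2
      have h3 : 49 ∣ Nat.card ↥R := by rw [← h2]; exact Nat.mul_dvd_mul_left 7 h'
      exact absurd (h3.trans hdvd) (by norm_num)), rfl⟩
  have hNcard : Nat.card ↥(normalizer ((P : Subgroup ↥R) : Set ↥R)) = 21 := by
    rw [hP, ← subgroupOf_normalizer_eq (zpowers_le.2 S.y_mem_R), ← inf_subgroupOf_right,
      Nat.card_congr (subgroupOfEquivOfLe inf_le_right).toEquiv]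
    exact S.exists_three h60
  have hmul := (normalizer ((P : Subgroup ↥R) : Set ↥R)).card_mul_index
  have hmod := card_sylow_modEq_one 7 ↥R
  rw [P.card_eq_index_normalizer] at hmod
  rw [hNcard] at hmul
  set m := (normalizer ((P : Subgroup ↥R) : Set ↥R)).index with hm
  have hm960 : m ∈ Nat.divisors 960 := Nat.mem_divisors.2
    ⟨Nat.dvd_of_mul_dvd_mul_left (by norm_num : 0 < 21) (by rw [hmul]; exact hdvd), by norm_num⟩
  have h42 := S.card_R h60
  rw [← hR] at h42
  rcases divisor_cases m hm960 hmod (hmul ▸ S.not_sixteen h60) (hmul ▸ h42) with h | h | h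
  · rw [← hmul, h]
  · -- an element of order five would be centralised by one of order three
    exfalso
    rw [h] at hmul
    haveI : Fact (Nat.Prime 5) := ⟨by norm_num⟩
    obtain ⟨Q⟩ : Nonempty (Sylow 5 ↥R) := inferInstance
    have hQ5 : Nat.card ↥(Q : Subgroup ↥R) = 5 := by
      rw [Q.card_eq_multiplicity, ← hmul, show Nat.factorization (21 * 15) 5 = 1 by
        rw [show 21 * 15 = 5 * 63 by norm_num, Nat.factorization_mul (by norm_num) (by norm_num),
          Finsupp.add_apply, Nat.Prime.factorization_self (by norm_num),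
          Nat.factorization_eq_zero_of_not_dvd (by norm_num)]]
      norm_num
    have h1 := card_sylow_modEq_one 5 ↥R
    rw [Q.card_eq_index_normalizer] at h1
    have h2 := (normalizer ((Q : Subgroup ↥R) : Set ↥R)).card_mul_index
    rw [← hmul] at h2
    have h3 : 3 ∣ Nat.card ↥(normalizer ((Q : Subgroup ↥R) : Set ↥R)) := by
      have h5 := card_dvd_of_le (le_normalizer (H := (Q : Subgroup ↥R)))
      rw [hQ5] at h5
      obtain ⟨i, hi⟩ := h5
      rw [hi] at h2 ⊢
      have hidx : i * (normalizer ((Q : Subgroup ↥R) : Set ↥R)).index = 63 :=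
        Nat.eq_of_mul_eq_mul_left (by norm_num : 0 < 5) (by rw [← mul_assoc, h2])
      unfold Nat.ModEq at h1
      have hd : (normalizer ((Q : Subgroup ↥R) : Set ↥R)).index ∣ 63 := Dvd.intro_left _ hidx
      have hle := Nat.le_of_dvd (by norm_num) hd
      refine Dvd.dvd.mul_left ?_ 5
      generalize (normalizer ((Q : Subgroup ↥R) : Set ↥R)).index = j at *
      interval_cases j <;> omega
    haveI : Fact (Nat.Prime 3) := ⟨by norm_num⟩
    obtain ⟨⟨c, hcN⟩, hc⟩ := exists_prime_orderOf_dvd_card' (G := ↥(normalizer ((Q : Subgroup ↥R) : Set ↥R))) 3 h3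
    rw [← orderOf_coe] at hc
    change orderOf c = 3 at hc
    obtain ⟨q, hq⟩ := exists_prime_orderOf_dvd_card' (G := ↥(Q : Subgroup ↥R)) 5 (by rw [hQ5])
    rw [← orderOf_coe] at hq
    have hQz : zpowers (q : ↥R) = (Q : Subgroup ↥R) := eq_of_le_of_card_ge (zpowers_le.2 q.2)
      (by rw [Nat.card_zpowers, hq, hQ5])
    obtain ⟨i, hi⟩ : c * (q : ↥R) * c⁻¹ ∈ zpowers (q : ↥R) := by
      rw [hQz]; exact (mem_normalizer_iff.1 hcN _).1 q.2
    have hi' : (q : ↥R) ^ i = c * q * c⁻¹ := hi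
    have h3' : (q : ↥R) ^ (i * i * i) = q := by
      rw [zpow_mul, zpow_mul, hi', conj_zpow, hi', conj_zpow, conj_zpow, hi']
      calc c * (c * (c * (q : ↥R) * c⁻¹) * c⁻¹) * c⁻¹ = c ^ 3 * q * (c ^ 3)⁻¹ := by
            simp [pow_succ, mul_assoc]
        _ = q := by rw [← hc, pow_orderOf_eq_one]; group
    have hd : (5 : ℤ) ∣ i * i * i - 1 := by
      rw [show (5 : ℤ) = (orderOf (q : ↥R) : ℤ) by rw [hq]; norm_num, orderOf_dvd_iff_zpow_eq_one, zpow_sub_one,
        h3', mul_inv_cancel]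
    have e0 := (ZMod.intCast_zmod_eq_zero_iff_dvd (i * i * i - 1) 5).2 hd
    push_cast at e0
    have e1 := zmod_five_cube (i : ZMod 5) (by rw [show ((i : ZMod 5)) ^ 3 = i * i * i by ring]; exact sub_eq_zero.1 e0)
    have hi1 : (5 : ℤ) ∣ i - 1 := by
      refine (ZMod.intCast_zmod_eq_zero_iff_dvd (i - 1) 5).1 ?_
      push_cast
      rw [e1, sub_self]
    have hcq : c * (q : ↥R) = q * c := by
      refine mul_inv_eq_iff_eq_mul.1 ?_
      have hh : (q : ↥R) ^ (i - 1) = 1 := by
        rw [← orderOf_dvd_iff_zpow_eq_one, hq]; exact hi1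
      rw [zpow_sub_one, mul_inv_eq_one, hi'] at hh
      exact hh
    have h5 := orderOf_dvd_of_mem_zpowers (F.L_self _ (hRL (q : ↥R).2) (Or.inl (by rw [orderOf_coe]; exact hq)) _
      (hRL c.2) (congrArg Subtype.val hcq))
    rw [orderOf_coe, orderOf_coe, hc, hq] at h5
    norm_num at h5
  · -- the component would act on eight points
    exfalso
    rw [h] at hmul
    set K := R.subgroupOf F.L with hK
    have hK8 : K.index = 8 := by
      have := K.card_mul_index
      rw [Nat.card_congr (subgroupOfEquivOfLe hRL).toEquiv, ← hmul, F.cardL] at this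
      omega
    have hq8 : Nat.card (↥F.L ⧸ K) = 8 := hK8
    haveI := F.simpleL
    let φ := MulAction.toPermHom ↥F.L (↥F.L ⧸ K)
    have hker : φ.ker = ⊥ := by
      rcases (inferInstance : φ.ker.Normal).eq_bot_or_eq_top with e | e
      · exact e
      · exfalso
        have hle : φ.ker ≤ K := by
          rw [show φ.ker = K.normalCore from (normalCore_eq_ker K).symm]; exact normalCore_le K
        rw [e, top_le_iff] at hle
        rw [hle, index_top] at hK8
        norm_num at hK8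
    have hrange : φ.range.index = 2 := by
      have h2 := φ.range.card_mul_index
      rw [Nat.card_perm, hq8, ← Nat.card_congr (MonoidHom.ofInjective ((MonoidHom.ker_eq_bot_iff _).1 hker)).toEquiv,
        F.cardL] at h2
      norm_num [Nat.factorial] at h2
      omega
    obtain ⟨σ₀, h15, h5, h3⟩ := perm_eight
    haveI : Fintype (↥F.L ⧸ K) := Fintype.ofFinite _
    let E := ((Fintype.equivFinOfCardEq (by rw [← Nat.card_eq_fintype_card, hq8] :
      Fintype.card (↥F.L ⧸ K) = 8)).symm.permCongrHom)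
    set σ := E σ₀ with hσ
    have hσ15 : σ ^ 15 = 1 := by rw [hσ, ← map_pow, h15, map_one]
    have hmem : σ ∈ φ.range := by
      have e : σ = σ ^ 8 * σ ^ 8 := by
        rw [← pow_add, show 8 + 8 = 15 + 1 from rfl, pow_succ, hσ15, one_mul]
      rw [e]
      exact mul_self_mem_of_index_two hrange _
    obtain ⟨g, hg⟩ := hmem
    have hinj := (MonoidHom.ker_eq_bot_iff _).1 hker
    have hne : ∀ k : ℕ, σ₀ ^ k ≠ 1 → g ^ k ≠ 1 := fun k hk e => hk (E.injective (by
      rw [map_one, map_pow, ← hσ, ← hg, ← map_pow, e, map_one]))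
    have hg15 : g ^ 15 = 1 := hinj (by rw [map_pow, hg, hσ15, map_one])
    haveI : Fact (Nat.Prime 5) := ⟨by norm_num⟩
    have ho : orderOf (g ^ 3 : ↥F.L) = 5 := orderOf_eq_prime (by rw [← pow_mul]; exact hg15) (hne 3 h3)
    have hz := orderOf_dvd_of_mem_zpowers (F.L_self ((g ^ 3 : ↥F.L) : G) (g ^ 3).2
      (Or.inl (by rw [orderOf_coe]; exact ho)) (g : G) g.2 (congrArg Subtype.val (Commute.self_pow g 3).eq))
    rw [orderOf_coe, orderOf_coe, ho] at hz
    exact hne 5 h5 (orderOf_dvd_iff_pow_eq_one.1 hz)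

theorem false_of_sixty (h60 : Nat.card ↥D = 60) : False := by
  classical
  set R := F.L ⊓ centralizer (D : Set G) with hR
  have hR168 : Nat.card ↥R = 168 := S.card_R_eq h60
  haveI : Fact (Nat.Prime 5) := ⟨by norm_num⟩
  haveI : Fact (Nat.Prime 7) := ⟨by norm_num⟩
  haveI : Fact (Nat.Prime 2) := ⟨Nat.prime_two⟩
  -- no subgroup of index two
  have hno : ∀ K : Subgroup ↥R, K.Normal → K.index ≠ 2 := by
    intro K hK hKi
    have hY : Nat.card ↥((zpowers y).subgroupOf R) = 7 := by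
      rw [Nat.card_congr (subgroupOfEquivOfLe (zpowers_le.2 S.y_mem_R)).toEquiv, Nat.card_zpowers, S.hy7]
    obtain ⟨P, hP⟩ : ∃ P : Sylow 7 ↥R, (P : Subgroup ↥R) = (zpowers y).subgroupOf R :=
      ⟨(IsPGroup.of_card (n := 1) (hY.trans (pow_one 7).symm)).toSylow (by
        intro h
        have h' : 7 ∣ ((zpowers y).subgroupOf R).index := h
        have h2 := ((zpowers y).subgroupOf R).card_mul_index
        rw [hY, hR168] at h2
        omega), rfl⟩
    have hN : Nat.card ↥(normalizer ((P : Subgroup ↥R) : Set ↥R)) = 21 := by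
      rw [hP, ← subgroupOf_normalizer_eq (zpowers_le.2 S.y_mem_R), ← inf_subgroupOf_right,
        Nat.card_congr (subgroupOfEquivOfLe inf_le_right).toEquiv]
      exact S.exists_three h60
    have hodd : ∀ a : ↥R, a ^ 21 = 1 → a ∈ K := fun a ha => by
      have e : a = a ^ 11 * a ^ 11 := by
        rw [← pow_add, show 11 + 11 = 21 + 1 from rfl, pow_succ, ha, one_mul]
      rw [e]; exact mul_self_mem_of_index_two hKi _
    have hNK : normalizer ((P : Subgroup ↥R) : Set ↥R) ≤ K := fun a ha => hodd a (by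
      have := pow_card_eq_one' (x := (⟨a, ha⟩ : ↥(normalizer ((P : Subgroup ↥R) : Set ↥R))))
      rw [hN] at this
      exact congrArg Subtype.val this)
    have htop := Sylow.normalizer_sup_eq_top' P (le_normalizer.trans hNK)
    rw [top_le_iff.1 (htop.symm.le.trans (sup_le hNK le_rfl)), index_top] at hKi
    norm_num at hKi
  -- one class of involutions in `R`
  have hcentR : ∀ v : ↥R, orderOf v = 2 → Nat.card ↥(centralizer ({v} : Set ↥R)) =
      Nat.card ↥(R ⊓ centralizer ({(v : G)} : Set G)) := fun v _ => by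
    rw [← card_map_of_injective R.subtype_injective]
    congr 2
    ext a
    constructor
    · rintro ⟨b, hb, rfl⟩
      exact ⟨b.2, mem_centralizer_singleton_iff.2 (congrArg Subtype.val (mem_centralizer_singleton_iff.1 hb))⟩
    · rintro ⟨ha, ha'⟩
      exact ⟨⟨a, ha⟩, mem_centralizer_singleton_iff.2 (Subtype.ext (mem_centralizer_singleton_iff.1 ha')), rfl⟩
  have hone := one_class hR168 hno fun v hv => hcentR v hv ▸ S.cent_R_dvd h60 v.2 (by rw [orderOf_coe]; exact hv)
  -- the centraliser of `x`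
  obtain ⟨x, hxD, hx, hxL⟩ := S.exists_five h60
  have hxR : ∀ r ∈ R, x * r = r * x := fun r hr => mem_centralizer_iff.1 hr.2 x hxD
  let ψ : ↥R × ↥(zpowers x) →* G := MonoidHom.noncommCoprod R.subtype (zpowers x).subtype fun r a => by
    obtain ⟨i, hi⟩ := mem_zpowers_iff.1 a.2
    show Commute (r : G) (a : G)
    rw [← hi]
    exact (show Commute (r : G) x from (hxR r r.2).symm).zpow_right i
  have hψ : ∀ r a, ψ (r, a) = (r : G) * a := fun r a => MonoidHom.noncommCoprod_apply _ _ _ _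
  have hinter : ∀ a ∈ zpowers x, a ∈ R → a = 1 := by
    intro a ha haR
    by_contra hne
    refine hxL ?_
    have h2 : orderOf a = 5 := by
      rcases (Nat.dvd_prime (by norm_num : Nat.Prime 5)).1 (hx ▸ orderOf_dvd_of_mem_zpowers ha) with e | e
      · exact absurd (orderOf_eq_one_iff.1 e) hne
      · exact e
    have h3 : zpowers a = zpowers x := eq_of_le_of_card_ge (zpowers_le.2 ha) (by
      rw [Nat.card_zpowers, Nat.card_zpowers, h2, hx])
    exact (zpowers_le.2 haR (h3.symm ▸ mem_zpowers x : x ∈ zpowers a)).1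
  have hψinj : Function.Injective ψ := by
    rw [injective_iff_map_eq_one]
    rintro ⟨r, a⟩ h
    rw [hψ] at h
    have ha : (a : G) ∈ R := by
      rw [← inv_eq_of_mul_eq_one_right h]; exact inv_mem r.2
    have ha1 := hinter a a.2 ha
    rw [ha1, mul_one] at h
    exact Prod.ext (Subtype.ext h) (Subtype.ext ha1)
  set X := ψ.range with hX
  have hXcard : Nat.card ↥X = 840 := by
    rw [← Nat.card_congr (MonoidHom.ofInjective hψinj).toEquiv, Nat.card_prod, hR168, Nat.card_zpowers, hx]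
  have hRX : ∀ r ∈ R, r ∈ X := fun r hr => ⟨(⟨r, hr⟩, 1), by rw [hψ]; simp⟩
  have hxX : ∀ a ∈ zpowers x, a ∈ X := fun a ha => ⟨(1, ⟨a, ha⟩), by rw [hψ]; simp⟩
  set C := centralizer ({x} : Set G) with hC
  have hXC : X ≤ C := by
    rintro _ ⟨⟨r, a⟩, rfl⟩
    rw [hψ]
    refine mul_mem (mem_centralizer_singleton_iff.2 (hxR r r.2).symm) ?_
    exact zpowers_le.2 (mem_centralizer_singleton_iff.2 rfl) a.2
  have hXinv : ∀ v ∈ X, orderOf v = 2 → v ∈ R := by
    rintro _ ⟨⟨r, a⟩, rfl⟩ hv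
    have h2 : ψ ((r, a) * (r, a)) = ψ 1 := by rw [map_mul, map_one]; exact invol_mul_self hv
    have h3 := hψinj h2
    have ha : a * a = 1 := congrArg Prod.snd h3
    have ha1 : a = 1 := by
      refine eq_one_of_sq_of_odd ha ?_
      refine Odd.of_dvd_nat (by decide : Odd 5) ?_
      rw [← hx, ← orderOf_coe]
      exact orderOf_dvd_of_mem_zpowers a.2
    rw [hψ, ha1]; simp
  -- centralisers of involutions of `X`
  have hcX : ∀ w ∈ X, orderOf w = 2 → ∀ c ∈ C, c * w = w * c → c ∈ X := by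
    intro w hwX hw c hc hcw
    have hwR := hXinv w hwX hw
    have h8 : Nat.card ↥(R ⊓ centralizer ({w} : Set G)) = 8 := by
      have := (hone ⟨w, hwR⟩ ⟨w, hwR⟩ (by rw [← orderOf_coe]; exact hw) (by rw [← orderOf_coe]; exact hw)).2
      rwa [hcentR _ (by rw [← orderOf_coe]; exact hw)] at this
    set J := centralizer ({w} : Set G) ⊓ C with hJ
    have hJ40 : Nat.card ↥J = 40 := F.five_centralizer (F.L_class w hwR.1 hw).symm hx (hxR w hwR)
    have hle : R ⊓ centralizer ({w} : Set G) ≤ X ⊓ J := fun r hr =>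
      ⟨hRX r hr.1, hr.2, mem_centralizer_singleton_iff.2 (hxR r hr.1).symm⟩
    have hx' : x ∈ X ⊓ J := ⟨hxX x (mem_zpowers x), mem_centralizer_singleton_iff.2 (hxR w hwR),
      mem_centralizer_singleton_iff.2 rfl⟩
    have h40 : 40 ∣ Nat.card ↥(X ⊓ J) := Nat.Coprime.mul_dvd_of_dvd_of_dvd (by norm_num : Nat.Coprime 8 5)
      (h8 ▸ card_dvd_of_le hle) (hx ▸ (X ⊓ J).orderOf_dvd_natCard hx')
    have heq : X ⊓ J = J := eq_of_le_of_card_ge inf_le_right (hJ40 ▸ Nat.le_of_dvd Nat.card_pos h40)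
    exact (heq.symm ▸ (⟨mem_centralizer_singleton_iff.2 hcw, hc⟩ : c ∈ J) : c ∈ X ⊓ J).1
  have hstar : ∀ g ∈ C, ∀ w ∈ X, orderOf w = 2 → g * w * g⁻¹ ∈ X → g ∈ X := by
    intro g hg w hw hw2 hgw
    have h1 := hXinv w hw hw2
    have h2 := hXinv _ hgw (by rw [orderOf_conj_eq]; exact hw2)
    obtain ⟨r, hr⟩ := isConj_iff.1 (hone ⟨_, h2⟩ ⟨w, h1⟩ (by rw [← orderOf_coe, orderOf_conj_eq]; exact hw2)
      (by rw [← orderOf_coe]; exact hw2)).1
    have hr' : (r : G) * (g * w * g⁻¹) * (r : G)⁻¹ = w := congrArg Subtype.val hr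
    have hrg : (r : G) * g ∈ X := hcX w hw hw2 _ (mul_mem (hXC (hRX r r.2)) hg) (mul_inv_eq_iff_eq_mul.1 (by
      rw [show (r : G) * g * w * ((r : G) * g)⁻¹ = (r : G) * (g * w * g⁻¹) * (r : G)⁻¹ by group, hr']))
    have := mul_mem (inv_mem (hRX r r.2)) hrg
    rwa [inv_mul_cancel_left] at this
  have hCX : C = X := by
    by_contra hne
    set X' := X.subgroupOf C with hX'
    have hX'top : X' ≠ ⊤ := fun e => hne (le_antisymm (subgroupOf_eq_top.1 e) hXC)
    obtain ⟨w₀, hw₀, hw₀2⟩ : ∃ w ∈ R, orderOf w = 2 := by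
      obtain ⟨w, hw⟩ := exists_prime_orderOf_dvd_card' (G := ↥R) 2 (by rw [hR168]; norm_num)
      exact ⟨w, w.2, by rw [orderOf_coe]; exact hw⟩
    set w : ↥C := ⟨w₀, hXC (hRX w₀ hw₀)⟩ with hw
    have hw2 : orderOf w = 2 := by rw [← orderOf_coe]; exact hw₀2
    have hcard40 : Nat.card ↥(centralizer ({w} : Set ↥C)) = 40 := by
      rw [← card_map_of_injective C.subtype_injective, ← F.five_centralizer (F.L_class w₀ hw₀.1 hw₀2).symm hx (hxR w₀ hw₀)]
      congr 2
      ext a
      constructor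
      · rintro ⟨b, hb, rfl⟩
        exact ⟨mem_centralizer_singleton_iff.2 (congrArg Subtype.val (mem_centralizer_singleton_iff.1 hb)), b.2⟩
      · rintro ⟨ha, ha'⟩
        exact ⟨⟨a, ha'⟩, mem_centralizer_singleton_iff.2 (Subtype.ext (mem_centralizer_singleton_iff.1 ha)), rfl⟩
    have hclR : Nat.card {t : ↥R // IsConj (⟨w₀, hw₀⟩ : ↥R) t} = 21 := by
      have h1 := card_class_mul_card_centralizer (⟨w₀, hw₀⟩ : ↥R)
      rw [(hone ⟨w₀, hw₀⟩ ⟨w₀, hw₀⟩ (by rw [← orderOf_coe]; exact hw₀2) (by rw [← orderOf_coe]; exact hw₀2)).2,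
        hR168] at h1
      omega
    have hk : Nat.card {v : ↥C // IsConj w v ∧ v ∈ X'} = 21 := by
      rw [← hclR]
      refine Nat.card_congr
        { toFun := fun v => ⟨⟨((v.1 : ↥C) : G), hXinv _ (mem_subgroupOf.1 v.2.2) (by
            rw [orderOf_coe]; exact (orderOf_eq_of_isConj v.2.1).trans hw2)⟩, (hone _ _
              (by rw [← orderOf_coe]; exact hw₀2) (by
                rw [← orderOf_coe]
                show orderOf ((v.1 : ↥C) : G) = 2
                rw [orderOf_coe]; exact (orderOf_eq_of_isConj v.2.1).trans hw2)).1⟩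
          invFun := fun t => ⟨⟨((t.1 : ↥R) : G), hXC (hRX _ t.1.2)⟩, ?_, mem_subgroupOf.2 (hRX _ t.1.2)⟩
          left_inv := fun v => rfl
          right_inv := fun t => rfl }
      obtain ⟨r, hr⟩ := isConj_iff.1 t.2
      exact isConj_iff.2 ⟨⟨(r : G), hXC (hRX r r.2)⟩, Subtype.ext (congrArg Subtype.val hr :)⟩
    obtain ⟨i, hiX, hi2, hi⟩ := exists_inverting hX'top (w := w) (by
      rw [hcard40, hk, Nat.card_congr (subgroupOfEquivOfLe hXC).toEquiv, hXcard]) hw2
    rw [hk] at hi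
    have hiX' : (i : G) ∉ X := fun h => hiX (mem_subgroupOf.2 h)
    have hio : orderOf (i : G) = 2 := by rw [orderOf_coe]; exact hi2
    set DR := R ⊓ X.comap (MulAut.conj (i : G)).toMonoidHom with hDR
    have hodd : ¬ 2 ∣ Nat.card ↥DR := by
      intro h2
      obtain ⟨v, hv⟩ := exists_prime_orderOf_dvd_card' (G := ↥DR) 2 h2
      rw [← orderOf_coe] at hv
      exact hiX' (hstar _ i.2 _ (hRX _ v.2.1) hv v.2.2)
    have hDR21 : Nat.card ↥DR ∣ 21 := by
      have h1 : Nat.card ↥DR ∣ 8 * 21 := by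
        have := card_dvd_of_le (inf_le_left : DR ≤ R)
        rwa [hR168] at this
      refine (Nat.Coprime.dvd_of_dvd_mul_left ?_ h1)
      rw [show (8 : ℕ) = 2 ^ 3 by norm_num]
      exact (((Nat.prime_two.coprime_iff_not_dvd).2 hodd).symm).pow_right _
    -- inverted elements of `X` lie in `R`
    have key : ∀ r : G, r ∈ X → (i : G) * r * (i : G)⁻¹ = r⁻¹ → r ∈ DR := by
      intro r hr hir
      obtain ⟨⟨a, k⟩, hak⟩ := hr
      rw [hψ] at hak
      have hik : (i : G) * (k : G) * (i : G)⁻¹ = k := by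
        obtain ⟨j, hj⟩ := mem_zpowers_iff.1 k.2
        rw [← hj, ((show Commute (i : G) x from mem_centralizer_singleton_iff.1 i.2).zpow_right j).eq,
          mul_inv_cancel_right]
      have hia : (i : G) * a * (i : G)⁻¹ = r⁻¹ * (k : G)⁻¹ := by
        rw [eq_mul_inv_iff_mul_eq, ← hir, ← hak]
        nth_rewrite 1 [← hik]
        group
      have haD : (a : G) ∈ DR := by
        refine ⟨a.2, ?_⟩
        show (i : G) * a * (i : G)⁻¹ ∈ X
        rw [hia]
        exact mul_mem (inv_mem ⟨(a, k), (hψ a k).trans hak⟩) (inv_mem (hxX _ k.2))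
      have h21 : (a : G) ^ 21 = 1 := by
        rw [← orderOf_dvd_iff_pow_eq_one]
        exact (DR.orderOf_dvd_natCard haD).trans hDR21
      have hck : Commute (a : G) (k : G) := by
        obtain ⟨j, hj⟩ := mem_zpowers_iff.1 k.2
        rw [← hj]
        exact (show Commute (a : G) x from (hxR a a.2).symm).zpow_right j
      have h42 : ((k : G) ^ 2) ^ 21 = 1 := by
        have e2 : (i : G) * a * (i : G)⁻¹ = (a : G)⁻¹ * ((k : G) ^ 2)⁻¹ := by
          rw [hia, ← hak, hck.eq]
          group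
        have e1 : ((i : G) * a * (i : G)⁻¹) ^ 21 = 1 := by rw [conj_pow, h21]; group
        rw [e2, ((hck.pow_right 2).inv_inv).mul_pow, inv_pow, h21, inv_one, one_mul, inv_pow, inv_eq_one] at e1
        exact e1
      have hk5 : (k : G) ^ 5 = 1 := by
        rw [← orderOf_dvd_iff_pow_eq_one, ← hx]
        exact orderOf_dvd_of_mem_zpowers k.2
      have hk1 : (k : G) = 1 := by
        calc (k : G) = ((((k : G) ^ 2) ^ 21) * ((k : G) ^ 2) ^ 21)⁻¹ * ((k : G) ^ 5) ^ 17 := by group
          _ = 1 := by rw [h42, hk5, one_mul, inv_one, one_mul, one_pow]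
      rw [← hak, hk1, mul_one]
      exact haD
    -- so `i` inverts a subgroup of order 21
    let f : {r : ↥C // r ∈ X' ∧ i * r * i⁻¹ = r⁻¹} → ↥DR := fun r =>
      ⟨((r.1 : ↥C) : G), key _ (mem_subgroupOf.1 r.2.1) (congrArg Subtype.val r.2.2)⟩
    have hfinj : Function.Injective f := fun a b e =>
      Subtype.ext (Subtype.ext (congrArg Subtype.val e :))
    have hle21 := Nat.le_of_dvd (by norm_num) hDR21
    have hcardDR := Nat.card_le_card_of_injective f hfinj
    have hsurj : Function.Surjective f :=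
      (hfinj.bijective_of_nat_card_le (hle21.trans hi)).2
    have hab : ∀ a b : ↥DR, a * b = b * a := by
      have hinv : ∀ a : ↥DR, (i : G) * a * (i : G)⁻¹ = (a : G)⁻¹ := fun a => by
        obtain ⟨r, rfl⟩ := hsurj a
        exact congrArg Subtype.val r.2.2
      intro a b
      refine Subtype.ext ?_
      show (a : G) * b = b * a
      have h1 := hinv (a * b)
      rw [show ((a * b : ↥DR) : G) = a * b from rfl, show (i : G) * ((a : G) * b) * (i : G)⁻¹ =
        ((i : G) * a * (i : G)⁻¹) * ((i : G) * b * (i : G)⁻¹) by group, hinv a, hinv b] at h1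
      rw [← inv_inj]
      simpa [mul_inv_rev] using h1.symm
    have hDR : Nat.card ↥DR = 21 := le_antisymm hle21 (hi.trans hcardDR)
    haveI : Fact (Nat.Prime 3) := ⟨Nat.prime_three⟩
    obtain ⟨p, hp⟩ := exists_prime_orderOf_dvd_card' (G := ↥DR) 3 (by rw [hDR]; norm_num)
    obtain ⟨q, hq⟩ := exists_prime_orderOf_dvd_card' (G := ↥DR) 7 (by rw [hDR]; norm_num)
    rw [← orderOf_coe] at hp hq
    have := orderOf_dvd_of_mem_zpowers (F.L_self _ q.2.1.1 (Or.inr hq) _ p.2.1.1
      (congrArg Subtype.val (hab p q)))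
    rw [hp, hq] at this
    norm_num at this
  -- `⟨x⟩` is a Sylow subgroup of `G`
  have hC840 : Nat.card ↥C = 840 := by rw [hCX]; exact hXcard
  have hYC : zpowers x ≤ C := zpowers_le.2 (mem_centralizer_singleton_iff.2 rfl)
  obtain ⟨P, hP⟩ := (IsPGroup.of_card (p := 5) (n := 1) (by rw [Nat.card_zpowers, hx]; norm_num) :
    IsPGroup 5 ↥(zpowers x)).exists_le_sylow
  have small : ∀ Q : Subgroup G, IsPGroup 5 ↥Q → Q ≤ C → zpowers x ≤ Q → Q = zpowers x := by
    intro Q hQ hQC hxQ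
    obtain ⟨n, hn⟩ := IsPGroup.iff_card.1 hQ
    refine (eq_of_le_of_card_ge hxQ ?_).symm
    rw [Nat.card_zpowers, hx, hn]
    have h1 := card_dvd_of_le hQC
    rw [hn, hC840] at h1
    by_contra h2
    have h3 : 2 ≤ n := by
      by_contra h3
      interval_cases n <;> norm_num at h2
    exact absurd ((pow_dvd_pow 5 h3).trans h1) (by norm_num)
  have hPx : (P : Subgroup G) = zpowers x := by
    haveI : Nontrivial ↥(P : Subgroup G) :=
      ⟨⟨⟨x, hP (mem_zpowers x)⟩, 1, fun e => by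
        rw [show x = 1 from congrArg Subtype.val e, orderOf_one] at hx; norm_num at hx⟩⟩
    haveI := P.2.center_nontrivial
    obtain ⟨c, hc⟩ := exists_ne (1 : ↥(center ↥(P : Subgroup G)))
    set cG : G := ((c : ↥(P : Subgroup G)) : G) with hcG
    have hcomm : ∀ v ∈ (P : Subgroup G), v * cG = cG * v := fun v hv =>
      congrArg (fun w : ↥(P : Subgroup G) => (w : G)) (mem_center_iff.1 c.2 ⟨v, hv⟩)
    have hcx : cG ∈ (P : Subgroup G) ⊓ C :=
      ⟨(c : ↥(P : Subgroup G)).2, mem_centralizer_singleton_iff.2 (hcomm x (hP (mem_zpowers x))).symm⟩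
    have h1 := small _ (P.2.to_le inf_le_left) inf_le_right (le_inf hP hYC)
    have hcy : cG ∈ zpowers x := h1 ▸ hcx
    have hc1 : cG ≠ 1 := fun e => hc (Subtype.ext (Subtype.ext e))
    have hxc : x ∈ zpowers cG := by
      have h3 : zpowers cG = zpowers x := eq_of_le_of_card_ge (zpowers_le.2 hcy) (by
        rw [Nat.card_zpowers, Nat.card_zpowers, hx]
        rcases (Nat.dvd_prime (by norm_num : Nat.Prime 5)).1 (hx ▸ orderOf_dvd_of_mem_zpowers hcy) with e | e
        · exact absurd (orderOf_eq_one_iff.1 e) hc1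
        · rw [e])
      exact h3.symm ▸ mem_zpowers x
    obtain ⟨j, hj⟩ := mem_zpowers_iff.1 hxc
    refine small _ P.2 (fun v hv => mem_centralizer_singleton_iff.2 ?_) hP
    rw [← hj]
    exact ((show Commute v cG from hcomm v hv).zpow_right j).eq
  -- an element of order five of the component is conjugate into it
  obtain ⟨l, hl⟩ := exists_prime_orderOf_dvd_card' (G := ↥F.L) 5 (by rw [F.cardL]; norm_num)
  rw [← orderOf_coe] at hl
  obtain ⟨Q, hQ⟩ := (IsPGroup.of_card (p := 5) (n := 1) (by rw [Nat.card_zpowers, hl]; norm_num) :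
    IsPGroup 5 ↥(zpowers (l : G))).exists_le_sylow
  obtain ⟨g, hg⟩ := MulAction.exists_smul_eq G P Q
  have hlg : (l : G) ∈ (P : Subgroup G).map (MulAut.conj g).toMonoidHom := by
    have := hQ (mem_zpowers (l : G))
    rw [← hg, Sylow.coe_subgroup_smul] at this
    obtain ⟨v, hv, hv'⟩ := this
    exact ⟨v, hv, hv'⟩
  obtain ⟨v, hv, hv'⟩ := hlg
  rw [hPx] at hv
  obtain ⟨w, hw⟩ := exists_prime_orderOf_dvd_card' (G := ↥R) 2 (by rw [hR168]; norm_num)
  rw [← orderOf_coe] at hw
  have hwv : (w : G) * v = v * w := by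
    obtain ⟨j, rfl⟩ := mem_zpowers_iff.1 hv
    exact ((show Commute (w : G) x from (hxR w w.2).symm).zpow_right j).eq
  refine F.not_z_class l.2 (Or.inl hl) (v := g * w * g⁻¹) (by rw [orderOf_conj_eq]; exact hw) ?_
    ((F.L_class _ w.2.1 hw).symm.trans (isConj_iff.2 ⟨g, rfl⟩))
  rw [← hv']
  show g * w * g⁻¹ * (g * v * g⁻¹) = g * v * g⁻¹ * (g * w * g⁻¹)
  rw [show g * (w : G) * g⁻¹ * (g * v * g⁻¹) = g * ((w : G) * v) * g⁻¹ by group, hwv]
  group

end Split

end CfsgLib.InvChar.SuzT
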