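import Cfsg.Agent.Lib.InvChar.SuzT.SevenBase
import Mathlib.GroupTheory.Transfer

/-!
# The centraliser of an element of order seven

The centraliser of an element `y` of order seven of the component is `⟨y⟩ × D` with `D` of order 12 or 60 and
`E` self-centralising in `D`.
-/

set_option autoImplicit false

namespace CfsgLib.InvChar.SuzT

open Subgroup CfsgLib.Invol

universe u

variable {G : Type u} [Group G] {z : G}

/-- `C(y) = ⟨y⟩ × D`. -/
structure Split (F : TFrame z) (y : G) (D : Subgroup G) : Prop where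
  hy : y ∈ F.L
  hy7 : orderOf y = 7
  comm : ∀ h ∈ D, h * y = y * h
  cover : ∀ g, g * y = y * g → ∃ a ∈ zpowers y, ∃ h ∈ D, g = a * h
  disj : ∀ a ∈ zpowers y, a ∈ D → a = 1
  card_cases : Nat.card ↥D = 12 ∨ Nat.card ↥D = 60
  card_cent : Nat.card ↥(centralizer ({y} : Set G)) = 7 * Nat.card ↥D
  char : ∀ g, g * y = y * g → g ^ Nat.card ↥D = 1 → g ∈ D
  E_le : F.E ≤ D
  d_mem : F.d ∈ D
  cent : HJKlein.Cent (F.E.subgroupOf D)

theorem exists_split [Finite G] (F : TFrame z) {y : G} (hy : y ∈ F.L) (hy7 : orderOf y = 7) :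
    ∃ D : Subgroup G, Split F y D := by
  classical
  haveI : Fact (Nat.Prime 7) := ⟨by norm_num⟩
  set M := centralizer ({y} : Set G) with hM
  have hyM : y ∈ M := mem_centralizer_singleton_iff.2 rfl
  have hEM : F.E ≤ M := fun e he => mem_centralizer_singleton_iff.2 (F.comm e he y hy)
  have hdM : F.d ∈ M := mem_centralizer_singleton_iff.2 (F.d_comm y hy)
  have hcomm : ∀ a ∈ zpowers y, ∀ g ∈ M, g * a = a * g := by
    intro a ha g hg
    obtain ⟨i, rfl⟩ := mem_zpowers_iff.1 ha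
    exact ((show Commute g y from mem_centralizer_singleton_iff.1 hg).zpow_right i).eq
  have hYle : zpowers y ≤ M := zpowers_le.2 hyM
  haveI hYn : ((zpowers y).subgroupOf M).Normal := ⟨fun a ha g => mem_subgroupOf.2 (by
    show (g : G) * a * (g : G)⁻¹ ∈ zpowers y
    rw [hcomm _ (mem_subgroupOf.1 ha) _ g.2, mul_inv_cancel_right]; exact mem_subgroupOf.1 ha)⟩
  let π := QuotientGroup.mk' ((zpowers y).subgroupOf M)
  have hπ : ∀ a b : ↥M, π a = π b → ∃ k ∈ zpowers y, (b : G) = a * k := fun a b e =>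
    ⟨(a : G)⁻¹ * b, mem_subgroupOf.1 (QuotientGroup.eq.1 e), (mul_inv_cancel_left _ _).symm⟩
  have hyodd : Odd (orderOf y) := hy7 ▸ by decide
  have hEk : ∀ e ∈ F.E, ∀ k ∈ zpowers y, e = k → e = 1 := fun e he k hk hek =>
    F.disj e he (hek ▸ zpowers_le.2 hy hk)
  set W := (F.E.subgroupOf M).map π with hW
  have hinj : ∀ a b : ↥M, (a : G) ∈ F.E → (b : G) ∈ F.E → π a = π b → a = b := by
    intro a b ha hb e
    obtain ⟨k, hk, e'⟩ := hπ a b e
    have := hEk _ (mul_mem (inv_mem ha) hb) k hk (by rw [e']; group)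
    exact Subtype.ext (inv_mul_eq_one.1 this)
  have hW4 : Nat.card ↥W = 4 := by
    rw [← F.cardE, ← Nat.card_congr (subgroupOfEquivOfLe hEM).toEquiv]
    refine (Nat.card_congr (Equiv.ofBijective (fun a : ↥(F.E.subgroupOf M) => (⟨π a, ⟨a, a.2, rfl⟩⟩ : ↥W))
      ⟨fun a b e => Subtype.ext (hinj _ _ (mem_subgroupOf.1 a.2) (mem_subgroupOf.1 b.2)
        (congrArg Subtype.val e)), ?_⟩)).symm
    rintro ⟨_, a, ha, rfl⟩
    exact ⟨⟨a, ha⟩, rfl⟩
  have hCent : HJKlein.Cent W := by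
    refine ⟨hW4, ?_, ?_⟩
    · rintro _ ⟨a, ha, rfl⟩
      rw [← map_mul, show a * a = 1 from Subtype.ext (F.sqE _ (mem_subgroupOf.1 ha)), map_one]
    · rintro _ ⟨a, ha, rfl⟩ hne c hc
      obtain ⟨c, rfl⟩ := QuotientGroup.mk'_surjective _ c
      have hae : (a : G) ∈ F.E := mem_subgroupOf.1 ha
      have ha1 : (a : G) ≠ 1 := fun e => hne (by rw [show a = 1 from Subtype.ext e, map_one])
      have e : π a = π (c * a * c⁻¹) := by
        rw [map_mul, map_mul, map_inv, eq_mul_inv_iff_mul_eq]; exact hc.symm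
      obtain ⟨k, hk, e'⟩ := hπ _ _ e
      have e'' : (c : G) * a * (c : G)⁻¹ = a * k := e'
      have hk1 : k = 1 := by
        refine two_power_one (n := 1) (F.sqE _ hae) (hcomm k hk _ a.2) ?_ (hyodd.of_dvd_nat
          (orderOf_dvd_of_mem_zpowers hk))
        rw [← e'', pow_one, pow_two,
          show (c : G) * a * (c : G)⁻¹ * ((c : G) * a * (c : G)⁻¹) = (c : G) * (a * a) * (c : G)⁻¹ by group,
          F.sqE _ hae, mul_one, mul_inv_cancel]
      rw [hk1, mul_one, mul_inv_eq_iff_eq_mul] at e''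
      obtain ⟨e₁, he₁, k₁, hk₁, hc'⟩ := F.cent_e hy (Or.inr hy7) hae ha1 e''
        (mem_centralizer_singleton_iff.1 c.2)
      refine ⟨⟨e₁, hEM he₁⟩, mem_subgroupOf.2 he₁, ?_⟩
      refine QuotientGroup.eq.2 (mem_subgroupOf.2 ?_)
      show e₁⁻¹ * (c : G) ∈ zpowers y
      rw [hc', inv_mul_cancel_left]; exact hk₁
  -- the quotient is bigger than the four group
  have hbig : 4 < Nat.card (↥M ⧸ (zpowers y).subgroupOf M) := by
    have hne : π ⟨F.d, hdM⟩ ∉ W := by
      rintro ⟨a, ha, e⟩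
      obtain ⟨k, hk, e'⟩ := hπ _ _ e
      have e'' : F.d = (a : G) * k := e'
      refine F.d_move ?_
      rw [mul_inv_eq_iff_eq_mul, e'', mul_assoc, ← hcomm k hk _ (hEM F.t_mem), ← mul_assoc,
        F.E_comm (mem_subgroupOf.1 ha) F.t_mem, mul_assoc]
    have h1 := W.card_le_card_group
    rcases h1.lt_or_eq with h | h
    · exact hW4 ▸ h
    · exact absurd (eq_top_of_card_eq W h ▸ mem_top _) hne
  have hq := (hCent.cases hbig).imp_left And.left
  set m := Nat.card (↥M ⧸ (zpowers y).subgroupOf M) with hm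
  have hM7 : Nat.card ↥M = 7 * m := by
    rw [card_eq_card_quotient_mul_card_subgroup ((zpowers y).subgroupOf M),
      Nat.card_congr (subgroupOfEquivOfLe hYle).toEquiv, Nat.card_zpowers, hy7, mul_comm]
  have hm7 : ¬ 7 ∣ m := by rcases hq with h | h <;> rw [h] <;> norm_num
  -- the normal complement
  have hYcard : Nat.card ↥((zpowers y).subgroupOf M) = 7 := by
    rw [Nat.card_congr (subgroupOfEquivOfLe hYle).toEquiv, Nat.card_zpowers, hy7]
  obtain ⟨P, hP⟩ : ∃ P : Sylow 7 ↥M, (P : Subgroup ↥M) = (zpowers y).subgroupOf M :=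
    ⟨(IsPGroup.of_card (n := 1) (hYcard.trans (pow_one 7).symm)).toSylow (by
      intro h0
      have h : 7 ∣ ((zpowers y).subgroupOf M).index := h0
      have h2 := ((zpowers y).subgroupOf M).card_mul_index
      rw [hYcard, hM7] at h2
      exact hm7 (by rwa [Nat.eq_of_mul_eq_mul_left (by norm_num) h2] at h)), rfl⟩
  have hPc : normalizer ((P : Subgroup ↥M) : Set ↥M) ≤ centralizer ((P : Subgroup ↥M) : Set ↥M) := by
    intro g _
    rw [hP]
    exact mem_centralizer_iff.2 fun a ha => Subtype.ext (hcomm _ (mem_subgroupOf.1 ha) _ g.2).symm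
  have hcomp := MonoidHom.ker_transferSylow_isComplement' P hPc
  set O := (MonoidHom.transferSylow P hPc).ker with hO
  have hOcard : Nat.card ↥O = m := by
    have := hcomp.card_mul
    rw [hM7, hP, hYcard] at this
    exact Nat.eq_of_mul_eq_mul_right (by norm_num : 0 < 7) (by rw [this, mul_comm])
  have hchar : ∀ g : ↥M, g ^ m = 1 → g ∈ O := by
    intro g hg
    rw [hO, MonoidHom.mem_ker]
    have h1 : (MonoidHom.transferSylow P hPc g) ^ m = 1 := by rw [← map_pow, hg, map_one]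
    have h2 := pow_card_eq_one' (x := MonoidHom.transferSylow P hPc g)
    have h3 : Nat.card ↥(P : Subgroup ↥M) = 7 := by rw [hP, hYcard]
    rw [h3] at h2
    have hcop : Nat.Coprime 7 m := (Nat.prime_seven.coprime_iff_not_dvd).2 hm7
    rw [← pow_one (MonoidHom.transferSylow P hPc g), ← hcop.gcd_eq_one]
    exact pow_gcd_eq_one.2 ⟨h2, h1⟩
  have hDcard : Nat.card ↥(O.map M.subtype) = m := by
    rw [card_map_of_injective M.subtype_injective, hOcard]
  have hcharG : ∀ g : G, g * y = y * g → g ^ m = 1 → g ∈ O.map M.subtype := fun g hg hgm =>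
    ⟨⟨g, mem_centralizer_singleton_iff.2 hg⟩, hchar _ (Subtype.ext hgm), rfl⟩
  have hE' : F.E ≤ O.map M.subtype := fun e he => hcharG e (F.comm e he y hy) (by
    obtain ⟨j, hj⟩ : 2 ∣ m := by rcases hq with h | h <;> rw [h] <;> norm_num
    rw [hj, pow_mul, pow_two, F.sqE e he, one_pow])
  refine ⟨O.map M.subtype, hy, hy7, ?_, ?_, ?_, by rwa [hDcard], by rwa [hDcard],
    fun g hg hgm => hcharG g hg (by rwa [hDcard] at hgm), hE', hcharG _ (F.d_comm y hy) (by
      obtain ⟨j, hj⟩ : 3 ∣ m := by rcases hq with h | h <;> rw [h] <;> norm_num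
      rw [hj, pow_mul, F.d_three, one_pow]), ?_⟩
  · rintro _ ⟨g, -, rfl⟩
    exact mem_centralizer_singleton_iff.1 g.2
  · intro g hg
    obtain ⟨⟨a, b⟩, hab⟩ := hcomp.2 ⟨g, mem_centralizer_singleton_iff.2 hg⟩
    have hb : ((b : ↥M) : G) ∈ zpowers y := mem_subgroupOf.1 (hP ▸ b.2)
    refine ⟨((b : ↥M) : G), hb, ((a : ↥M) : G), ⟨a, a.2, rfl⟩, ?_⟩
    rw [← hcomm _ hb _ (a : ↥M).2]
    exact (congrArg Subtype.val hab).symm
  · rintro a ha ⟨b, hb, rfl⟩
    have : b ∈ O ⊓ (P : Subgroup ↥M) := ⟨hb, hP.symm ▸ mem_subgroupOf.2 ha⟩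
    rw [hcomp.disjoint.eq_bot, mem_bot] at this
    rw [this]; rfl
  · refine ⟨by rw [Nat.card_congr (subgroupOfEquivOfLe hE').toEquiv, F.cardE],
      fun w hw => Subtype.ext (F.sqE _ (mem_subgroupOf.1 hw)), fun w hw hw1 c hc => ?_⟩
    obtain ⟨g, hg, hgc⟩ := c.2
    obtain ⟨e₁, he₁, k₁, hk₁, hc'⟩ := F.cent_e hy (Or.inr hy7) (mem_subgroupOf.1 hw)
      (fun e => hw1 (Subtype.ext e)) (congrArg Subtype.val hc)
      (mem_centralizer_singleton_iff.1 (hgc ▸ g.2))
    have hkD : k₁ ∈ O.map M.subtype := by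
      have := mul_mem (inv_mem (hE' he₁)) c.2
      rwa [hc', inv_mul_cancel_left] at this
    obtain ⟨b, hb, hb'⟩ := hkD
    have hb1 : b ∈ O ⊓ (P : Subgroup ↥M) := ⟨hb, hP.symm ▸ mem_subgroupOf.2 (show M.subtype b ∈ zpowers y from hb'.symm ▸ hk₁)⟩
    rw [hcomp.disjoint.eq_bot, mem_bot] at hb1
    rw [hb1, map_one] at hb'
    rw [← hb', mul_one] at hc'
    exact mem_subgroupOf.2 (hc' ▸ he₁)

end CfsgLib.InvChar.SuzT
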