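import Cfsg.Agent.Lib.InvChar.SuzT.Central

/-!
# `C(E) = E × L`

The transfer to the component in the anisotropic plane splits off `E`; all involutions of the kernel
`L` are conjugate to `z` and `C_L(z)` is the Sylow 2-subgroup of order 64.
-/

set_option autoImplicit false
set_option linter.unusedSectionVars false

namespace CfsgLib.InvChar.SuzT

open Subgroup SuzType MulAction

set_option synthInstance.maxSize 2000 in
theorem plane_facts : (∀ p, InC p → p.1.2 = 0 → TP p) ∧ (∀ p, ZP p → p ≠ 0 → p.1.2 ≠ 0) ∧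
    (∀ p, InC p → IP p → TP p → bW p.1 p.2 = 0) ∧
    (∀ p, InC p → ∃ c, ZP c ∧ TP (c + p)) ∧
    (∀ p, InC p → TP p → ∃ a b, FP (1, 0) a ∧ TP a ∧ FP (0, 1) b ∧ TP b ∧ a + b = p) ∧
    (∀ p, FP (1, 0) p → FP (0, 1) p → TP p → p = 0) := by
  decide +kernel

theorem sgs_mem : ((1, 0) : Pl) ∈ sgs ∧ ((0, 1) : Pl) ∈ sgs := by decide

variable {G : Type*} [Group G] [Finite G] {z u : G} {Q Q' : Subgroup G} {φ φ' : G → V}
  (P : Pair z u Q Q' φ φ')

/-- `C_L(z)`: no part in the anisotropic plane. -/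
def TG : Subgroup G where
  carrier := {g | ∃ p, HasPar P g p ∧ InC p ∧ TP p}
  one_mem' := ⟨0, HasPar.one P, zero_inC, by decide +kernel⟩
  mul_mem' := by
    rintro a b ⟨p, hp, hC, hpt⟩ ⟨q, hq, hD, hqt⟩
    refine ⟨p + q, HasPar.mul P hp hq, inC_add p q hC hD, ?_, ?_⟩
    · show p.1.2 + q.1.2 = 0
      rw [hpt.1, hqt.1, add_zero]
    · show p.2.2 + q.2.2 = 0
      rw [hpt.2, hqt.2, add_zero]
  inv_mem' := by
    rintro a ⟨p, hp, hC, hpt⟩
    exact ⟨p, HasPar.inv P hp, hC, hpt⟩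

/-- `C(E) = E × L`. -/
structure Comp (t : G) (E L : Subgroup G) : Prop where
  L_le : L ≤ centralizer (E : Set G)
  cent_E : ∀ g : G, g ∈ centralizer (E : Set G) ↔ ∃ e ∈ E, ∃ l ∈ L, g = e * l
  comm : ∀ e ∈ E, ∀ l ∈ L, e * l = l * e
  disj : ∀ e ∈ E, e ∈ L → e = 1
  inter : ∀ g ∈ X0g z u t, g ∈ L ↔ g ∈ TG P
  T_le : TG P ≤ L
  zclass : ∀ a, IsConj a z → a ∈ centralizer (E : Set G) → a ∈ L
  normal : ∀ g ∈ centralizer (E : Set G), ∀ l ∈ L, g * l * g⁻¹ ∈ L

variable {t : G} (C : Ctx P t)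
include P C

theorem TG_le : TG P ≤ X0g z u t := fun g ⟨p, hp, hC, _⟩ => (mem_X0_iff P C).2 ⟨p, hp, hC⟩

theorem card_TG : Nat.card (TG P) = 64 := by
  rw [card_sub P C (TG P) (fun p => InC p ∧ TP p) fun g => Iff.rfl,
    show Fintype.card {p : W × W // InC p ∧ TP p} = 16 by decide +kernel]

theorem zclass_TG {a : G} (ha : a ∈ X0g z u t) (hz : IsConj a z) : a ∈ TG P := by
  obtain ⟨p, hp, hC⟩ := (mem_X0_iff P C).1 ha
  have haa : a * a = 1 := by
    obtain ⟨k, hk⟩ := isConj_iff.1 hz.symm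
    rw [← hk, show k * z * k⁻¹ * (k * z * k⁻¹) = k * (z * z) * k⁻¹ by group, P.S.zz]; group
  have ha1 : a ≠ 1 := fun e => P.S.zne (by
    obtain ⟨k, hk⟩ := isConj_iff.1 hz
    rw [e] at hk; simpa using hk.symm)
  have hI := (sq_eq_one_iff P C hp).1 haa
  have hB := (conj_z_iff P C hp haa ha1).1 hz
  obtain ⟨s, hs, hps⟩ := fp_cover p hC hI
  exact ⟨p, hp, hC, (fp_facts s hs p hps).2.2.1 hB⟩

variable {E : Subgroup G} {σ o : G} (M : Mid P t E σ o)
include M

theorem exists_comp : ∃ L, Comp P t E L := by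
  classical
  have : Fact (Nat.Prime 2) := ⟨Nat.prime_two⟩
  set K0 := centralizer (E : Set G) with hK0
  choose par hpar hparC using fun g : (X0g z u t).subgroupOf K0 =>
    (mem_X0_iff P C).1 (mem_subgroupOf.1 g.2)
  let f : (X0g z u t).subgroupOf K0 →* Multiplicative Pl :=
    { toFun := fun g => Multiplicative.ofAdd (par g).1.2
      map_one' := by
        rw [HasPar.ext_par P (hpar 1) (by simpa using HasPar.one P)]
        rfl
      map_mul' := fun a b => by
        rw [HasPar.ext_par P (hpar (a * b)) (by simpa using HasPar.mul P (hpar a) (hpar b))]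
        rfl }
  have hf : ∀ g : (X0g z u t).subgroupOf K0, f g = 1 ↔ ((g : K0) : G) ∈ TG P := by
    intro g
    refine ⟨fun h => ⟨_, hpar g, hparC g, plane_facts.1 _ (hparC g) (Multiplicative.ofAdd.injective h)⟩, ?_⟩
    rintro ⟨p, hp, -, hT⟩
    show Multiplicative.ofAdd (par g).1.2 = 1
    rw [HasPar.ext_par P (hpar g) hp, hT.1]
    rfl
  let _ : FiniteIndex ((X0g z u t).subgroupOf K0) := inferInstance
  obtain ⟨τ, hτ⟩ : ∃ τ, τ = MonoidHom.transfer f := ⟨_, rfl⟩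
  set r := ((X0g z u t).subgroupOf K0).index with hr
  have hrodd : Odd r := Nat.not_even_iff_odd.1 fun h => X0_sylow P C M.half (even_iff_two_dvd.1 h)
  have hEK : E ≤ K0 := fun e he => mem_centralizer_iff.2 fun x hx =>
    LThreeFour.comm_of_sq M.sqE hx he
  have hcentral : ∀ (e : G) (he : e ∈ E) (g : K0), Commute (⟨e, hEK he⟩ : K0) g :=
    fun e he g => Subtype.ext (mem_centralizer_iff.1 g.2 e he)
  have hτE : ∀ (e : G) (he : e ∈ E) p, HasPar P e p →
      τ ⟨e, hEK he⟩ = Multiplicative.ofAdd p.1.2 := by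
    intro e he p hp
    rw [hτ, MonoidHom.transfer_eq_pow f _ fun k g₀ _ => by
      rw [mul_assoc, ((hcentral e he g₀).pow_left k).eq, inv_mul_cancel_left]]
    obtain ⟨j, hj⟩ := hrodd
    have he' : (⟨e, hEK he⟩ : K0) ^ r = ⟨e, hEK he⟩ := by
      have h2 : (⟨e, hEK he⟩ : K0) ^ 2 = 1 := by
        rw [pow_two]; exact Subtype.ext (M.sqE e he)
      rw [hj, pow_succ, pow_mul, h2, one_pow, one_mul]
    show Multiplicative.ofAdd _ = _
    congr 1
    refine congrArg (fun x : W × W => x.1.2) (HasPar.ext_par P (hpar _) ?_)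
    rw [show ((⟨(⟨e, hEK he⟩ : K0) ^ r, _⟩ : (X0g z u t).subgroupOf K0) : K0) = ⟨e, hEK he⟩ from he']
    exact hp
  set L := τ.ker.map K0.subtype with hL
  have hLle : L ≤ K0 := map_subtype_le _
  have hmemL : ∀ (g : G) (hg : g ∈ K0), g ∈ L ↔ τ ⟨g, hg⟩ = 1 := by
    intro g hg
    constructor
    · rintro ⟨x, hx, hxg⟩
      rwa [show (⟨g, hg⟩ : K0) = x from Subtype.ext hxg.symm]
    · exact fun h => ⟨⟨g, hg⟩, h, rfl⟩
  have hdisj : ∀ e ∈ E, e ∈ L → e = 1 := by
    intro e he heL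
    by_contra he1
    obtain ⟨p, hp, -⟩ := (mem_X0_iff P C).1 (M.E_le he)
    obtain ⟨hz, hp0⟩ := M.E_par e he he1 p hp
    rw [hmemL e (hEK he), hτE e he p hp] at heL
    exact plane_facts.2.1 p hz hp0 (Multiplicative.ofAdd.injective heL)
  have hzcl : ∀ a, IsConj a z → a ∈ K0 → a ∈ L := by
    intro a haz haK
    have haa : a * a = 1 := by
      obtain ⟨k, hk⟩ := isConj_iff.1 haz.symm
      rw [← hk, show k * z * k⁻¹ * (k * z * k⁻¹) = k * (z * z) * k⁻¹ by group, P.S.zz]; group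
    rw [hmemL a haK]
    set x : K0 := ⟨a, haK⟩
    have hxx : x * x = 1 := Subtype.ext haa
    let _ : Fintype (Quotient (orbitRel (zpowers x) (K0 ⧸ (X0g z u t).subgroupOf K0))) :=
      Fintype.ofFinite _
    rw [hτ, MonoidHom.transfer_eq_prod_quotient_orbitRel_zpowers_quot]
    refine Finset.prod_eq_one fun q _ => ?_
    have hm : Function.minimalPeriod (x • ·) q.out ∣ 2 := by
      apply Function.IsPeriodicPt.minimalPeriod_dvd
      change ((x • ·)^[2]) q.out = q.out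
      rw [smul_iterate, pow_two, hxx]
      exact one_smul _ _
    rw [hf]
    have hmem := mem_subgroupOf.1
      (QuotientGroup.out_conj_pow_minimalPeriod_mem ((X0g z u t).subgroupOf K0) x q.out)
    simp only [Subgroup.coe_mul, InvMemClass.coe_inv, Subgroup.coe_pow] at hmem ⊢
    rcases (Nat.dvd_prime Nat.prime_two).1 hm with e | e
    · rw [e, pow_one] at hmem ⊢
      refine zclass_TG P C hmem (IsConj.trans ?_ haz)
      exact (isConj_iff.2 ⟨((q.out.out : K0) : G)⁻¹, by rw [inv_inv]⟩ : IsConj a _).symm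
    · rw [e, pow_two, haa, mul_one, inv_mul_cancel]
      exact one_mem _
  have hTL : TG P ≤ L := by
    intro g hg
    obtain ⟨p, hp, hC, hT⟩ := hg
    obtain ⟨a, b, ha, haT, hb, hbT, hab⟩ := plane_facts.2.2.2.2.1 p hC hT
    obtain ⟨x, hx⟩ := HasPar.exists_elt P a
    have hxA : x ∈ AS P (1, 0) sgs_mem.1 := ⟨a, hx, ha, haT⟩
    have hyA : x⁻¹ * g ∈ AS P (0, 1) sgs_mem.2 := by
      refine ⟨b, ?_, hb, hbT⟩
      have := HasPar.mul P (HasPar.inv P hx) hp
      rwa [← hab, ← add_assoc, par_self, zero_add] at this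
    have hAL : ∀ (s : Pl) (hs : s ∈ sgs), ∀ w ∈ AS P s hs, w ∈ L := by
      intro s hs w hw
      obtain ⟨hwF, hw'⟩ := (mem_AS_iff P C).1 hw
      rcases hw' with rfl | hwz
      · exact one_mem _
      · exact hzcl w hwz (M.half.X0_le (FS_le P C s hs hwF))
    rw [show g = x * (x⁻¹ * g) by group]
    exact mul_mem (hAL _ _ _ hxA) (hAL _ _ _ hyA)
  have hdecX : ∀ g ∈ X0g z u t, ∃ e ∈ E, e * g ∈ TG P := by
    intro g hg
    obtain ⟨p, hp, hC⟩ := (mem_X0_iff P C).1 hg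
    obtain ⟨c, hc, hcT⟩ := plane_facts.2.2.2.1 p hC
    rcases eq_or_ne c 0 with rfl | hc0
    · exact ⟨1, one_mem _, p, by rwa [one_mul], hC, by rwa [zero_add] at hcT⟩
    obtain ⟨e, he, hep⟩ : ∃ e ∈ E, HasPar P e c := by
      choose q hq using fun e : E => (mem_X0_iff P C).1 (M.E_le e.2)
      have hinj : Function.Injective fun e : E => (⟨q e, by
          rcases eq_or_ne (e : G) 1 with h | h
          · rw [HasPar.ext_par P (hq e).1 (h ▸ HasPar.one P)]; exact zp_gens.1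
          · exact (M.E_par e e.2 h _ (hq e).1).1⟩ : {p : W × W // ZP p}) := by
        intro a b h
        have h' : q a = q b := congrArg Subtype.val h
        have := HasPar.mul P (HasPar.inv P (hq a).1) (hq b).1
        rw [h', par_self] at this
        exact Subtype.ext (inv_mul_eq_one.1 (M.E_R _ (mul_mem (inv_mem a.2) b.2)
          (HasPar.inR_of_zero P this)))
      obtain ⟨e, he⟩ := ((Nat.bijective_iff_injective_and_card _).2 ⟨hinj, by
        rw [M.cardE, Nat.card_eq_fintype_card,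
          show Fintype.card {p : W × W // ZP p} = 4 by decide +kernel]⟩).2 ⟨c, hc⟩
      refine ⟨e, e.2, ?_⟩
      have hqe : q e = c := congrArg Subtype.val he
      rw [← hqe]
      exact (hq e).1
    exact ⟨e, he, c + p, HasPar.mul P hep hp, inC_add c p hc.1 hC, hcT⟩
  refine ⟨L, ⟨hLle, fun g => ⟨fun hg => ?_, ?_⟩, fun e he l hl => mem_centralizer_iff.1 (hLle hl) e he,
    hdisj, fun g hg => ⟨fun hgL => ?_, fun h => hTL h⟩, hTL, hzcl, fun g hg l hl => ?_⟩⟩
  · -- surjectivity of `E`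
    obtain ⟨e, he, hτe⟩ : ∃ e, ∃ he : e ∈ E, τ ⟨e, hEK he⟩ = τ ⟨g, hg⟩ := by
      have hinj : Function.Injective fun e : E => τ ⟨e, hEK e.2⟩ := by
        intro a b h
        refine Subtype.ext (inv_mul_eq_one.1 (hdisj _ (mul_mem (inv_mem a.2) b.2)
          ((hmemL _ (mul_mem (inv_mem (hEK a.2)) (hEK b.2))).2 ?_)))
        show τ ((⟨a, hEK a.2⟩ : K0)⁻¹ * ⟨b, hEK b.2⟩) = 1
        rw [map_mul, map_inv]
        exact inv_mul_eq_one.2 h
      obtain ⟨e, he⟩ := ((Nat.bijective_iff_injective_and_card _).2 ⟨hinj, by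
        rw [M.cardE, Nat.card_eq_fintype_card]; rfl⟩).2 (τ ⟨g, hg⟩)
      exact ⟨e, e.2, he⟩
    refine ⟨e, he, e⁻¹ * g, (hmemL _ (mul_mem (inv_mem (hEK he)) hg)).2 ?_, by group⟩
    show τ ((⟨e, hEK he⟩ : K0)⁻¹ * ⟨g, hg⟩) = 1
    rw [map_mul, map_inv, hτe, inv_mul_cancel]
  · rintro ⟨e, he, l, hl, rfl⟩
    exact mul_mem (hEK he) (hLle hl)
  · obtain ⟨e, he, heg⟩ := hdecX g hg
    have : e = 1 := hdisj e he (by
      have := mul_mem (hTL heg) (inv_mem hgL)
      rwa [mul_inv_cancel_right] at this)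
    rwa [this, one_mul] at heg
  · obtain ⟨x, hx, rfl⟩ := hl
    exact ⟨⟨g, hg⟩ * x * ⟨g, hg⟩⁻¹, (inferInstance : τ.ker.Normal).conj_mem x hx _, rfl⟩

end CfsgLib.InvChar.SuzT
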