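import Cfsg.Agent.Lib.InvChar.SuzT.Four

/-!
# The four group is weakly closed in the Sylow 2-subgroup of the half

The normaliser of an elementary abelian subgroup of order 64 fixes the four group; so an element of
the four group has no other conjugate in the Sylow 2-subgroup.
-/

set_option autoImplicit false
set_option linter.unusedSectionVars false

namespace CfsgLib.InvChar.SuzT

open Subgroup SuzType

set_option synthInstance.maxSize 2000 in
theorem tp_facts' : ¬ TP pe ∧ ¬ TP (pe + tp) ∧ TP (0 : W × W) ∧ ∀ s ∈ sgs, FP s (0 : W × W) := by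
  decide +kernel

set_option synthInstance.maxSize 2000 in
theorem sgs_self : ∀ a ∈ sgs, FP a (((a, (0, 0)), ((0, 0), (0, 0))) : W × W) := by decide +kernel

variable {G : Type*} [Group G] [Finite G] {z u : G} {Q Q' : Subgroup G} {φ φ' : G → V}
  (P : Pair z u Q Q' φ φ') {t : G} (C : Ctx P t) {K0 : Subgroup G} (H : Half P t K0)
include P C H

theorem X0_le_normalizer_FS (s : Pl) (hs : s ∈ sgs) :
    X0g z u t ≤ normalizer (FS P s hs : Set G) := fun _ hx =>
  mem_normalizer_of_le fun _ hg => FS_conj P C hx hg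

theorem inR_mem_AS {r : G} (hr : P.InR r) (s : Pl) (hs : s ∈ sgs) : r ∈ AS P s hs :=
  ⟨0, HasPar.of_inR P hr, tp_facts'.2.2.2 s hs, tp_facts'.2.2.1⟩

theorem conj_AS {s : Pl} {hs : s ∈ sgs} {m a : G} (hm : m ∈ normalizer (FS P s hs : Set G))
    (ha : a ∈ AS P s hs) : m * a * m⁻¹ ∈ AS P s hs := by
  rw [mem_AS_iff P C] at ha ⊢
  refine ⟨(mem_normalizer_iff.1 hm a).1 ha.1, ha.2.imp (fun e => by rw [e]; group) fun h => ?_⟩
  exact (isConj_iff.2 ⟨m, rfl⟩ : IsConj a _).symm.trans h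

variable {o e : G} (R : Rot P t K0 o e)
include R

/-- The rotation normalises each elementary abelian subgroup of order 64. -/
theorem o_norm_FS (s : Pl) (hs : s ∈ sgs) : o ∈ normalizer (FS P s hs : Set G) := by
  set N := normalizer (X0g z u t : Set G)
  have himg : ∀ n ∈ N, ∀ s : Pl, ∀ hs : s ∈ sgs, ∃ s', ∃ hs' : s' ∈ sgs,
      (FS P s hs).map (MulAut.conj n).toMonoidHom = FS P s' hs' := by
    intro n hn s hs
    refine eq_FS P C ?_ (by rw [LThreeFour.card_map_conj, card_FS P C]) ?_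
    · rintro _ ⟨g, hg, rfl⟩
      exact (mem_normalizer_iff.1 hn g).1 (FS_le P C s hs hg)
    · rintro _ ⟨g, hg, rfl⟩
      rw [← map_mul, FS_sq P C hg, map_one]
  have hcomp : ∀ a b : G, (FS P s hs).map (MulAut.conj (a * b)).toMonoidHom =
      ((FS P s hs).map (MulAut.conj b).toMonoidHom).map (MulAut.conj a).toMonoidHom := by
    intro a b
    ext g
    simp only [LThreeFour.mem_map_conj]
    rw [show (a * b)⁻¹ * g * (a * b) = b⁻¹ * (a⁻¹ * g * a) * b by group]
  obtain ⟨s', hs', e'⟩ := himg o R.o_norm s hs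
  obtain ⟨s'', hs'', e''⟩ := himg o R.o_norm s' hs'
  by_cases h : s' = s
  · subst h; exact LThreeFour.mem_normalizer_of_map_eq e'
  refine LThreeFour.mem_normalizer_of_map_eq ?_
  have h2 : o * o ∈ normalizer (FS P s hs : Set G) := by
    refine LThreeFour.mem_normalizer_of_map_eq ?_
    rw [hcomp, e', e'']
    have hne : s'' ≠ s' := by
      rintro rfl
      have hinj := Subgroup.map_injective (MulAut.conj o).injective
        (e''.trans e'.symm : (FS P s'' hs').map (MulAut.conj o).toMonoidHom = _)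
      obtain ⟨g, hg⟩ := HasPar.exists_elt P (((s'', (0, 0)), ((0, 0), (0, 0))) : W × W)
      have hgF : g ∈ FS P s'' hs' := ⟨_, hg, sgs_self _ hs'⟩
      rw [hinj] at hgF
      obtain ⟨p, hp, hp'⟩ := hgF
      rw [HasPar.ext_par P hp hg] at hp'
      have : ∀ a ∈ sgs, ∀ b ∈ sgs, FP b (((a, (0, 0)), ((0, 0), (0, 0))) : W × W) → a = b := by
        decide +kernel
      exact h (this _ hs' _ hs hp')
    have : ∀ a ∈ sgs, ∀ b ∈ sgs, ∀ c ∈ sgs, b ≠ a → c ≠ b → c = a := by decide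
    have hss : s'' = s := this _ hs _ hs' _ hs'' h hne
    subst hss; rfl
  obtain ⟨r, ⟨k, rfl⟩, hr⟩ := odd_pow P C H
  have hS := X0_le_normalizer_FS P C H s hs
    (hr o R.o_mem fun x hx => (mem_normalizer_iff.1 R.o_norm x).1 hx)
  apply LThreeFour.map_eq_of_mem_normalizer
  rw [show o = ((o * o) ^ k)⁻¹ * o ^ (2 * k + 1) by rw [← pow_two, ← pow_mul, pow_succ, inv_mul_cancel_left]]
  exact mul_mem (inv_mem (pow_mem h2 k)) hS

/-- The key step: the normaliser in the half of an elementary abelian subgroup of order 64 fixes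
`e`. -/
theorem M_fix_e (s : Pl) (hs : s ∈ sgs) {m : G} (hm : m ∈ K0)
    (hmF : m ∈ normalizer (FS P s hs : Set G)) : m * e * m⁻¹ = e := by
  classical
  set F := FS P s hs with hF
  set A := AS P s hs with hA
  set M := K0 ⊓ normalizer (F : Set G) with hM
  have hee : e * e = 1 := e_sq P C H R
  have het : e * t = t * e := e_comm_t P C H R
  have hMt : ∀ n ∈ M, n * t = t * n := fun n hn => mem_centralizer_singleton_iff.1 (H.le hn.1)
  have hX0M : X0g z u t ≤ M := le_inf H.X0_le (X0_le_normalizer_FS P C H s hs)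
  have heF : e ∈ F := ⟨pe, R.par, (zp_facts pe pe_facts.1).2.1 s hs⟩
  have htF : t ∈ F := ⟨tp, C.par, (zp_facts tp zp_gens.2.1).2.1 s hs⟩
  have hnotA : ∀ g p, HasPar P g p → ¬ TP p → g ∉ A := by
    rintro g p hp hnT ⟨q, hq, -, hqT⟩
    exact hnT (HasPar.ext_par P hp hq ▸ hqT)
  have hAc : ∀ n ∈ M, ∀ a ∈ A, n * a * n⁻¹ ∈ A := fun n hn a ha => conj_AS P C H hn.2 ha
  -- the elements sending `e` into `e A`
  let M1 : Subgroup G :=
    { carrier := {n | n ∈ M ∧ n * e * n⁻¹ * e ∈ A}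
      one_mem' := ⟨one_mem _, by rw [inv_one, one_mul, mul_one, hee]; exact one_mem _⟩
      mul_mem' := fun {a b} ha hb => ⟨mul_mem ha.1 hb.1, by
        have := mul_mem (hAc a ha.1 _ hb.2) ha.2
        rwa [show a * (b * e * b⁻¹ * e) * a⁻¹ * (a * e * a⁻¹ * e) =
          a * b * e * b⁻¹ * (e * e) * a⁻¹ * e by group, hee, mul_one,
          show a * b * e * b⁻¹ * a⁻¹ * e = a * b * e * (a * b)⁻¹ * e by group] at this⟩
      inv_mem' := fun {a} ha => ⟨inv_mem ha.1, by
        have := hAc a⁻¹ (inv_mem ha.1) _ (inv_mem ha.2)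
        rwa [show a⁻¹ * (a * e * a⁻¹ * e)⁻¹ * a⁻¹⁻¹ = a⁻¹ * e⁻¹ * a * e⁻¹ by group,
          inv_eq_of_mul_eq_one_right hee, show a⁻¹ * e * a * e = a⁻¹ * e * a⁻¹⁻¹ * e by group] at this⟩ }
  have hM1 : ∀ n, n ∈ M1 ↔ n ∈ M ∧ n * e * n⁻¹ * e ∈ A := fun n => Iff.rfl
  have hout : ∀ n ∈ M, n ∉ M1 → n * e * n⁻¹ * e * t ∈ A := by
    intro n hn hn1
    obtain ⟨q, hq, hqF⟩ : n * e * n⁻¹ ∈ F := (mem_normalizer_iff.1 hn.2 e).1 heF
    obtain ⟨c, hc, hc1, hc2, -⟩ := zp_split s hs q hqF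
    rcases pe_facts.2.2.2.2.2.2 c hc with rfl | rfl | rfl | rfl
    · exfalso
      rw [zero_add] at hc1 hc2
      have := hAc n⁻¹ (inv_mem hn) _ ⟨q, hq, hc1, hc2⟩
      rw [show n⁻¹ * (n * e * n⁻¹) * n⁻¹⁻¹ = e by group] at this
      exact hnotA e pe R.par tp_facts'.1 this
    · exfalso
      have h := HasPar.mul P hq C.par
      rw [add_comm] at h
      have := hAc n⁻¹ (inv_mem hn) _ ⟨_, h, hc1, hc2⟩
      rw [show n⁻¹ * (n * e * n⁻¹ * t) * n⁻¹⁻¹ = e * n⁻¹ * (t * n) by group, ← hMt n hn,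
        show e * n⁻¹ * (n * t) = e * t by group] at this
      exact hnotA _ _ (HasPar.mul P R.par C.par) tp_facts'.2.1 this
    · exact absurd ⟨hn, _, HasPar.mul P hq R.par, by rwa [add_comm], by rwa [add_comm]⟩ hn1
    · refine ⟨_, HasPar.mul P (HasPar.mul P hq R.par) C.par, ?_, ?_⟩
      · rwa [add_assoc, add_comm q]
      · rwa [add_assoc, add_comm q]
  have hall : ∀ n ∈ M, n ∈ M1 := by
    by_contra hcon
    push Not at hcon
    obtain ⟨a, ha, ha1⟩ := hcon
    have hswap : ∀ b ∈ M, b ∉ M1 → b * a ∈ M1 := by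
      intro b hb hb1
      refine ⟨mul_mem hb ha, ?_⟩
      have hbt := hMt b hb
      have := mul_mem (hAc b hb _ (hout a ha ha1)) (hout b hb hb1)
      rwa [show b * (a * e * a⁻¹ * e * t) * b⁻¹ * (b * e * b⁻¹ * e * t) =
          b * a * e * a⁻¹ * e * (t * e) * b⁻¹ * e * t by group, ← het,
        show b * a * e * a⁻¹ * e * (e * t) * b⁻¹ * e * t =
          b * a * e * a⁻¹ * (e * e) * (t * b⁻¹) * e * t by group, hee, mul_one,
        show t * b⁻¹ = b⁻¹ * t by rw [eq_inv_mul_iff_mul_eq, ← mul_assoc, hbt, mul_inv_cancel_right],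
        show b * a * e * a⁻¹ * (b⁻¹ * t) * e * t = b * a * e * (b * a)⁻¹ * ((t * e) * t) by group,
        ← het, mul_assoc e t t, C.sq, mul_one] at this
    have hidx : M1.relIndex M = 2 := by
      rw [relIndex, Subgroup.index_eq_two_iff]
      refine ⟨⟨a, ha⟩, fun b => ?_⟩
      simp only [mem_subgroupOf, Subgroup.coe_mul]
      by_cases hb : (b : G) ∈ M1
      · refine Or.inr ⟨hb, fun h => ha1 ?_⟩
        have := mul_mem (inv_mem hb) h
        rwa [inv_mul_cancel_left] at this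
      · exact Or.inl ⟨hswap b b.2 hb, hb⟩
    have hX0M1 : X0g z u t ≤ M1 := fun x hx => ⟨hX0M hx, by
      rw [e_central P C H R x hx, mul_inv_cancel_right, hee]; exact one_mem _⟩
    refine X0_sylow P C H ?_
    rw [← relIndex_mul_relIndex _ M K0 hX0M inf_le_left,
      ← relIndex_mul_relIndex _ M1 M hX0M1 (fun x hx => hx.1), hidx]
    exact (Dvd.intro_left _ rfl : 2 ∣ (X0g z u t).relIndex M1 * 2).mul_right _
  -- the stabiliser
  set St := M ⊓ centralizer ({e} : Set G) with hSt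
  have hX0St : X0g z u t ≤ St := le_inf hX0M fun x hx =>
    mem_centralizer_singleton_iff.2 (e_central P C H R x hx)
  have hStcard : 768 ≤ Nat.card St := by
    have hodd : ¬ 2 ∣ (X0g z u t).relIndex St := fun h => X0_sylow P C H (h.trans (by
      rw [← relIndex_mul_relIndex _ St K0 hX0St (inf_le_left.trans inf_le_left)]
      exact Dvd.intro _ rfl))
    have hne : (X0g z u t).relIndex St ≠ 1 := fun h1 => by
      have := (relIndex_eq_one.1 h1) (show o ∈ St from ⟨⟨R.o_mem, o_norm_FS P C H R s hs⟩,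
        mem_centralizer_singleton_iff.2 R.o_e⟩)
      have e' := R.o_z
      rw [(mem_X0g.1 this).1, mul_inv_cancel_right] at e'
      exact P.une e'.symm
    have hmul := ((X0g z u t).subgroupOf St).card_mul_index
    rw [Nat.card_congr (subgroupOfEquivOfLe hX0St).toEquiv, card_X0 P C,
      show ((X0g z u t).subgroupOf St).index = (X0g z u t).relIndex St from rfl] at hmul
    have : (X0g z u t).relIndex St ≠ 0 := fun h0 => hodd (h0 ▸ dvd_zero 2)
    omega
  have hMcard : Nat.card M ≤ 3840 := by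
    have hzA : z ∈ A := inR_mem_AS P C H (Or.inr (Or.inl rfl)) s hs
    have h15 : Nat.card {a : G // a ∈ (A : Set G) \ {1}} = 15 := by
      show Nat.card ↥((A : Set G) \ {1}) = 15
      rw [Nat.card_coe_set_eq, Set.ncard_sdiff (Set.singleton_subset_iff.2 (one_mem A)),
        Set.ncard_singleton, ← Nat.card_coe_set_eq]
      show Nat.card A - 1 = 15
      rw [hA, card_AS P C s hs]
    have := card_le_mul (H := X0g z u t)
      (fun n : M => (⟨(n : G) * z * (n : G)⁻¹, hAc _ n.2 _ hzA,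
        fun h => P.S.zne (conj_eq_one_iff.1 h)⟩ : {a : G // a ∈ (A : Set G) \ {1}}))
      fun a b h => normalizer_fix P C H (mul_mem (inv_mem a.2.1) b.2.1) (by
        have h' : (a : G) * z * (a : G)⁻¹ = (b : G) * z * (b : G)⁻¹ := congrArg Subtype.val h
        rw [← mul_inv_eq_iff_eq_mul, show (a : G)⁻¹ * b * z * ((a : G)⁻¹ * b)⁻¹ =
          (a : G)⁻¹ * ((b : G) * z * (b : G)⁻¹) * a by group, ← h']
        group)
    rw [h15, card_X0 P C] at this
    exact this
  -- the orbit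
  let InO : G → Prop := fun x => ∃ n ∈ M, n * e * n⁻¹ = x
  by_contra hmne
  obtain ⟨x0, hx0⟩ : ∃ x0, x0 = m * e * m⁻¹ := ⟨_, rfl⟩
  rw [← hx0] at hmne
  have hmM : m ∈ M := ⟨hm, hmF⟩
  have hx0F : x0 ∈ F := hx0 ▸ (mem_normalizer_iff.1 hmF e).1 heF
  obtain ⟨α, hαdef⟩ : ∃ α, α = e * x0 := ⟨_, rfl⟩
  have hαA : α ∈ A := by
    rw [hαdef, FS_comm P C heF hx0F, hx0]
    exact (hall m hmM).2
  obtain ⟨a, ha, haF, haT⟩ := hαA
  have hx0e : x0 = e * α := by rw [hαdef, ← mul_assoc, hee, one_mul]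
  have ha0 : a ≠ 0 := by
    intro ha0
    rw [ha0] at ha
    have hα := inR_central P C (HasPar.inR_of_zero P ha)
    have hc : ∀ x ∈ X0g z u t, x * x0 = x0 * x := fun x hx => by
      rw [hx0e, ← mul_assoc, e_central P C H R x hx, mul_assoc, hα x hx, ← mul_assoc]
    obtain ⟨n, hn, hnN, hne⟩ := burnside H.X0_le (X0_pGroup P C H) (X0_sylow P C H)
      (e_central P C H R) hc hm hx0.symm
    rw [normalizer_fixes P C H R hn (mem_normalizer_of_le hnN) (Or.inr (Or.inr (Or.inl rfl)))] at hne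
    exact hmne hne.symm
  have horb : ∀ i j : ZMod 2, InO (e * (P.cz i j * α)) := by
    intro i j
    obtain ⟨q, hqC, h1, h2⟩ := cp_surj s hs a haF haT ha0 i j
    obtain ⟨x, hx⟩ := HasPar.exists_elt P q
    have hxX : x ∈ X0g z u t := (mem_X0_iff P C).2 ⟨q, hx, hqC⟩
    have hr := HasPar.rel P ha hx
    rw [Pair.Rel, h1, h2] at hr
    refine ⟨x⁻¹ * m, mul_mem (inv_mem (hX0M hxX)) hmM, ?_⟩
    rw [show x⁻¹ * m * e * (x⁻¹ * m)⁻¹ = x⁻¹ * (m * e * m⁻¹) * x by group, ← hx0, hx0e,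
      show x⁻¹ * (e * α) * x = x⁻¹ * e * (α * x) by group, hr,
      ← e_central P C H R x⁻¹ (inv_mem hxX) |> fun h => h.symm]
    calc e * x⁻¹ * (P.cz i j * (x * α)) = e * (x⁻¹ * P.cz i j * x * α) := by group
      _ = e * (P.cz i j * α) := by
        rw [inR_central P C (P.inR_cz i j) _ (inv_mem hxX), inv_mul_cancel_right]
  let w : Option (ZMod 2 × ZMod 2) → G := fun k => k.elim e fun ij => e * (P.cz ij.1 ij.2 * α)
  have hwO : ∀ k, InO (w k) := by
    rintro (_ | ⟨i, j⟩)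
    · exact ⟨1, one_mem _, by simp [w]⟩
    · exact horb i j
  have hαR : ∀ i j, P.cz i j * α ≠ 1 := by
    intro i j h
    have := HasPar.mul P (HasPar.of_inR P (P.inR_cz i j)) ha
    rw [h, zero_add] at this
    exact ha0 (HasPar.ext_par P this (HasPar.one P))
  have hwinj : Function.Injective w := by
    rintro (_ | ⟨i, j⟩) (_ | ⟨i', j'⟩) h <;> simp only [w, Option.elim_none, Option.elim_some] at h
    · rfl
    · exact absurd (mul_eq_left.1 h.symm) (hαR _ _)
    · exact absurd (mul_eq_left.1 h) (hαR _ _)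
    · have h' := mul_right_cancel (mul_left_cancel h)
      have h0 : P.cz (i + i') (j + j') = 1 := by
        rw [P.cz_add, h', ← P.cz_add, z2_self, z2_self, P.cz_zero]
      obtain ⟨h1, h2⟩ := P.cz_eq_one h0
      rw [CharTwo.add_eq_zero.1 h1, CharTwo.add_eq_zero.1 h2]
  have hO : ∀ x, InO x → ∃ k, w k = x := by
    intro x hx
    by_contra hcon
    push Not at hcon
    let w' : Option (Option (ZMod 2 × ZMod 2)) → G := fun k => k.elim x w
    have hw' : ∀ k, InO (w' k) := by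
      rintro (_ | k)
      · exact hx
      · exact hwO k
    choose n hn hne using hw'
    have h6 := mul_card_le (H := St) inf_le_left n hn fun i j hij => by
      have e' : w' i = w' j := by
        have hc : (n i)⁻¹ * n j * e = e * ((n i)⁻¹ * n j) := mem_centralizer_singleton_iff.1 hij.2
        rw [← mul_inv_eq_iff_eq_mul] at hc
        rw [← hne i, ← hne j]
        conv_lhs => rw [← hc]
        group
      rcases i with _ | i <;> rcases j with _ | j
      · rfl
      · exact absurd e'.symm (hcon j)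
      · exact absurd e' (hcon i)
      · exact congrArg some (hwinj e')
    rw [show Nat.card (Option (Option (ZMod 2 × ZMod 2))) = 6 by
      rw [Nat.card_eq_fintype_card]; rfl] at h6
    omega
  have hf : ∀ i j, P.cz i j ≠ 1 → ∃ i' j', m⁻¹ * P.cz i j * m = P.cz i' j' * α := by
    intro i j hne
    obtain ⟨n, hn, hne'⟩ := horb i j
    obtain ⟨k, hk⟩ := hO (e * (m⁻¹ * P.cz i j * m)) ⟨m⁻¹ * n, mul_mem (inv_mem hmM) hn, by
      rw [show m⁻¹ * n * e * (m⁻¹ * n)⁻¹ = m⁻¹ * (n * e * n⁻¹) * m by group, hne',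
        FS_comm P C (hs := hs) (g := P.cz i j) (h := α)
          ((mem_AS_iff P C).1 (inR_mem_AS P C H (P.inR_cz i j) s hs)).1
          ⟨a, ha, haF⟩, ← mul_assoc e α, ← hx0e, hx0]
      group⟩
    rcases k with _ | ⟨i', j'⟩
    · exfalso
      simp only [w, Option.elim_none] at hk
      exact hne (conj_eq_one_iff (a := m⁻¹) |>.1 (by rw [inv_inv]; exact mul_eq_left.1 hk.symm))
    · exact ⟨i', j', (mul_left_cancel hk).symm⟩
  obtain ⟨i1, j1, f1⟩ := hf 1 0 fun h => absurd (P.cz_eq_one h).1 (by decide)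
  obtain ⟨i2, j2, f2⟩ := hf 0 1 fun h => absurd (P.cz_eq_one h).2 (by decide)
  obtain ⟨i3, j3, f3⟩ := hf 1 1 fun h => absurd (P.cz_eq_one h).1 (by decide)
  rw [show (P.cz (1 : ZMod 2) 1) = P.cz (1 + 0) (0 + 1) from rfl, P.cz_add,
    show m⁻¹ * (P.cz 1 0 * P.cz 0 1) * m = m⁻¹ * P.cz 1 0 * m * (m⁻¹ * P.cz 0 1 * m) by group,
    f1, f2] at f3
  have hpar : ∀ i j, HasPar P (P.cz i j * α) a := fun i j => by
    simpa using HasPar.mul P (HasPar.of_inR P (P.inR_cz i j)) ha
  have h12 := HasPar.mul P (hpar i1 j1) (hpar i2 j2)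
  rw [f3, par_self] at h12
  exact ha0 (HasPar.ext_par P (hpar i3 j3) h12)

/-- The normaliser in the half of an elementary abelian subgroup of order 64 fixes the four group. -/
theorem M_fix (s : Pl) (hs : s ∈ sgs) {m f : G} (hm : m ∈ K0)
    (hmF : m ∈ normalizer (FS P s hs : Set G)) (hf : f ∈ fourE P C H R) : m * f * m⁻¹ = f := by
  have he := M_fix_e P C H R s hs hm hmF
  have ht : m * t * m⁻¹ = t := by
    rw [mem_centralizer_singleton_iff.1 (H.le hm), mul_inv_cancel_right]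
  rcases hf with rfl | rfl | rfl | rfl
  · group
  · exact ht
  · exact he
  · rw [show m * (e * t) * m⁻¹ = m * e * m⁻¹ * (m * t * m⁻¹) by group, he, ht]

/-- An element of the four group has no other conjugate in the Sylow 2-subgroup. -/
theorem weakly_closed {f g : G} (hf : f ∈ fourE P C H R) (hg : g ∈ K0)
    (hgX : g * f * g⁻¹ ∈ X0g z u t) : g * f * g⁻¹ = f := by
  obtain ⟨p, hp, hpC⟩ := (mem_X0_iff P C).1 hgX
  have hfX := four_le P C H R hf
  have hfc := four_central P C H R hf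
  by_cases hZ : ZP p
  · obtain ⟨n, hn, hnN, hne⟩ := burnside H.X0_le (X0_pGroup P C H) (X0_sylow P C H) hfc
      ((central_iff P C hgX hp).2 hZ) hg rfl
    rw [← hne]
    exact normalizer_fixes P C H R hn (mem_normalizer_of_le hnN) hf
  have hsq : g * f * g⁻¹ * (g * f * g⁻¹) = 1 := by
    rw [show g * f * g⁻¹ * (g * f * g⁻¹) = g * (f * f) * g⁻¹ by group, four_sq P C H R hf]; group
  obtain ⟨s, hs, hps⟩ := fp_cover p hpC ((sq_eq_one_iff P C hp).1 hsq)
  set F := FS P s hs with hF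
  have hgF : g * f * g⁻¹ ∈ F := ⟨p, hp, hps⟩
  obtain ⟨c, hc, hcR⟩ := exists_conj_le (K := K0 ⊓ centralizer ({f} : Set G))
    (R := F.map (MulAut.conj g⁻¹).toMonoidHom)
    (le_inf H.X0_le fun x hx => mem_centralizer_singleton_iff.2 (hfc x hx)) (X0_pGroup P C H)
    (fun h => X0_sylow P C H (h.trans (by
      rw [← relIndex_mul_relIndex _ (K0 ⊓ centralizer ({f} : Set G)) K0
        (le_inf H.X0_le fun x hx => mem_centralizer_singleton_iff.2 (hfc x hx)) inf_le_left]
      exact Dvd.intro _ rfl))) (by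
    rintro _ ⟨x, hx, rfl⟩
    simp only [MulEquiv.coe_toMonoidHom, MulAut.conj_apply, inv_inv]
    refine mem_inf.2 ⟨mul_mem (mul_mem (inv_mem hg) (H.X0_le (FS_le P C s hs hx))) hg,
      mem_centralizer_singleton_iff.2 ?_⟩
    calc g⁻¹ * x * g * f = g⁻¹ * (x * (g * f * g⁻¹)) * g := by group
      _ = f * (g⁻¹ * x * g) := by rw [FS_comm P C hx hgF]; group)
    (((X0_pGroup P C H).to_le (FS_le P C s hs)).map _)
  set g' := g * c⁻¹ with hg'
  obtain ⟨s', hs', hF'⟩ := eq_FS P C (H := F.map (MulAut.conj g'⁻¹).toMonoidHom) (by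
      rintro _ ⟨x, hx, rfl⟩
      simp only [MulEquiv.coe_toMonoidHom, MulAut.conj_apply, inv_inv, hg']
      rw [show (g * c⁻¹)⁻¹ * x * (g * c⁻¹) = c * (g⁻¹ * x * g) * c⁻¹ by group]
      exact hcR _ ⟨x, hx, by simp⟩)
    (by rw [LThreeFour.card_map_conj, card_FS P C]) (by
      rintro _ ⟨x, hx, rfl⟩
      rw [← map_mul, FS_sq P C hx, map_one])
  have hg'K : g' ∈ K0 := mul_mem hg (inv_mem hc.1)
  have hg'f : g' * f * g'⁻¹ = g * f * g⁻¹ := by
    have hcf : c⁻¹ * f * c = f := by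
      rw [mul_assoc, ← mem_centralizer_singleton_iff.1 hc.2, inv_mul_cancel_left]
    calc g' * f * g'⁻¹ = g * (c⁻¹ * f * c) * g⁻¹ := by rw [hg']; group
      _ = g * f * g⁻¹ := by rw [hcf]
  have hXF : X0g z u t ≤ K0 ⊓ normalizer (F : Set G) := le_inf H.X0_le (X0_le_normalizer_FS P C H s hs)
  obtain ⟨k, hk, hkR⟩ := exists_conj_le hXF (X0_pGroup P C H)
    (fun h => X0_sylow P C H (h.trans (by
      rw [← relIndex_mul_relIndex _ _ K0 hXF inf_le_left]; exact Dvd.intro _ rfl)))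
    (R := (X0g z u t).map (MulAut.conj g').toMonoidHom) (by
      rintro _ ⟨x, hx, rfl⟩
      simp only [MulEquiv.coe_toMonoidHom, MulAut.conj_apply]
      refine mem_inf.2 ⟨mul_mem (mul_mem hg'K (H.X0_le hx)) (inv_mem hg'K), mem_normalizer_of_le fun y hy => ?_⟩
      have hy' : g'⁻¹ * y * g' ∈ FS P s' hs' := hF' ▸ ⟨y, hy, by simp⟩
      have := FS_conj P C hx hy'
      rw [← hF'] at this
      obtain ⟨w, hw, hwe⟩ := this
      simp only [MulEquiv.coe_toMonoidHom, MulAut.conj_apply, inv_inv] at hwe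
      rw [show g' * x * g'⁻¹ * y * (g' * x * g'⁻¹)⁻¹ = w by
        rw [show w = g' * (g'⁻¹ * w * g') * g'⁻¹ by group, hwe]; group]
      exact hw)
    ((X0_pGroup P C H).map _)
  have hn : k * g' ∈ normalizer (X0g z u t : Set G) := mem_normalizer_of_le fun x hx => by
    rw [show k * g' * x * (k * g')⁻¹ = k * (g' * x * g'⁻¹) * k⁻¹ by group]
    exact hkR _ ⟨x, hx, by simp⟩
  have e1 := normalizer_fixes P C H R (mul_mem hk.1 hg'K) hn hf
  have e2 := M_fix P C H R s hs (inv_mem hk.1) (inv_mem hk.2) hf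
  rw [← hg'f, show g' * f * g'⁻¹ = k⁻¹ * (k * g' * f * (k * g')⁻¹) * k⁻¹⁻¹ by group, e1, e2]

end CfsgLib.InvChar.SuzT
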